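import Cfsg.Agent.Lib.Helper48.JC7

/-!
`J(T)`-components: the normalizer of a component in a member of `ℒ(T)`.
-/

set_option autoImplicit false

namespace Cfsg.Agent.Lib.Helper48

open Subgroup
open scoped commutatorElement
open Cfsg.Agent.Lib.Helper22 (conjS mem_conjS conjS_mem conjS_mul conjS_one conjS_eq_of_mem_normalizer)
open Cfsg.Agent.Lib.Helper47 (IsSylowIn)

universe u

variable {G : Type u} [Group G] [Finite G] {T L K : Subgroup G}

/-- `V_L`, in the ambient group -/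
abbrev VG (L : Subgroup G) : Subgroup G := (VV 2 ↥L).map L.subtype

theorem le_normalizer_VG (L : Subgroup G) : L ≤ normalizer (VG L : Set G) := by
  haveI : (VV 2 ↥L).Normal := inferInstance
  exact (Cfsg.Agent.Lib.Helper46.map_subtype_normal_iff _).mp this

theorem omegaOne_center_le_VG (hsyl : IsSylowIn 2 T L) :
    Cfsg.omegaOne 2 (T ⊓ centralizer (T : Set G)) ≤ VG L := by
  rw [← omegaOne_center_subgroupOf hsyl.le]
  apply map_mono
  have := omegaOne_le_VV hsyl.toSylow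
  rwa [hsyl.coe_toSylow] at this

theorem wOf_eq_map (zn : ZN G) (hT1 : T ≠ ⊥) (hLT : L ∈ Cfsg.jOvergroups T)
    (hK : Cfsg.IsJComponent T K) (hKL : K ≤ L) (hne : Cfsg.wOf K ⊓ VG L ≠ ⊥) :
    Cfsg.wOf K = (⁅VV 2 ↥L, K.subgroupOf L⁆).map L.subtype := by
  obtain ⟨d, hd⟩ := exists_jd hK
  have hW4 := hK.2.2.2.2.1
  have hdW : d ∈ normalizer (Cfsg.wOf K : Set G) :=
    normalizer_le_normalizer_wOf K (le_normalizer hd.hdK)
  have hdV : d ∈ normalizer (VG L : Set G) := le_normalizer_VG L (hKL hd.hdK)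
  have h1 : Cfsg.wOf K ⊓ VG L = Cfsg.wOf K :=
    hd.eq_wOf_of_le hW4 inf_le_left hne
      (Cfsg.Agent.Lib.Helper62.le_normalizer_inf (A := zpowers d) (zpowers_le.mpr hdW)
        (zpowers_le.mpr hdV) (mem_zpowers d))
  have h2 : Cfsg.wOf K ≤ VG L := inf_eq_left.mp h1
  apply eq_of_le_of_card_ge
  · rw [Subgroup.map_commutator, map_subgroupOf_eq_of_le hKL]
    conv_lhs => rw [← hd.comm_wOf]
    exact commutator_mono h2 hd.D_le
  · rw [Subgroup.card_map_of_injective L.subtype_injective, hW4,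
      (jcx_of_isJComponent (isSylowIn_of_two hLT.1) hK hKL).card_commutator_VV
        (lx_of_mem zn hT1 hLT)]

theorem mem_normalizer_of_wOf (zn : ZN G) (hT1 : T ≠ ⊥) (hLT : L ∈ Cfsg.jOvergroups T)
    (hK : Cfsg.IsJComponent T K) (hKL : K ≤ L) (hne : Cfsg.wOf K ⊓ VG L ≠ ⊥) {g : G} (hgL : g ∈ L)
    (hg : conjS g (Cfsg.wOf K) ⊓ Cfsg.wOf K ≠ ⊥) : g ∈ normalizer (K : Set G) := by
  have hW := wOf_eq_map zn hT1 hLT hK hKL hne
  have h1 : (⟨g, hgL⟩ : ↥L) ∈ normalizer ((K.subgroupOf L : Subgroup ↥L) : Set ↥L) := by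
    apply (jcx_of_isJComponent (isSylowIn_of_two hLT.1) hK hKL).mem_normalizer_of_inf_ne_bot
      (lx_of_mem zn hT1 hLT)
    intro hbot
    apply hg
    rw [eq_bot_iff]
    intro z hz
    obtain ⟨⟨y, hy, hyz⟩, hz2⟩ := mem_inf.mp hz
    rw [SetLike.mem_coe, hW] at hy
    rw [hW] at hz2
    obtain ⟨y', hy', rfl⟩ := hy
    obtain ⟨z', hz', rfl⟩ := hz2
    have h2 : z' ∈ conjS (⟨g, hgL⟩ : ↥L) ⁅VV 2 ↥L, K.subgroupOf L⁆ ⊓ ⁅VV 2 ↥L, K.subgroupOf L⁆ := by
      refine mem_inf.mpr ⟨⟨y', hy', ?_⟩, hz'⟩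
      apply Subtype.ext
      exact hyz
    rw [hbot, mem_bot] at h2
    rw [h2]
    exact one_mem _
  rw [← subgroupOf_normalizer_eq hKL] at h1
  exact mem_subgroupOf.mp h1

end Cfsg.Agent.Lib.Helper48
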