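import Cfsg.Agent.Lib.Helper48.JC12

/-!
`J(T)`-components: `Ω₁(Z(J(T)))`.
-/

set_option autoImplicit false

namespace Cfsg.Agent.Lib.Helper48

open Subgroup
open scoped commutatorElement
open Cfsg.Agent.Lib.Helper22 (conjS mem_conjS conjS_mem conjS_mul conjS_one conjS_eq_of_mem_normalizer)
open Cfsg.Agent.Lib.Helper47 (IsSylowIn)
open Cfsg.Agent.Lib.Helper11 (IsMaxIn)

universe u

variable {G : Type u} [Group G] [Finite G] {T K S A : Subgroup G} {d a₁ : G}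

namespace JA

theorem Z0_le (T : Subgroup G) : Cfsg.omegaCenterOf (Cfsg.thompsonSubgroupOf 2 T) ≤
    Cfsg.thompsonSubgroupOf 2 T ⊓ centralizer (Cfsg.thompsonSubgroupOf 2 T : Set G) :=
  omegaCenterOf_le _

theorem mem_Z0 {T : Subgroup G} {x : G} (h1 : x ∈ Cfsg.thompsonSubgroupOf 2 T)
    (h2 : x ∈ centralizer (Cfsg.thompsonSubgroupOf 2 T : Set G)) (h3 : x ^ 2 = 1) :
    x ∈ Cfsg.omegaCenterOf (Cfsg.thompsonSubgroupOf 2 T) :=
  Subgroup.subset_closure ⟨mem_inf.mpr ⟨h1, h2⟩, h3⟩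

theorem card_W_inf_cent_J (h : JA T K S d A a₁) :
    Nat.card (Cfsg.wOf K ⊓ centralizer (Cfsg.thompsonSubgroupOf 2 T : Set G) : Subgroup G) = 2 :=
  h.js.card_inf_cent_of h.js.isPGroup_J (le_sup_right.trans h.js.H_le_W) h.js.J_not_le

theorem Z0_inf_W (h : JA T K S d A a₁) :
    Cfsg.omegaCenterOf (Cfsg.thompsonSubgroupOf 2 T) ⊓ Cfsg.wOf K =
      Cfsg.wOf K ⊓ centralizer (Cfsg.thompsonSubgroupOf 2 T : Set G) := by
  apply le_antisymm
  · exact le_inf inf_le_right (inf_le_left.trans ((Z0_le T).trans inf_le_right))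
  · intro u hu
    obtain ⟨huW, huC⟩ := mem_inf.mp hu
    have hu2 : u ^ 2 = 1 := by rw [pow_two]; exact h.js.hK.2.2.2.2.2 u huW
    have huA : u ∈ A := (h.js.mea_S h.hA).mem_of_commute (h.js.P_le_S (JS.W_le_P K huW)) hu2
      (centralizer_le h.A_le_J huC)
    exact mem_inf.mpr ⟨mem_Z0 (h.A_le_J huA) huC hu2, huW⟩

theorem S_le_normalizer_J (h : JA T K S d A a₁) :
    S ≤ normalizer (Cfsg.thompsonSubgroupOf 2 T : Set G) := by
  rw [← h.js.J_eq]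
  exact le_normalizer.trans (normalizer_le_normalizer_thompsonSubgroupOf 2 S)

/-- `[z, x] ∈ C_W(J)` for `z ∈ Z₀ `, `x ∈ O_2(K)` -/
theorem comm_mem (h : JA T K S d A a₁) {z x : G}
    (hz : z ∈ Cfsg.omegaCenterOf (Cfsg.thompsonSubgroupOf 2 T)) (hx : x ∈ Cfsg.pCoreOf 2 K) :
    ⁅z, x⁆ ∈ Cfsg.wOf K ⊓ centralizer (Cfsg.thompsonSubgroupOf 2 T : Set G) := by
  have hv : ⁅z, x⁆ ∈ Cfsg.wOf K :=
    h.comm_NN_K (commutator_mem_commutator (h.Z0_le_NN hz)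
      (Cfsg.Agent.Lib.Helper49.pCoreOf_le 2 K hx))
  refine mem_inf.mpr ⟨hv, ?_⟩
  have hzC := (mem_inf.mp (Z0_le T hz)).2
  rw [mem_centralizer_iff]
  intro a ha
  have hyJ : ⁅a, x⁆ ∈ Cfsg.thompsonSubgroupOf 2 T := by
    have h1 := (mem_normalizer_iff.mp (h.S_le_normalizer_J (h.js.P_le_S hx)) a⁻¹).mp (inv_mem ha)
    have e : ⁅a, x⁆ = a * (x * a⁻¹ * x⁻¹) := by rw [commutatorElement_def]; group
    rw [e]
    exact mul_mem ha h1
  have hyP : ⁅a, x⁆ ∈ Cfsg.pCoreOf 2 K := by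
    have h1 := (mem_normalizer_iff.mp (h.js.H_le_P (mem_sup_right ha)) x).mp hx
    rw [commutatorElement_def]
    exact mul_mem h1 (inv_mem hx)
  have h1 : a * z = z * a := mem_centralizer_iff.mp hzC a ha
  have h2 : ⁅a, x⁆ * z = z * ⁅a, x⁆ := mem_centralizer_iff.mp hzC _ hyJ
  have h3 : ⁅z, x⁆ * ⁅a, x⁆ = ⁅a, x⁆ * ⁅z, x⁆ := mem_centralizer_iff.mp (JS.P_le_cent K hyP) _ hv
  -- `a [z,x] a⁻¹ = [z, y x] = y [z,x] y⁻¹`
  have e1 : a * ⁅z, x⁆ * a⁻¹ = ⁅a * z * a⁻¹, ⁅a, x⁆ * x⁆ := by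
    simp only [commutatorElement_def]
    group
  have e2 : a * z * a⁻¹ = z := by rw [h1]; group
  have e3 : ⁅z, ⁅a, x⁆ * x⁆ = (z * ⁅a, x⁆) * x * z⁻¹ * x⁻¹ * ⁅a, x⁆⁻¹ := by
    rw [commutatorElement_def z]
    group
  have e4 : (⁅a, x⁆ * z) * x * z⁻¹ * x⁻¹ * ⁅a, x⁆⁻¹ = ⁅a, x⁆ * ⁅z, x⁆ * ⁅a, x⁆⁻¹ := by
    rw [commutatorElement_def z]
    group
  rw [e2, e3, ← h2, e4, ← h3, mul_inv_cancel_right] at e1
  rw [mul_inv_eq_iff_eq_mul] at e1
  exact e1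

theorem decomp (h : JA T K S d A a₁) {z : G}
    (hz : z ∈ Cfsg.omegaCenterOf (Cfsg.thompsonSubgroupOf 2 T)) :
    ∃ w c, w ∈ Cfsg.omegaCenterOf (Cfsg.thompsonSubgroupOf 2 T) ⊓ Cfsg.wOf K ∧
      c ∈ Cfsg.omegaCenterOf (Cfsg.thompsonSubgroupOf 2 T) ∧
      c ∈ centralizer ((K ⊔ Cfsg.thompsonSubgroupOf 2 T : Subgroup G) : Set G) ∧ w * c = z := by
  haveI : Fact (Nat.Prime 3) := ⟨Nat.prime_three⟩
  set N := NN T K A with hN
  set J := Cfsg.thompsonSubgroupOf 2 T with hJ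
  have hcomm := (Cfsg.Agent.Lib.Helper10.isEA_iff.mp h.isEA_NN).1
  have hdH : d ∈ K ⊔ J := mem_sup_left h.js.hd.hdK
  have hDN : zpowers d ≤ normalizer (N : Set G) := zpowers_le.mpr (H_le_normalizer_NN T K A hdH)
  have h3 : ¬ 3 ∣ Nat.card N := by
    obtain ⟨n, hn⟩ := IsPGroup.iff_card.mp (Cfsg.Agent.Lib.Helper10.IsEA.isPGroup h.isEA_NN)
    rw [hn]
    intro h3
    have := Nat.Prime.dvd_of_dvd_pow Nat.prime_three h3
    norm_num at this
  have hdec := Cfsg.Agent.Lib.Helper22.commutator_sup_centralizer (zpowers d) N h.js.hd.isPGroup_D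
    h3 hDN
  have hND : ⁅N, zpowers d⁆ ≤ N := le_normalizer_iff_commutator_le_left.mp hDN
  have hn : N ⊓ centralizer (zpowers d : Set G) ≤
      normalizer ((⁅N, zpowers d⁆ : Subgroup G) : Set G) := by
    refine LE.le.trans ?_ (centralizer_le_normalizer _)
    intro c hc
    rw [mem_centralizer_iff]
    intro x hx
    exact hcomm x (hND hx) c (mem_inf.mp hc).1
  have hzN : z ∈ ⁅N, zpowers d⁆ ⊔ (N ⊓ centralizer (zpowers d : Set G)) := by
    rw [hdec]; exact h.Z0_le_NN hz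
  obtain ⟨w, hw, c, hc, hwc⟩ := (Cfsg.Agent.Lib.Helper22.mem_sup_of_le_normalizer hn).mp hzN
  obtain ⟨hcN, hcD⟩ := mem_inf.mp hc
  have hwW : w ∈ Cfsg.wOf K := h.comm_NN_K (commutator_mono le_rfl h.js.hd.D_le hw)
  have hzC := (mem_inf.mp (Z0_le T hz)).2
  -- `[c, x] = [z, x]`
  have hcx : ∀ x ∈ Cfsg.pCoreOf 2 K, ⁅c, x⁆ ∈ Cfsg.wOf K ⊓ centralizer (J : Set G) := by
    intro x hx
    have h1 := h.comm_mem hz hx
    have hv : ⁅c, x⁆ ∈ Cfsg.wOf K :=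
      h.comm_NN_K (commutator_mem_commutator hcN (Cfsg.Agent.Lib.Helper49.pCoreOf_le 2 K hx))
    have h2 : w * x = x * w := mem_centralizer_iff.mp (JS.P_le_cent K hx) w hwW
    have h4 : w * ⁅c, x⁆ = ⁅c, x⁆ * w := hcomm w (h.W_le_NN hwW) _ (h.W_le_NN hv)
    have e : ⁅z, x⁆ = ⁅c, x⁆ := by
      rw [← hwc]
      have e1 : ⁅w * c, x⁆ = w * ⁅c, x⁆ * (x * w⁻¹ * x⁻¹) := by
        simp only [commutatorElement_def]
        group
      have e2 : x * w⁻¹ * x⁻¹ = w⁻¹ := by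
        have : x * w⁻¹ = w⁻¹ * x := by
          rw [eq_inv_mul_iff_mul_eq, ← mul_assoc, h2, mul_inv_cancel_right]
        rw [this, mul_inv_cancel_right]
      rw [e1, e2, h4, mul_inv_cancel_right]
    rwa [e] at h1
  have hcard := h.card_W_inf_cent_J
  have hcP : ∀ x ∈ Cfsg.pCoreOf 2 K, ⁅c, x⁆ = 1 := by
    intro x hx
    by_contra hv1
    have hv := hcx x hx
    have hZz : Cfsg.wOf K ⊓ centralizer (J : Set G) = zpowers ⁅c, x⁆ :=
      eq_zpowers_of_card_prime hcard hv hv1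
    have hdv : d * ⁅c, x⁆ * d⁻¹ ∈ Cfsg.wOf K ⊓ centralizer (J : Set G) := by
      have hdx : d * x * d⁻¹ ∈ Cfsg.pCoreOf 2 K := (mem_normalizer_iff.mp (h.js.H_le_P hdH) x).mp hx
      have h1 := hcx _ hdx
      have hdc : d * c * d⁻¹ = c := by
        have := mem_centralizer_iff.mp hcD d (mem_zpowers d)
        rw [this, mul_inv_cancel_right]
      have e : d * ⁅c, x⁆ * d⁻¹ = ⁅d * c * d⁻¹, d * x * d⁻¹⁆ := by
        simp only [commutatorElement_def]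
        group
      rw [e, hdc]
      exact h1
    have hdn : d ∈ normalizer ((Cfsg.wOf K ⊓ centralizer (J : Set G) : Subgroup G) : Set G) := by
      apply Cfsg.Agent.Lib.Helper50.mem_normalizer_of_map_conj_le
      conv_lhs => rw [hZz]
      rw [MonoidHom.map_zpowers, zpowers_le]
      exact hdv
    have h5 := h.js.hd.eq_wOf_of_le h.js.hK.2.2.2.2.1 inf_le_left (by
      intro hbot
      rw [hbot, card_bot] at hcard
      norm_num at hcard) hdn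
    rw [h5, h.js.hK.2.2.2.2.1] at hcard
    norm_num at hcard
  have hcK : c ∈ centralizer (K : Set G) := by
    rw [← h.js.hd.hsup]
    apply mem_centralizer_sup _ hcD
    rw [mem_centralizer_iff]
    intro x hx
    exact (commutatorElement_eq_one_iff_mul_comm.mp (hcP x hx)).symm
  have hcJ : c ∈ centralizer (J : Set G) := by
    rw [mem_centralizer_iff]
    intro a ha
    have haK : a ∈ normalizer (K : Set G) := h.js.H_le (mem_sup_right ha)
    have h1 : a * c * a⁻¹ ∈ centralizer (K : Set G) := Cfsg.Agent.S2909.conj_mem_centralizer haK hcK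
    have h2 : a * z = z * a := mem_centralizer_iff.mp hzC a ha
    have h4 : a * w * a⁻¹ ∈ Cfsg.wOf K :=
      (mem_normalizer_iff.mp (h.js.H_le_W (mem_sup_right ha)) w).mp hwW
    have e : a * c * a⁻¹ * c⁻¹ = (a * w * a⁻¹)⁻¹ * w := by
      have e1 : (a * w * a⁻¹) * (a * c * a⁻¹) = w * c := by
        calc (a * w * a⁻¹) * (a * c * a⁻¹) = a * (w * c) * a⁻¹ := by group
          _ = w * c := by rw [hwc, h2, mul_inv_cancel_right]
      rw [eq_inv_mul_iff_mul_eq, ← mul_assoc, e1, mul_inv_cancel_right]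
    have h5 : a * c * a⁻¹ * c⁻¹ ∈ Cfsg.wOf K ⊓ centralizer (zpowers d : Set G) := by
      refine mem_inf.mpr ⟨e ▸ mul_mem (inv_mem h4) hwW, ?_⟩
      exact centralizer_le h.js.hd.D_le (mul_mem h1 (inv_mem hcK))
    rw [h.js.hd.wOf_inf_centralizer, mem_bot, mul_inv_eq_one, mul_inv_eq_iff_eq_mul] at h5
    exact h5
  have hcJ' : c ∈ J := h.NN_le_J hcN
  have hc2 : c ^ 2 = 1 := h.isEA_NN.2 c hcN
  have hcZ : c ∈ Cfsg.omegaCenterOf J := mem_Z0 hcJ' hcJ hc2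
  have hwZ : w ∈ Cfsg.omegaCenterOf J := by
    have : w = z * c⁻¹ := by rw [← hwc, mul_inv_cancel_right]
    rw [this]
    exact mul_mem hz (inv_mem hcZ)
  exact ⟨w, c, mem_inf.mpr ⟨hwZ, hwW⟩, hcZ, mem_centralizer_sup hcK hcJ, hwc⟩

end JA

end Cfsg.Agent.Lib.Helper48
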