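import Cfsg.Agent.Lib.Helper48.JC20

/-!
A member of `ℒ(T)` is generated by `N(J(T))` and its `J(T)`-components.
-/

set_option autoImplicit false

namespace Cfsg.Agent.Lib.Helper48

open Subgroup
open scoped commutatorElement
open Cfsg.Agent.Lib.Helper22 (conjS mem_conjS conjS_mem conjS_mul conjS_one conjS_eq_of_mem_normalizer)
open Cfsg.Agent.Lib.Helper47 (IsSylowIn)
open Cfsg.Agent.Lib.Helper11 (IsMaxIn)
open JCX (Vb Hb)

universe u

section

variable {X : Type u} [Group X] [Finite X] {S : Sylow 2 X}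

theorem LX.eq_top_of (h : LX S) (Y : Subgroup X)
    (hN : normalizer (Cfsg.thompsonSubgroupOf 2 (S : Subgroup X) : Set X) ≤ Y)
    (hK : ∀ K, Cfsg.IsJComponent (S : Subgroup X) K → K ≤ Y) : Y = ⊤ := by
  obtain ⟨hg, -⟩ := fg_thompson h.hsep h.hO h.hnf
  haveI hJXc : (Cfsg.thompsonSubgroup 2 X).Characteristic :=
    (Cfsg.Agent.S0602.result (G := X) (p := 2)).1
  have hCY : centralizer (VV 2 X : Set X) ≤ Y := h.hCJ.trans hN
  have hSY : (S : Subgroup X) ≤ Y :=
    (le_normalizer.trans (normalizer_le_normalizer_thompsonSubgroupOf 2 _)).trans hN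
  have hsyl : IsSylowIn 2 ((S : Subgroup X) ⊓ Cfsg.thompsonSubgroup 2 X)
      (Cfsg.thompsonSubgroup 2 X) :=
    (Cfsg.Agent.Lib.Helper47.isSylowIn_top S).inf_of_normal le_top
      (by rw [normalizer_eq_top])
  have hJY : Cfsg.thompsonSubgroup 2 X ≤ Y := by
    unfold Cfsg.thompsonSubgroup
    apply sSup_le
    intro A' hA'
    have hA'J : A' ≤ Cfsg.thompsonSubgroup 2 X := le_sSup hA'
    obtain ⟨g, hgJ, hg'⟩ := hsyl.exists_conj_ge (Cfsg.Agent.Lib.Helper10.IsEA.isPGroup hA'.1) hA'J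
    change A' ≤ conjS g _ at hg'
    have hA''S : conjS g⁻¹ A' ≤ (S : Subgroup X) := by
      have := conjS_mono g⁻¹ hg'
      rw [conjS_inv_conjS] at this
      exact this.trans inf_le_left
    have hA'' : conjS g⁻¹ A' ∈ Cfsg.maxElementaryAbelianSubgroups 2 X :=
      Cfsg.Agent.Lib.Helper10.maxEA_conj hA' g⁻¹
    have hmea := mea_of_maxEA hA'' hA''S
    have hgH : ps (VV 2 X) g ∈ Hb X := ⟨g, hgJ, rfl⟩
    have h1 : A'.map (ps (VV 2 X)) ≤ Y.map (ps (VV 2 X)) := by
      apply h.map_le_of_mo hA'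
      intro B' hB' hB'A'
      have hB'' := hB'.conj (inv_mem hgH)
      have hle : conjS (ps (VV 2 X) g)⁻¹ B' ≤ (conjS g⁻¹ A').map (ps (VV 2 X)) := by
        rw [map_ps_conjS, map_inv]
        exact conjS_mono _ hB'A'
      obtain ⟨b, d, hcd⟩ := exists_cd h hmea hB'' hle
      have h2 : EE 2 (Hb X) (conjS (ps (VV 2 X) g)⁻¹ B') ≤ Y.map (ps (VV 2 X)) := by
        apply sup_le
        · rw [← hcd.map_K]
          exact map_mono (hK _ hcd.isJComponent)
        · exact hle.trans (map_mono (hA''S.trans hSY))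
      have h3 := hB''.conj_le_E hg hgH
      rw [conjS_conjS_inv] at h3
      exact h3.trans h2
    have h2 := (le_comap_map (ps (VV 2 X)) A').trans (comap_mono h1)
    rw [comap_map_eq, ps_ker, sup_eq_left.mpr hCY] at h2
    exact h2
  rw [eq_top_iff, ← thompson_frattini (Cfsg.thompsonSubgroup 2 X) S
    (thompsonSubgroupOf_le_thompsonSubgroup S)]
  exact sup_le hN hJY

end

section

variable {G : Type u} [Group G] [Finite G] {T L : Subgroup G}

theorem le_of_comps_le (zn : ZN G) (hT1 : T ≠ ⊥) (hLT : L ∈ Cfsg.jOvergroups T) (M : Subgroup G)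
    (hN : L ⊓ normalizer (Cfsg.thompsonSubgroupOf 2 T : Set G) ≤ M)
    (hK : ∀ K, Cfsg.IsJComponent T K → K ≤ L → K ≤ M) : L ≤ M := by
  have hs := isSylowIn_of_two hLT.1
  have h1 := (lx_of_mem zn hT1 hLT).eq_top_of (M.subgroupOf L) ?_ ?_
  · rwa [subgroupOf_eq_top] at h1
  · intro x hx
    rw [mem_subgroupOf]
    refine hN (mem_inf.mpr ⟨x.2, ?_⟩)
    have h2 := le_normalizer_map L.subtype (mem_map_of_mem L.subtype hx)
    rw [IsSylowIn.coe_toSylow, thompsonSubgroupOf_subgroupOf hs.le] at h2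
    exact h2
  · intro K hK'
    rw [IsSylowIn.coe_toSylow] at hK'
    have h2 := hK _ (isJComponent_map hs hK') (map_subtype_le K)
    intro x hx
    exact mem_subgroupOf.mpr (h2 (mem_map_of_mem L.subtype hx))

end

end Cfsg.Agent.Lib.Helper48
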