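import Cfsg.Agent.Lib.Helper48.JC21

/-!
The uniqueness theorem for `J(T)`-components outside `M`.
-/

set_option autoImplicit false

namespace Cfsg.Agent.Lib.Helper48

open Subgroup
open scoped commutatorElement
open Cfsg.Agent.Lib.Helper22 (conjS mem_conjS conjS_mem conjS_mul conjS_one conjS_eq_of_mem_normalizer)
open Cfsg.Agent.Lib.Helper47 (IsSylowIn)
open Cfsg.Agent.Lib.Helper11 (IsMaxIn)
open JCX (Vb Hb)

universe u

section

variable {X : Type u} [Group X] [Finite X] {S : Sylow 2 X} {K P : Subgroup X}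

theorem JCX.thompson_le_normalizer (hK : JCX S K P) (h : LX S) :
    Cfsg.thompsonSubgroup 2 X ≤ normalizer (K : Set X) := by
  obtain ⟨-, B, hB, hBJ, hKB⟩ := hK.exists_mo h
  obtain ⟨hfg, -⟩ := fg_thompson h.hsep h.hO h.hnf
  intro g hg
  apply hK.mem_normalizer_of_conj_W h hB hBJ hKB
  exact conjS_eq_of_mem_normalizer (hB.H_le_normalizer_W hfg ⟨g, hg, rfl⟩)

theorem JCX.le_thompson (hK : JCX S K P) : K ≤ Cfsg.thompsonSubgroup 2 X := by
  haveI hJXc : (Cfsg.thompsonSubgroup 2 X).Characteristic :=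
    (Cfsg.Agent.S0602.result (G := X) (p := 2)).1
  conv_lhs => rw [← hK.comm]
  exact (commutator_mono le_top (thompsonSubgroupOf_le_thompsonSubgroup S)).trans
    (commutator_le_right ⊤ _)

end

variable {G : Type u} [Group G] [Finite G]

section

variable {T L K K' : Subgroup G}

theorem comp_le_normalizer (zn : ZN G) (hT1 : T ≠ ⊥) (hLT : L ∈ Cfsg.jOvergroups T)
    (hK : Cfsg.IsJComponent T K) (hKL : K ≤ L) (hK' : Cfsg.IsJComponent T K') (hK'L : K' ≤ L) :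
    K' ≤ normalizer (K : Set G) := by
  have hs := isSylowIn_of_two hLT.1
  have h1 := (jcx_of_isJComponent hs hK' hK'L).le_thompson.trans
    ((jcx_of_isJComponent hs hK hKL).thompson_le_normalizer (lx_of_mem zn hT1 hLT))
  rw [← subgroupOf_normalizer_eq hKL] at h1
  intro x hx
  exact mem_subgroupOf.mp (h1 (mem_subgroupOf.mpr hx : (⟨x, hK'L hx⟩ : ↥L) ∈ K'.subgroupOf L))

theorem pCoreOf_comp_le (zn : ZN G) (hT1 : T ≠ ⊥) (hLT : L ∈ Cfsg.jOvergroups T)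
    (hK : Cfsg.IsJComponent T K) (hKL : K ≤ L) : Cfsg.pCoreOf 2 K ≤ Cfsg.pCoreOf 2 L := by
  have hs := isSylowIn_of_two hLT.1
  have h1 := ((jcx_of_isJComponent hs hK hKL).P_le (lx_of_mem zn hT1 hLT)).trans inf_le_left
  intro x hx
  have hxL : x ∈ L := hKL (Cfsg.Agent.Lib.Helper49.pCoreOf_le 2 K hx)
  exact ⟨⟨x, hxL⟩, h1 (mem_subgroupOf.mpr hx), rfl⟩

end

theorem exists_maximalTwoLocal_ge {N : Subgroup G} (hN : Cfsg.IsTwoLocal N) :
    ∃ L, Cfsg.IsMaximalTwoLocal L ∧ N ≤ L := by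
  obtain ⟨L, ⟨hL2, hNL⟩, hmax⟩ := Set.exists_max_image {L : Subgroup G | Cfsg.IsTwoLocal L ∧ N ≤ L}
    (fun L => Nat.card L) (Set.toFinite _) ⟨N, hN, le_rfl⟩
  refine ⟨L, ⟨hL2, ?_⟩, hNL⟩
  intro L' hL' hLL'
  exact (eq_of_le_of_card_ge hLL' (hmax L' ⟨hL', hNL.trans hLL'⟩)).symm

/-- the standing situation -/
structure MS (M T : Subgroup G) : Prop where
  zn : ZN G
  hNJ : normalizer (Cfsg.thompsonSubgroupOf 2 T : Set G) ≤ M
  hstr : ∀ L T₀ : Subgroup G, Cfsg.IsTwoLocal L → ¬ L ≤ M → IsSylowIn 2 T₀ L →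
    Cfsg.thompsonSubgroupOf 2 T ≤ T₀ → T₀ ≠ ⊥ ∧ T₀ ≤ M ∧
      Cfsg.thompsonSubgroupOf 2 T₀ = Cfsg.thompsonSubgroupOf 2 T ∧ Nat.card T₀ ≤ Nat.card T ∧
      L ∈ Cfsg.jOvergroups T₀
  hT2 : IsPGroup 2 T
  hT1 : T ≠ ⊥
  hTM : T ≤ M

theorem ms_of {M T : Subgroup G} (zn : ZN G) (S : Sylow 2 G)
    (hMJ : normalizer (Cfsg.thompsonSubgroupOf 2 (S : Subgroup G) : Set G) ≤ M)
    (hT : T ∈ Cfsg.maxStraddlingTwoSubgroups M) : MS M T := by
  refine ⟨zn, normalizer_J_le S hMJ hT, ?_, hT.1.1, hT.1.2.1, hT.1.2.2.1⟩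
  intro L T₀ hL2 hLM hT₀ hJ
  obtain ⟨h1, h2, h3⟩ := straddling_of_J_le S hMJ hT hL2 hLM hT₀.isPGroup hT₀.le hJ
  exact ⟨h1.2.1, h1.2.2.1, h2, h3, mem_jOvergroups_of zn S hMJ hT hL2 hLM hT₀ hJ⟩

namespace MS

variable {M T : Subgroup G}

theorem exists_syl (h : MS M T) {L : Subgroup G} (hL2 : Cfsg.IsTwoLocal L) (hLM : ¬ L ≤ M)
    (hJL : Cfsg.thompsonSubgroupOf 2 T ≤ L) :
    ∃ T₀, T₀ ≠ ⊥ ∧ Cfsg.thompsonSubgroupOf 2 T₀ = Cfsg.thompsonSubgroupOf 2 T ∧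
      L ∈ Cfsg.jOvergroups T₀ := by
  obtain ⟨T₀, hT₀, hJ⟩ := Cfsg.Agent.Lib.Helper47.exists_isSylowIn_ge
    (h.hT2.to_le (thompsonSubgroupOf_le' 2 T)) hJL
  obtain ⟨h1, -, h2, -, h3⟩ := h.hstr L T₀ hL2 hLM hT₀ hJ
  exact ⟨T₀, h1, h2, h3⟩

theorem isSylowIn_of_le (h : MS M T) {L : Subgroup G} (hL2 : Cfsg.IsTwoLocal L) (hLM : ¬ L ≤ M)
    (hTL : T ≤ L) : IsSylowIn 2 T L := by
  obtain ⟨T₀, hT₀, hTT₀⟩ := Cfsg.Agent.Lib.Helper47.exists_isSylowIn_ge h.hT2 hTL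
  obtain ⟨-, -, -, hc, -⟩ := h.hstr L T₀ hL2 hLM hT₀ ((thompsonSubgroupOf_le' 2 T).trans hTT₀)
  rw [eq_of_le_of_card_ge hTT₀ hc]
  exact hT₀

/-- two components in a common `2`-local outside `M` normalize each other -/
theorem comp_le_normalizer (h : MS M T) {L K K' : Subgroup G} (hL2 : Cfsg.IsTwoLocal L)
    (hLM : ¬ L ≤ M) (hJL : Cfsg.thompsonSubgroupOf 2 T ≤ L)
    (hK : Cfsg.IsJComponent T K) (hKL : K ≤ L) (hK' : Cfsg.IsJComponent T K') (hK'L : K' ≤ L) :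
    K' ≤ normalizer (K : Set G) := by
  obtain ⟨T₀, h1, h2, h3⟩ := h.exists_syl hL2 hLM hJL
  exact Cfsg.Agent.Lib.Helper48.comp_le_normalizer h.zn h1 h3 (isJComponent_congr hK h2.symm) hKL
    (isJComponent_congr hK' h2.symm) hK'L

theorem le_of_comps_le (h : MS M T) {L : Subgroup G} (hL2 : Cfsg.IsTwoLocal L)
    (hLM : ¬ L ≤ M) (hJL : Cfsg.thompsonSubgroupOf 2 T ≤ L) (Y : Subgroup G)
    (hN : L ⊓ normalizer (Cfsg.thompsonSubgroupOf 2 T : Set G) ≤ Y)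
    (hK : ∀ K, Cfsg.IsJComponent T K → K ≤ L → K ≤ Y) : L ≤ Y := by
  obtain ⟨T₀, h1, h2, h3⟩ := h.exists_syl hL2 hLM hJL
  apply Cfsg.Agent.Lib.Helper48.le_of_comps_le h.zn h1 h3 Y
  · rw [h2]; exact hN
  · intro K hK' hKL
    exact hK K (isJComponent_congr hK' h2) hKL

/-- the product of the `W_K`, `K` a component in `L` -/
def UU (T L : Subgroup G) : Subgroup G :=
  ⨆ K : {K : Subgroup G // Cfsg.IsJComponent T K ∧ K ≤ L}, Cfsg.wOf (K : Subgroup G)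

theorem wOf_le_UU {L K : Subgroup G} (hK : Cfsg.IsJComponent T K) (hKL : K ≤ L) :
    Cfsg.wOf K ≤ UU T L :=
  le_iSup (fun K : {K : Subgroup G // Cfsg.IsJComponent T K ∧ K ≤ L} => Cfsg.wOf (K : Subgroup G))
    ⟨K, hK, hKL⟩

theorem UU_le_pCoreOf (h : MS M T) {L : Subgroup G} (hL2 : Cfsg.IsTwoLocal L)
    (hLM : ¬ L ≤ M) (hJL : Cfsg.thompsonSubgroupOf 2 T ≤ L) : UU T L ≤ Cfsg.pCoreOf 2 L := by
  obtain ⟨T₀, h1, h2, h3⟩ := h.exists_syl hL2 hLM hJL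
  apply iSup_le
  rintro ⟨K, hK, hKL⟩
  exact (JS.W_le_P K).trans (pCoreOf_comp_le h.zn h1 h3 (isJComponent_congr hK h2.symm) hKL)

theorem isJComponent_conj {K : Subgroup G} (hK : Cfsg.IsJComponent T K) {x : G}
    (hx : x ∈ normalizer (Cfsg.thompsonSubgroupOf 2 T : Set G)) :
    Cfsg.IsJComponent T (conjS x K) := by
  apply isJComponent_congr (isJComponent_conjS hK x)
  rw [thompsonSubgroupOf_conjS, conjS_eq_of_mem_normalizer hx]

theorem mem_normalizer_UU {L : Subgroup G} {x : G}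
    (hx : ∀ K, Cfsg.IsJComponent T K → K ≤ L → conjS x (Cfsg.wOf K) ≤ UU T L) :
    x ∈ normalizer (UU T L : Set G) := by
  apply Cfsg.Agent.Lib.Helper50.mem_normalizer_of_map_conj_le
  unfold UU
  rw [Subgroup.map_iSup]
  apply iSup_le
  rintro ⟨K, hK, hKL⟩
  exact hx K hK hKL

theorem le_normalizer_UU (h : MS M T) {L : Subgroup G} (hL2 : Cfsg.IsTwoLocal L)
    (hLM : ¬ L ≤ M) (hJL : Cfsg.thompsonSubgroupOf 2 T ≤ L) : L ≤ normalizer (UU T L : Set G) := by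
  apply h.le_of_comps_le hL2 hLM hJL
  · intro x hx
    obtain ⟨hxL, hxN⟩ := mem_inf.mp hx
    apply mem_normalizer_UU
    intro K hK hKL
    rw [← wOf_conjS]
    apply wOf_le_UU (isJComponent_conj hK hxN)
    rw [← conjS_eq_of_mem_normalizer (le_normalizer hxL : x ∈ normalizer (L : Set G))]
    exact conjS_mono x hKL
  · intro K' hK' hK'L x hx
    apply mem_normalizer_UU
    intro K hK hKL
    rw [conjS_eq_of_mem_normalizer (normalizer_le_normalizer_wOf K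
      (h.comp_le_normalizer hL2 hLM hJL hK hKL hK' hK'L hx))]
    exact wOf_le_UU hK hKL

theorem unique (h : MS M T) {K : Subgroup G} (hK : Cfsg.IsJComponent T K) (hKM : ¬ K ≤ M)
    {L₀ L : Subgroup G} (hL₀ : Cfsg.IsMaximalTwoLocal L₀)
    (hNL₀ : normalizer (Cfsg.wOf K : Set G) ≤ L₀) (hL : Cfsg.IsMaximalTwoLocal L)
    (hKL : K ⊔ Cfsg.thompsonSubgroupOf 2 T ≤ L) : L = L₀ := by
  have hKN : K ≤ normalizer (Cfsg.wOf K : Set G) :=
    le_normalizer.trans (normalizer_le_normalizer_wOf K)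
  have hJN : Cfsg.thompsonSubgroupOf 2 T ≤ normalizer (Cfsg.wOf K : Set G) :=
    (J_le_normalizer hK).trans (normalizer_le_normalizer_wOf K)
  have hL₀M : ¬ L₀ ≤ M := fun hle => hKM ((hKN.trans hNL₀).trans hle)
  have hLM : ¬ L ≤ M := fun hle => hKM ((le_sup_left.trans hKL).trans hle)
  have hJL₀ := hJN.trans hNL₀
  have hJL := le_sup_right.trans hKL
  have hKL' := le_sup_left.trans hKL
  have hU2 : IsPGroup 2 (UU T L₀) :=
    (Cfsg.Agent.Lib.Helper49.pCoreOf_isPGroup 2 L₀).to_le (h.UU_le_pCoreOf hL₀.1 hL₀M hJL₀)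
  have hU1 : UU T L₀ ≠ ⊥ := by
    intro hbot
    apply wOf_ne_bot hK
    rw [eq_bot_iff, ← hbot]
    exact wOf_le_UU hK (hKN.trans hNL₀)
  have hNU : normalizer (UU T L₀ : Set G) = L₀ :=
    hL₀.2 _ ⟨_, hU2, hU1, rfl⟩ (h.le_normalizer_UU hL₀.1 hL₀M hJL₀)
  have hle : L ≤ L₀ := by
    apply h.le_of_comps_le hL.1 hLM hJL
    · intro x hx
      obtain ⟨hxL, hxN⟩ := mem_inf.mp hx
      rw [← hNU]
      apply mem_normalizer_UU
      intro K' hK' hK'L₀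
      rw [← wOf_conjS]
      apply wOf_le_UU (isJComponent_conj hK' hxN)
      refine le_trans ?_ hNL₀
      have hK₀ : Cfsg.IsJComponent T (conjS x⁻¹ K) := isJComponent_conj hK (inv_mem hxN)
      have hK₀L : conjS x⁻¹ K ≤ L := by
        rw [← conjS_eq_of_mem_normalizer (le_normalizer (inv_mem hxL) : x⁻¹ ∈ normalizer (L : Set G))]
        exact conjS_mono x⁻¹ hKL'
      have hK₀N : conjS x⁻¹ K ≤ normalizer (Cfsg.wOf K : Set G) :=
        (h.comp_le_normalizer hL.1 hLM hJL hK hKL' hK₀ hK₀L).trans (normalizer_le_normalizer_wOf K)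
      have h1 : K' ≤ normalizer (Cfsg.wOf (conjS x⁻¹ K) : Set G) :=
        (h.comp_le_normalizer hL₀.1 hL₀M hJL₀ hK₀ (hK₀N.trans hNL₀) hK' hK'L₀).trans
          (normalizer_le_normalizer_wOf _)
      have h2 := le_normalizer_conjS x h1
      rwa [← wOf_conjS, conjS_conjS_inv] at h2
    · intro K' hK' hK'L
      exact ((h.comp_le_normalizer hL.1 hLM hJL hK hKL' hK' hK'L).trans
        (normalizer_le_normalizer_wOf K)).trans hNL₀
  exact (hL.2 L₀ hL₀.1 hle).symm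

end MS

end Cfsg.Agent.Lib.Helper48
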