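import Cfsg.Prelude.Def_PLocal
import Cfsg.Agent.Lib.Helper46.Trace
import Cfsg.Agent.Lib.Helper49.CharP
import Cfsg.Agent.Lib.Helper22.Generation
import Cfsg.Agent.Lib.Helper22.SupLemmas
import Cfsg.Agent.Lib.Helper10.Card
import Cfsg.Agent.S2909

/-!
General lemmas for the failure-of-factorization chain (Kurzweil-Stellmacher 9.3).
-/

set_option autoImplicit false

namespace Cfsg.Agent.Lib.Helper48

open Subgroup
open scoped commutatorElement
open Cfsg.Agent.S2909 (trivOn)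

variable {G : Type*} [Group G]

/-- An element normalizing a subgroup `U` of prime order `p`: its `(p-1)`-st power centralizes `U`. -/
theorem pow_pred_mem_centralizer {p : ℕ} [hp : Fact p.Prime] {U : Subgroup G} (hU : Nat.card U = p)
    {n : G} (hn : n ∈ normalizer (U : Set G)) : n ^ (p - 1) ∈ centralizer (U : Set G) := by
  haveI : Finite U := Nat.finite_of_card_ne_zero (by rw [hU]; exact hp.out.ne_zero)
  haveI : IsCyclic U := isCyclic_of_prime_card hU
  have h1 : Nat.card (MulAut U) = p - 1 := by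
    rw [IsCyclic.card_mulAut, hU, Nat.totient_prime hp.out]
  have h2 : (U.normalizerMonoidHom ⟨n, hn⟩) ^ (p - 1) = 1 := by
    rw [← h1]
    exact pow_card_eq_one'
  rw [← map_pow] at h2
  have h3 : (⟨n, hn⟩ : normalizer (U : Set G)) ^ (p - 1) ∈ U.normalizerMonoidHom.ker := h2
  rw [normalizerMonoidHom_ker, mem_subgroupOf] at h3
  exact h3

/-- An element normalizing a subgroup `U` of prime order `p`, with `p`-th power centralizing `U`, centralizes `U`. -/
theorem mem_centralizer_of_card_prime {p : ℕ} [hp : Fact p.Prime] {U : Subgroup G}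
    (hU : Nat.card U = p) {n : G} (hn : n ∈ normalizer (U : Set G))
    (hnp : n ^ p ∈ centralizer (U : Set G)) : n ∈ centralizer (U : Set G) := by
  have h1 := pow_pred_mem_centralizer hU hn
  have h2 := mul_mem hnp (inv_mem h1)
  have h3 : n ^ p * (n ^ (p - 1))⁻¹ = n := by
    obtain ⟨k, hk⟩ : ∃ k, p = k + 1 := ⟨p - 1, (Nat.succ_pred_eq_of_pos hp.out.pos).symm⟩
    rw [hk, Nat.add_sub_cancel, pow_succ]
    group
  rwa [h3] at h2

theorem le_normalizer_of_commutator_le {V A W : Subgroup G} (h : ⁅V, A⁆ ≤ W) (hWV : W ≤ V) :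
    A ≤ normalizer (W : Set G) := by
  rw [le_normalizer_iff]
  intro a ha w hw
  have h1 : ⁅w, a⁆ ∈ W := h (commutator_mem_commutator (hWV hw) ha)
  have h2 := W.mul_mem (W.inv_mem h1) hw
  have h3 : ⁅w, a⁆⁻¹ * w = a * w * a⁻¹ := by
    rw [commutatorElement_def]
    group
  rwa [h3] at h2

theorem le_trivOn_of_commutator_le {V A W : Subgroup G} (h : ⁅V, A⁆ ≤ W) (hWV : W ≤ V) :
    A ≤ trivOn V W := by
  intro a ha
  refine ⟨le_normalizer_of_commutator_le h hWV ha, fun v hv => ?_⟩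
  have h1 : ⁅v, a⁆ ∈ W := h (commutator_mem_commutator hv ha)
  have h2 := W.inv_mem h1
  have h3 : ⁅v, a⁆⁻¹ = a * v * a⁻¹ * v⁻¹ := by
    rw [commutatorElement_def]
    group
  rwa [h3] at h2

theorem commutator_le_of_le_trivOn {V E W : Subgroup G} (h : E ≤ trivOn V W) : ⁅V, E⁆ ≤ W := by
  rw [commutator_le]
  intro v hv g hg
  have h1 := W.inv_mem ((h hg).2 v hv)
  have h3 : (g * v * g⁻¹ * v⁻¹)⁻¹ = ⁅v, g⁆ := by
    rw [commutatorElement_def]
    group
  rwa [h3] at h1

/-- `(z b)^n ∈ Z b^n` for `z ∈ Z` and `b` normalizing `Z`. -/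
theorem mul_pow_mul_inv_mem {Z : Subgroup G} {z b : G} (hz : z ∈ Z)
    (hb : b ∈ normalizer (Z : Set G)) (n : ℕ) : (z * b) ^ n * (b ^ n)⁻¹ ∈ Z := by
  induction n with
  | zero => simp
  | succ n ih =>
    have h1 : b ^ n * z * (b ^ n)⁻¹ ∈ Z := (mem_normalizer_iff.mp (pow_mem hb n) z).mp hz
    have h2 := Z.mul_mem ih h1
    have h3 : (z * b) ^ n * (b ^ n)⁻¹ * (b ^ n * z * (b ^ n)⁻¹) = (z * b) ^ (n + 1) * (b ^ (n + 1))⁻¹ := by
      rw [pow_succ, pow_succ]
      group
    rwa [h3] at h2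

/-- A `p'`-element stabilizing the chain `V ≥ W ≥ 1` of `p`-groups centralizes `V`. -/
theorem mem_centralizer_of_coprime_of_trivOn {p : ℕ} {V W : Subgroup G} (hW : IsPGroup p W) {g : G}
    (hg : (orderOf g).Coprime p) (h1 : g ∈ trivOn V W) (h2 : g ∈ centralizer (W : Set G)) :
    g ∈ centralizer (V : Set G) := by
  rw [mem_centralizer_iff]
  intro v hv
  refine (Cfsg.Agent.Lib.Helper49.commute_of_coprime hW hg (R := V) ?_ ?_ v hv).symm
  · intro a ha
    have h3 := W.inv_mem ((inv_mem h1).2 a⁻¹ (V.inv_mem ha))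
    have h4 : (g⁻¹ * a⁻¹ * g⁻¹⁻¹ * a⁻¹⁻¹)⁻¹ = a⁻¹ * (g⁻¹ * a * g) := by group
    rwa [h4] at h3
  · intro z hz
    exact mem_centralizer_iff.mp h2 z hz

open scoped IsMulCommutative in
/-- Coprime action on an abelian group: `[V, N] ∩ C_V(N) = 1`. -/
theorem commutator_inf_centralizer_eq_bot {V N : Subgroup G} (hVc : IsMulCommutative V)
    (hN : N ≤ normalizer (V : Set G)) [Finite N]
    (hcop : ∀ v ∈ V, v ^ Nat.card N = 1 → v = 1) : ⁅V, N⁆ ⊓ centralizer (N : Set G) = ⊥ := by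
  classical
  have : Fintype N := Fintype.ofFinite _
  let τ : V →* V := ∏ n : N, Cfsg.Agent.Lib.Helper46.conjOn V n (hN n.2)
  have hτ : ∀ v : V, τ v = ∏ n : N, Cfsg.Agent.Lib.Helper46.conjOn V n (hN n.2) v := by
    intro v
    exact MonoidHom.finset_prod_apply _ _ _
  have h1 : ∀ (m : N) (v : V), τ (Cfsg.Agent.Lib.Helper46.conjOn V m (hN m.2) v) = τ v := by
    intro m v
    rw [hτ, hτ]
    rw [← Equiv.prod_comp (Equiv.mulRight m)
      (fun n : N => Cfsg.Agent.Lib.Helper46.conjOn V n (hN n.2) v)]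
    apply Finset.prod_congr rfl
    intro n _
    apply Subtype.ext
    simp only [Cfsg.Agent.Lib.Helper46.conjOn_coe, Equiv.coe_mulRight, Subgroup.coe_mul]
    group
  have hVN : ⁅V, N⁆ ≤ V := le_normalizer_iff_commutator_le_left.mp hN
  have h2 : ⁅V, N⁆ ≤ τ.ker.map V.subtype := by
    rw [commutator_le]
    intro v hv n hn
    refine ⟨(⟨v, hv⟩ : V) * Cfsg.Agent.Lib.Helper46.conjOn V n (hN hn) (⟨v, hv⟩ : V)⁻¹, ?_, ?_⟩
    · change _ ∈ τ.ker
      rw [MonoidHom.mem_ker, map_mul, h1 ⟨n, hn⟩, ← map_mul, mul_inv_cancel, map_one]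
    · rw [commutatorElement_def]
      simp only [Subgroup.coe_subtype, Subgroup.coe_mul, Cfsg.Agent.Lib.Helper46.conjOn_coe,
        Subgroup.coe_inv]
      group
  rw [eq_bot_iff]
  intro x hx
  obtain ⟨hx1, hx2⟩ := mem_inf.mp hx
  obtain ⟨x', hx', rfl⟩ := h2 hx1
  rw [mem_bot]
  apply hcop _ x'.2
  have h3 : τ x' = x' ^ Nat.card N := by
    rw [hτ]
    have h4 : ∀ n : N, Cfsg.Agent.Lib.Helper46.conjOn V n (hN n.2) x' = x' := by
      intro n
      apply Subtype.ext
      rw [Cfsg.Agent.Lib.Helper46.conjOn_coe]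
      have := mem_centralizer_iff.mp hx2 n n.2
      simp only [Subgroup.coe_subtype] at this
      rw [this]
      group
    simp only [h4, Finset.prod_const, Finset.card_univ, Nat.card_eq_fintype_card]
  have h5 : τ x' = 1 := hx'
  rw [h5] at h3
  have := congrArg Subtype.val h3
  simpa using this.symm

end Cfsg.Agent.Lib.Helper48
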