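import Mathlib
import Cfsg.Prelude.Def_Transfer
import Cfsg.Agent.Lib.Helper90.Extraspecial
import Cfsg.Agent.Lib.Helper29.Extraspecial

/-! Extraspecial 2-groups: sign characters, centralizer orders, counting squares. -/

set_option autoImplicit false

namespace Cfsg.Agent.Lib.Helper48

open scoped BigOperators

variable {E : Type*} [Group E]

/-- the sign of an element : `1 ↦ 1`, everything else `↦ -1` -/
noncomputable def sgn (c : E) : ℤ := by
  classical
  exact if c = 1 then 1 else -1

theorem sgn_one : sgn (1 : E) = 1 := by simp [sgn]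

theorem sgn_eq_one_iff (c : E) : sgn c = 1 ↔ c = 1 := by
  unfold sgn
  split_ifs with h
  · simp [h]
  · simp [h]

theorem sgn_of_ne {c : E} (h : c ≠ 1) : sgn c = -1 := by simp [sgn, h]

theorem sgn_mul (h2 : Nat.card (Subgroup.center E) = 2) {c d : E} (hc : c ∈ Subgroup.center E)
    (hd : d ∈ Subgroup.center E) : sgn (c * d) = sgn c * sgn d := by
  by_cases h1 : c = 1
  · subst h1; simp [sgn_one]
  by_cases h3 : d = 1
  · subst h3; simp [sgn_one]
  have := Lib.Helper29.center_eq_of_ne_one h2 hc hd h1 h3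
  subst this
  rw [Lib.Helper29.center_sq_eq_one h2 hc, sgn_one, sgn_of_ne h1]
  norm_num

theorem comm_mem_center {p : ℕ} (hE : Cfsg.IsExtraspecial p E) (x y : E) :
    x * y * x⁻¹ * y⁻¹ ∈ Subgroup.center E :=
  Lib.Helper29.IsExtraspecial.commutator_mem_center hE x y

theorem sq_mem_center [Finite E] (hE : Cfsg.IsExtraspecial 2 E) (x : E) :
    x ^ 2 ∈ Subgroup.center E := by
  haveI : Fact (Nat.Prime 2) := ⟨Nat.prime_two⟩
  rw [← hE.1.2.1]
  exact Lib.Helper90.pow_mem_frattini hE.1.1 x

/-- the character `y ↦ sgn [x, y]` -/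
noncomputable def chiR (hE : Cfsg.IsExtraspecial 2 E) (x : E) : E →* ℤ where
  toFun y := sgn (x * y * x⁻¹ * y⁻¹)
  map_one' := by simp [sgn_one]
  map_mul' := by
    intro y y'
    rw [← sgn_mul hE.2 (comm_mem_center hE x y) (comm_mem_center hE x y')]
    congr 1
    have h2 := Subgroup.mem_center_iff.mp (comm_mem_center hE x y') y
    have h3 : x * (y * y') * x⁻¹ * (y * y')⁻¹ = x * y * x⁻¹ * y⁻¹ * (y * (x * y' * x⁻¹ * y'⁻¹)) * y⁻¹ := by
      group
    rw [h3, h2]
    group

/-- the character `x ↦ sgn [x, y]` -/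
noncomputable def chiL (hE : Cfsg.IsExtraspecial 2 E) (y : E) : E →* ℤ where
  toFun x := sgn (x * y * x⁻¹ * y⁻¹)
  map_one' := by simp [sgn_one]
  map_mul' := by
    intro x x'
    rw [← sgn_mul hE.2 (comm_mem_center hE x y) (comm_mem_center hE x' y)]
    congr 1
    have h2 := Subgroup.mem_center_iff.mp (comm_mem_center hE x' y) x
    have h3 : x * x' * y * (x * x')⁻¹ * y⁻¹ = (x * (x' * y * x'⁻¹ * y⁻¹)) * y * x⁻¹ * y⁻¹ := by
      group
    rw [h3, h2]
    have h4 := Subgroup.mem_center_iff.mp (comm_mem_center hE x' y) (x * y * x⁻¹ * y⁻¹)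
    rw [h4]
    group

theorem chiR_apply (hE : Cfsg.IsExtraspecial 2 E) (x y : E) :
    chiR hE x y = sgn (x * y * x⁻¹ * y⁻¹) := rfl

theorem chiL_apply (hE : Cfsg.IsExtraspecial 2 E) (x y : E) :
    chiL hE y x = sgn (x * y * x⁻¹ * y⁻¹) := rfl

theorem comm_eq_one_iff (x y : E) : x * y * x⁻¹ * y⁻¹ = 1 ↔ y * x = x * y := by
  constructor
  · intro h
    have : x * y = (x * y * x⁻¹ * y⁻¹) * (y * x) := by group
    rw [this, h, one_mul]
  · intro h
    rw [← h]
    group

theorem sum_ite_const {α : Type*} [Fintype α] (P : α → Prop) [DecidablePred P] (c : ℤ) :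
    ∑ x : α, (if P x then c else 0) = Nat.card {x // P x} * c := by
  rw [Finset.sum_ite, Finset.sum_const_zero, add_zero, Finset.sum_const, nsmul_eq_mul,
    Nat.card_eq_fintype_card, Fintype.card_subtype]

theorem sum_chiR [Fintype E] (hE : Cfsg.IsExtraspecial 2 E) (B : Subgroup E) [Fintype B] (x : E)
    [Decidable (x ∈ Subgroup.centralizer (B : Set E))] :
    ∑ b : B, sgn (x * b * x⁻¹ * (b : E)⁻¹) =
      if x ∈ Subgroup.centralizer (B : Set E) then (Nat.card B : ℤ) else 0 := by
  classical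
  have h := sum_hom_units ((chiR hE x).comp B.subtype)
  have hiff : (chiR hE x).comp B.subtype = 1 ↔ x ∈ Subgroup.centralizer (B : Set E) := by
    rw [Subgroup.mem_centralizer_iff]
    constructor
    · intro h b hb
      have := DFunLike.congr_fun h (⟨b, hb⟩ : B)
      simp only [MonoidHom.comp_apply, Subgroup.subtype_apply, MonoidHom.one_apply, chiR_apply,
        sgn_eq_one_iff, comm_eq_one_iff] at this
      exact this
    · intro h
      ext b
      simp only [MonoidHom.comp_apply, Subgroup.subtype_apply, MonoidHom.one_apply, chiR_apply,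
        sgn_eq_one_iff, comm_eq_one_iff]
      exact h b b.2
  simp only [hiff, MonoidHom.comp_apply, Subgroup.subtype_apply, chiR_apply] at h
  rw [h, Nat.card_eq_fintype_card]
  split_ifs <;> simp

theorem sum_chiL [Fintype E] (hE : Cfsg.IsExtraspecial 2 E) (y : E)
    [Decidable (y ∈ Subgroup.center E)] :
    ∑ x : E, sgn (x * y * x⁻¹ * y⁻¹) =
      if y ∈ Subgroup.center E then (Nat.card E : ℤ) else 0 := by
  classical
  have h := sum_hom_units (chiL hE y)
  have hiff : chiL hE y = 1 ↔ y ∈ Subgroup.center E := by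
    rw [Subgroup.mem_center_iff]
    constructor
    · intro h x
      have := DFunLike.congr_fun h x
      simp only [MonoidHom.one_apply, chiL_apply, sgn_eq_one_iff, comm_eq_one_iff] at this
      exact this.symm
    · intro h
      ext x
      simp only [MonoidHom.one_apply, chiL_apply, sgn_eq_one_iff, comm_eq_one_iff]
      exact (h x).symm
  simp only [hiff, chiL_apply] at h
  rw [h, Nat.card_eq_fintype_card]
  split_ifs <;> simp

/-- `|B| |C_E(B)| = |E| |B ∩ Z(E)|` in an extraspecial 2-group. -/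
theorem card_mul_card_centralizer [Finite E] (hE : Cfsg.IsExtraspecial 2 E) (B : Subgroup E) :
    Nat.card B * Nat.card (Subgroup.centralizer (B : Set E)) =
      Nat.card E * Nat.card (B ⊓ Subgroup.center E : Subgroup E) := by
  classical
  have := Fintype.ofFinite E
  have h1 : ∑ x : E, ∑ b : B, sgn (x * b * x⁻¹ * (b : E)⁻¹) =
      Nat.card (Subgroup.centralizer (B : Set E)) * (Nat.card B : ℤ) := by
    simp only [sum_chiR hE B]
    rw [sum_ite_const]
  have h2 : ∑ b : B, ∑ x : E, sgn (x * b * x⁻¹ * (b : E)⁻¹) =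
      Nat.card (B ⊓ Subgroup.center E : Subgroup E) * (Nat.card E : ℤ) := by
    simp only [sum_chiL hE]
    rw [sum_ite_const]
    congr 2
    apply Nat.card_congr
    exact
      { toFun := fun b => ⟨b.1.1, b.1.2, b.2⟩
        invFun := fun b => ⟨⟨b.1, b.2.1⟩, b.2.2⟩
        left_inv := fun _ => rfl
        right_inv := fun _ => rfl }
  rw [Finset.sum_comm, h2] at h1
  have h3 : (Nat.card B * Nat.card (Subgroup.centralizer (B : Set E)) : ℤ) =
      Nat.card E * Nat.card (B ⊓ Subgroup.center E : Subgroup E) := by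
    linarith
  exact_mod_cast h3

/-- the sum of the signs of the squares, for a self-centralizing elementary abelian subgroup -/
theorem sum_sgn_sq [Fintype E] (hE : Cfsg.IsExtraspecial 2 E) (A : Subgroup E)
    (hA : ∀ a ∈ A, a ^ 2 = 1) (hCA : Subgroup.centralizer (A : Set E) = A) :
    ∑ x : E, sgn (x ^ 2) = Nat.card A := by
  classical
  have := Fintype.ofFinite A
  have h1 : ∀ a : A, ∑ x : E, sgn ((x * a) ^ 2) = ∑ x : E, sgn (x ^ 2) := by
    intro a
    exact Fintype.sum_equiv (Equiv.mulRight (a : E)) _ _ (fun x => rfl)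
  have h2 : ∑ a : A, ∑ x : E, sgn ((x * a) ^ 2) = Nat.card A * ∑ x : E, sgn (x ^ 2) := by
    simp only [h1]
    rw [Finset.sum_const, nsmul_eq_mul, Finset.card_univ, Nat.card_eq_fintype_card]
  have h3 : ∀ (x : E) (a : A), sgn ((x * a) ^ 2) = sgn (x ^ 2) * sgn (x⁻¹ * a * x⁻¹⁻¹ * (a : E)⁻¹) := by
    intro x a
    rw [← sgn_mul hE.2 (sq_mem_center hE x) (comm_mem_center hE _ _)]
    congr 1
    have ha : (a : E) * a = 1 := by rw [← pow_two]; exact hA a a.2
    have ha' : (a : E)⁻¹ = a := inv_eq_of_mul_eq_one_right ha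
    rw [ha', pow_two, pow_two]
    group
  rw [Finset.sum_comm] at h2
  simp only [h3, ← Finset.mul_sum, sum_chiR hE A] at h2
  have h4 : ∀ x : E, sgn (x ^ 2) * (if x⁻¹ ∈ Subgroup.centralizer (A : Set E) then (Nat.card A : ℤ) else 0)
      = if x ∈ A then (Nat.card A : ℤ) else 0 := by
    intro x
    rw [hCA, inv_mem_iff]
    split_ifs with h
    · rw [hA x h, sgn_one, one_mul]
    · simp
  simp only [h4] at h2
  rw [sum_ite_const] at h2
  have h5 : (Nat.card A : ℤ) ≠ 0 := by
    have : 0 < Nat.card A := Nat.card_pos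
    exact_mod_cast this.ne'
  have h6 : (Nat.card {x // x ∈ A} : ℤ) = Nat.card A := rfl
  rw [h6] at h2
  exact (mul_left_cancel₀ h5 h2).symm

end Cfsg.Agent.Lib.Helper48
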