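import Cfsg.Prelude.Def_LocalStructure
import Cfsg.Agent.Lib.Helper22.CoprimeP
import Cfsg.Agent.Lib.Helper46.Ambient
import Cfsg.Agent.Lib.Helper49.CharP
import Cfsg.Agent.Lib.Helper50.Basic

/-!
The L-Lemma (Parker-Parmeggiani-Stellmacher), in a form relative to subgroups of a fixed finite ambient group.
-/

set_option autoImplicit false

namespace Cfsg.Agent.Lib.Helper48

open Subgroup
open Cfsg.Agent.Lib.Helper22 (conjS mem_conjS conjS_mem conjS_mul conjS_one conjS_eq_of_mem_normalizer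
  IsSylowIn isSylowIn_iff exists_isSylowIn_ge)
open Cfsg.Agent.Lib.Helper49 (pCoreOf_le pCoreOf_isPGroup le_pCoreOf le_normalizer_pCoreOf)

variable {G : Type*} [Group G]

theorem conjS_inv_conjS (g : G) (X : Subgroup G) : conjS g⁻¹ (conjS g X) = X := by
  rw [← conjS_mul, inv_mul_cancel, conjS_one]

theorem conjS_conjS_inv (g : G) (X : Subgroup G) : conjS g (conjS g⁻¹ X) = X := by
  rw [← conjS_mul, mul_inv_cancel, conjS_one]

theorem conjS_mono (g : G) {X Y : Subgroup G} (h : X ≤ Y) : conjS g X ≤ conjS g Y :=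
  Subgroup.map_mono h

theorem conjS_le_iff {g : G} {X Y : Subgroup G} : conjS g X ≤ Y ↔ X ≤ conjS g⁻¹ Y := by
  constructor
  · intro h
    have := conjS_mono g⁻¹ h
    rwa [conjS_inv_conjS] at this
  · intro h
    have := conjS_mono g h
    rwa [conjS_conjS_inv] at this

theorem conjS_self {g : G} {H : Subgroup G} (hg : g ∈ H) : conjS g H = H :=
  conjS_eq_of_mem_normalizer (le_normalizer hg)

theorem conjS_sup (g : G) (X Y : Subgroup G) : conjS g (X ⊔ Y) = conjS g X ⊔ conjS g Y :=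
  Subgroup.map_sup _ _ _

theorem conjS_inf (g : G) (X Y : Subgroup G) : conjS g (X ⊓ Y) = conjS g X ⊓ conjS g Y :=
  Subgroup.map_inf_eq _ _ _ (MulAut.conj g).injective

theorem conjS_lt (g : G) {X Y : Subgroup G} (h : X < Y) : conjS g X < conjS g Y :=
  (Subgroup.map_lt_map_iff_of_injective (MulAut.conj g).injective).mpr h

theorem conjS_pCoreOf (p : ℕ) (g : G) (L : Subgroup G) :
    conjS g (Cfsg.pCoreOf p L) = Cfsg.pCoreOf p (conjS g L) :=
  (Cfsg.Agent.Lib.Helper46.pCoreOf_map (MulAut.conj g) L).symm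

theorem isSylowIn_conjS {p : ℕ} {T H : Subgroup G} (h : IsSylowIn p T H) {g : G} (hg : g ∈ H) :
    IsSylowIn p (conjS g T) H := by
  rw [isSylowIn_iff] at h ⊢
  obtain ⟨h1, h2, h3⟩ := h
  refine ⟨?_, h2.map _, ?_⟩
  · have := conjS_mono g h1
    rwa [conjS_self hg] at this
  · intro R hR hRH hle
    have h4 := h3 (conjS g⁻¹ R) (hR.map _)
      (by rw [conjS_le_iff, inv_inv, conjS_self hg]; exact hRH) (conjS_le_iff.mp hle)
    rw [← h4, conjS_conjS_inv]

theorem pCoreOf_le_of_isSylowIn {p : ℕ} {T H : Subgroup G} (h : IsSylowIn p T H) :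
    Cfsg.pCoreOf p H ≤ T := by
  have h1 : IsPGroup p ↥(T ⊔ Cfsg.pCoreOf p H) :=
    h.isPGroup.to_sup_of_normal_right' (pCoreOf_isPGroup p H) (h.le.trans (le_normalizer_pCoreOf p H))
  have h2 := h.eq_of_le h1 (sup_le h.le (pCoreOf_le p H)) le_sup_left
  rw [← h2]
  exact le_sup_right

/-- `H` is `T`-minimal (relative version, without the generation condition): the Sylow `p`-subgroup `T` of `H` lies in
the proper subgroup `M`, which contains every proper subgroup of `H` containing `T`. -/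
def PM (p : ℕ) (H M T : Subgroup G) : Prop :=
  IsSylowIn p T H ∧ T ≤ M ∧ M ≤ H ∧ M ≠ H ∧ ∀ X : Subgroup G, X ≤ H → T ≤ X → X = H ∨ X ≤ M

theorem PM.conj {p : ℕ} {H M T : Subgroup G} (h : PM p H M T) {m : G} (hm : m ∈ M) :
    PM p H M (conjS m T) := by
  obtain ⟨h1, h2, h3, h4, h5⟩ := h
  refine ⟨isSylowIn_conjS h1 (h3 hm), ?_, h3, h4, ?_⟩
  · rw [conjS_le_iff, conjS_self (M.inv_mem hm)]
    exact h2
  · intro X hX hTX
    rcases h5 (conjS m⁻¹ X) (by rw [conjS_le_iff, inv_inv, conjS_self (h3 hm)]; exact hX)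
      (conjS_le_iff.mp hTX) with h6 | h6
    · left
      rw [← conjS_conjS_inv m X, h6, conjS_self (h3 hm)]
    · right
      rw [conjS_le_iff, inv_inv, conjS_self hm] at h6
      exact h6

theorem PM.isSylowIn_M {p : ℕ} {H M T : Subgroup G} (h : PM p H M T) : IsSylowIn p T M := by
  rw [isSylowIn_iff]
  obtain ⟨_, b, c⟩ := isSylowIn_iff.mp h.1
  exact ⟨h.2.1, b, fun R hR hRM hTR => c R hR (hRM.trans h.2.2.1) hTR⟩

theorem PM.exists_ge [Finite G] {p : ℕ} [Fact p.Prime] {H M T T₀ : Subgroup G} (h : PM p H M T)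
    (hT₀ : IsPGroup p ↥T₀) (hle : T₀ ≤ M) : ∃ T', PM p H M T' ∧ T₀ ≤ T' := by
  obtain ⟨T'', hT'', hle'⟩ := exists_isSylowIn_ge hT₀ hle
  obtain ⟨m, hm, rfl⟩ := h.isSylowIn_M.exists_conj hT''
  exact ⟨_, h.conj hm, hle'⟩

/-- Frattini: `M` is not normal in `H` unless `T` is. -/
theorem PM.not_normal [Finite G] {p : ℕ} [Fact p.Prime] {H M T : Subgroup G} (h : PM p H M T)
    (hT : ¬ T ≤ Cfsg.pCoreOf p H) : ¬ H ≤ normalizer (M : Set G) := by
  intro hn
  have hTH : T ≤ H := h.1.le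
  rcases h.2.2.2.2 (H ⊓ normalizer (T : Set G)) inf_le_left (le_inf hTH le_normalizer) with h1 | h1
  · exact hT (le_pCoreOf hTH (by rw [← h1]; exact inf_le_right) h.1.isPGroup)
  · apply h.2.2.2.1
    apply le_antisymm h.2.2.1
    intro x hx
    have h2 : PM p H M (conjS x T) := by
      refine ⟨isSylowIn_conjS h.1 hx, ?_, h.2.2.1, h.2.2.2.1, ?_⟩
      · have := conjS_mono x h.2.1
        rwa [conjS_eq_of_mem_normalizer (hn hx)] at this
      · intro X hX hTX
        rcases h.2.2.2.2 (conjS x⁻¹ X) (by rw [conjS_le_iff, inv_inv, conjS_self hx]; exact hX)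
          (conjS_le_iff.mp hTX) with h6 | h6
        · left
          rw [← conjS_conjS_inv x X, h6, conjS_self hx]
        · right
          rw [conjS_le_iff, inv_inv, conjS_eq_of_mem_normalizer (hn hx)] at h6
          exact h6
    obtain ⟨m, hm, hmx⟩ := h.isSylowIn_M.exists_conj h2.isSylowIn_M
    have h3 : m⁻¹ * x ∈ H ⊓ normalizer (T : Set G) := by
      refine mem_inf.mpr ⟨H.mul_mem (H.inv_mem (h.2.2.1 hm)) hx, ?_⟩
      rw [Cfsg.Agent.Lib.Helper50.mem_normalizer_iff_map_conj]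
      change conjS (m⁻¹ * x) T = T
      rw [conjS_mul, ← hmx, conjS_inv_conjS]
    have h4 := M.mul_mem hm (h1 h3)
    simpa using h4

/-- The conclusion of the L-Lemma, relative version. -/
def Good (p : ℕ) (H M A : Subgroup G) : Prop :=
  ∃ L : Subgroup G, L ≤ H ∧ A ⊔ Cfsg.pCoreOf p H ≤ L ∧ ∃ L₀ : Subgroup G,
    A ⊔ Cfsg.pCoreOf p L ≤ L₀ ∧ L₀ < L ∧
    (∀ X : Subgroup G, A ⊔ Cfsg.pCoreOf p L ≤ X → X < L → X ≤ L₀) ∧
    (∃ g ∈ H, L₀ = L ⊓ conjS g M) ∧
    ∀ x ∈ L, x ∉ L₀ → A ⊔ conjS x A ⊔ Cfsg.pCoreOf p L = L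

theorem Good.conj {p : ℕ} {H M A : Subgroup G} (h : Good p H M A) {c : G} (hc : c ∈ H) :
    Good p H M (conjS c A) := by
  obtain ⟨L, hLH, hAL, L₀, h1, h2, h3, ⟨g, hg, h4⟩, h5⟩ := h
  have hsup : conjS c A ⊔ Cfsg.pCoreOf p (conjS c L) = conjS c (A ⊔ Cfsg.pCoreOf p L) := by
    rw [← conjS_pCoreOf, conjS_sup]
  refine ⟨conjS c L, ?_, ?_, conjS c L₀, ?_, conjS_lt c h2, ?_, ⟨c * g, H.mul_mem hc hg, ?_⟩, ?_⟩
  · rw [conjS_le_iff, conjS_self (H.inv_mem hc)]
    exact hLH
  · have : Cfsg.pCoreOf p H = conjS c (Cfsg.pCoreOf p H) := by rw [conjS_pCoreOf, conjS_self hc]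
    rw [this, ← conjS_sup]
    exact conjS_mono c hAL
  · rw [hsup]
    exact conjS_mono c h1
  · intro X hX hXL
    rw [hsup, conjS_le_iff] at hX
    have h6 : conjS c⁻¹ X < L := by
      have := conjS_lt c⁻¹ hXL
      rwa [conjS_inv_conjS] at this
    have h7 := h3 _ hX h6
    rwa [conjS_le_iff, inv_inv] at h7
  · rw [h4, conjS_mul, conjS_inf]
  · intro x hx hx0
    rw [mem_conjS] at hx hx0
    have h6 := h5 _ hx hx0
    have h7 : conjS x (conjS c A) = conjS c (conjS (c⁻¹ * x * c) A) := by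
      rw [← conjS_mul, ← conjS_mul]
      congr 1
      group
    rw [h7, ← conjS_pCoreOf, ← conjS_sup, ← conjS_sup, h6]

theorem Good.of_le {p : ℕ} {H U M A : Subgroup G} (hUH : U ≤ H)
    (hO : Cfsg.pCoreOf p H ≤ Cfsg.pCoreOf p U) (h : Good p U (U ⊓ M) A) : Good p H M A := by
  obtain ⟨L, hLU, hAL, L₀, h1, h2, h3, ⟨g, hg, h4⟩, h5⟩ := h
  refine ⟨L, hLU.trans hUH, (sup_le_sup_left hO A).trans hAL, L₀, h1, h2, h3, ⟨g, hUH hg, ?_⟩, h5⟩
  rw [h4, conjS_inf, conjS_self hg, ← inf_assoc, inf_eq_left.mpr hLU]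

/-- The L-Lemma, relative version. -/
theorem lLemma_rel [Finite G] {p : ℕ} [Fact p.Prime] : ∀ (n : ℕ) (H M T A : Subgroup G),
    Nat.card H ≤ n → PM p H M T → A ≤ T → ¬ A ≤ Cfsg.pCoreOf p H → Good p H M A := by
  intro n
  induction n with
  | zero =>
    intro H M T A hn
    have := Nat.card_pos (α := H)
    omega
  | succ n ih =>
    intro H M T A hn hPM hAT hA
    obtain ⟨hTs, hTM, hMH, hMne, hTu⟩ := id hPM
    have hKT : Cfsg.pCoreOf p H ≤ T := pCoreOf_le_of_isSylowIn hTs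
    have hB₀T : A ⊔ Cfsg.pCoreOf p H ≤ T := sup_le hAT hKT
    have hHK : H ≤ normalizer (Cfsg.pCoreOf p H : Set G) := le_normalizer_pCoreOf p H
    by_cases hcase : ∀ X : Subgroup G, X ≤ H → A ⊔ Cfsg.pCoreOf p H ≤ X → X = H ∨ X ≤ M
    · -- `M` is the only maximal subgroup over `A O_p(H)`
      have hMlt : M < H := lt_of_le_of_ne hMH hMne
      have hnn := hPM.not_normal (fun h => hA (hAT.trans h))
      refine ⟨H, le_rfl, hB₀T.trans hTs.le, M, hB₀T.trans hTM, hMlt, ?_, ⟨1, H.one_mem, ?_⟩, ?_⟩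
      · intro X hX hXH
        exact (hcase X hXH.le hX).resolve_left hXH.ne
      · rw [conjS_one, inf_eq_right.mpr hMH]
      · intro x hx hxM
        have hxA : conjS x A ≤ H := by
          rw [conjS_le_iff, conjS_self (H.inv_mem hx)]
          exact hAT.trans hTs.le
        rcases hcase (A ⊔ conjS x A ⊔ Cfsg.pCoreOf p H)
          (sup_le (sup_le (hAT.trans hTs.le) hxA) (pCoreOf_le p H))
          (sup_le (le_sup_left.trans le_sup_left) le_sup_right) with h1 | h1
        · exact h1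
        · exfalso
          have h2 : conjS x A ≤ M := (le_sup_right.trans le_sup_left).trans h1
          have h3 : conjS x⁻¹ M ≤ H := by
            rw [conjS_le_iff, inv_inv, conjS_self hx]
            exact hMH
          have h4 : A ⊔ Cfsg.pCoreOf p H ≤ conjS x⁻¹ M := by
            refine sup_le (conjS_le_iff.mp h2) ?_
            rw [← conjS_le_iff, conjS_eq_of_mem_normalizer (hHK hx)]
            exact hKT.trans hTM
          rcases hcase _ h3 h4 with h5 | h5
          · apply hMne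
            have := congrArg (conjS x) h5
            rwa [conjS_conjS_inv, conjS_self hx] at this
          · have h6 : x⁻¹ ∈ normalizer (M : Set G) :=
              Cfsg.Agent.Lib.Helper50.mem_normalizer_of_map_conj_le h5
            have h7 : x ∈ H ⊓ normalizer (M : Set G) :=
              mem_inf.mpr ⟨hx, by simpa using inv_mem h6⟩
            rcases hTu (H ⊓ normalizer (M : Set G)) inf_le_left
              (le_inf hTs.le (hTM.trans le_normalizer)) with h8 | h8
            · exact hnn (by rw [← h8]; exact inf_le_right)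
            · exact hxM (h8 h7)
    · -- otherwise: pass to a smaller `T₀`-minimal subgroup
      push Not at hcase
      obtain ⟨X₀, hX₀H, hBX₀, hX₀ne, hX₀M⟩ := hcase
      let S₁ : Set (Subgroup G) := {T₀ | IsPGroup p ↥T₀ ∧ A ⊔ Cfsg.pCoreOf p H ≤ T₀ ∧ T₀ ≤ M ∧
        ∃ U : Subgroup G, T₀ ≤ U ∧ U ≤ H ∧ U ≠ H ∧ ¬ U ≤ M}
      have hS₁ : S₁.Nonempty := ⟨A ⊔ Cfsg.pCoreOf p H, hTs.isPGroup.to_le hB₀T, le_rfl,
        hB₀T.trans hTM, X₀, hBX₀, hX₀H, hX₀ne, hX₀M⟩
      obtain ⟨T₀, hT₀max⟩ := (Set.toFinite S₁).exists_maximal hS₁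
      obtain ⟨hT₀p, hBT₀, hT₀M, U₀, hU₀⟩ := hT₀max.prop
      let S₂ : Set (Subgroup G) := {U | T₀ ≤ U ∧ U ≤ H ∧ U ≠ H ∧ ¬ U ≤ M}
      obtain ⟨U, hUmin⟩ := (Set.toFinite S₂).exists_minimal ⟨U₀, hU₀⟩
      obtain ⟨hT₀U, hUH, hUne, hUM⟩ := hUmin.prop
      -- maximality of `T₀`
      have hmax : ∀ R : Subgroup G, IsPGroup p ↥R → T₀ ≤ R → R ≤ M →
          ∀ V : Subgroup G, R ≤ V → V ≤ H → ¬ V ≤ M → V ≠ H → R ≤ T₀ := by
        intro R hR hT₀R hRM V hRV hVH hVM hVne
        exact hT₀max.le_of_ge ⟨hR, hBT₀.trans hT₀R, hRM, V, hRV, hVH, hVne, hVM⟩ hT₀R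
      obtain ⟨T', hPM', hT₀T'⟩ := hPM.exists_ge hT₀p hT₀M
      have hT₀ne : T₀ ≠ T' := by
        rintro rfl
        rcases hPM'.2.2.2.2 U hUH hT₀U with h | h
        · exact hUne h
        · exact hUM h
      obtain ⟨t, htT', htT₀, htN⟩ := Cfsg.Agent.Lib.Helper50.exists_mem_normalizer_of_lt
        hPM'.1.isPGroup (lt_of_le_of_ne hT₀T' hT₀ne)
      set T₁ := T' ⊓ normalizer (T₀ : Set G) with hT₁
      have hT₀T₁ : T₀ ≤ T₁ := le_inf hT₀T' le_normalizer
      have htT₁ : t ∈ T₁ := mem_inf.mpr ⟨htT', htN⟩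
      have hT₁p : IsPGroup p ↥T₁ := hPM'.1.isPGroup.to_le inf_le_left
      have hT₁M : T₁ ≤ M := inf_le_left.trans hPM'.2.1
      have hF2 : ∀ V : Subgroup G, T₁ ≤ V → V ≤ H → V = H ∨ V ≤ M := by
        intro V hV hVH
        by_contra hcon
        push Not at hcon
        exact htT₀ (hmax T₁ hT₁p hT₀T₁ hT₁M V hV hVH hcon.2 hcon.1 htT₁)
      have hT₀H : T₀ ≤ H := hT₀U.trans hUH
      have hF3 : H ⊓ normalizer (T₀ : Set G) ≤ M := by
        rcases hF2 (H ⊓ normalizer (T₀ : Set G)) (le_inf (hT₁M.trans hMH) inf_le_right) inf_le_left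
          with h | h
        · exfalso
          apply hA
          exact (le_sup_left.trans hBT₀).trans
            (le_pCoreOf hT₀H (by rw [← h]; exact inf_le_right) hT₀p)
        · exact h
      have hF4 : IsSylowIn p T₀ U := by
        rw [isSylowIn_iff]
        refine ⟨hT₀U, hT₀p, ?_⟩
        intro R hR hRU hT₀R
        by_contra hne
        obtain ⟨r, hrR, hrT₀, hrN⟩ := Cfsg.Agent.Lib.Helper50.exists_mem_normalizer_of_lt hR
          (lt_of_le_of_ne hT₀R (Ne.symm hne))
        have h1 : R ⊓ normalizer (T₀ : Set G) ≤ M :=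
          le_trans (inf_le_inf_right _ (hRU.trans hUH)) hF3
        exact hrT₀ (hmax (R ⊓ normalizer (T₀ : Set G)) (hR.to_le inf_le_left)
          (le_inf hT₀R le_normalizer) h1 U (inf_le_left.trans hRU) hUH hUM hUne
          (mem_inf.mpr ⟨hrR, hrN⟩))
      have hF5 : PM p U (U ⊓ M) T₀ := by
        refine ⟨hF4, le_inf hT₀U hT₀M, inf_le_left, fun h => hUM (inf_eq_left.mp h), ?_⟩
        intro X hXU hT₀X
        by_cases hXM : X ≤ M
        · exact Or.inr (le_inf hXU hXM)
        · left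
          have hXne : X ≠ H := by
            rintro rfl
            exact hUne (le_antisymm hUH hXU)
          exact le_antisymm hXU (hUmin.le_of_le ⟨hT₀X, hXU.trans hUH, hXne, hXM⟩ hXU)
      have hF6 : U ⊔ T₁ = H := by
        rcases hF2 (U ⊔ T₁) le_sup_right (sup_le hUH (hT₁M.trans hMH)) with h | h
        · exact h
        · exact absurd (le_sup_left.trans h) hUM
      have hPT₀ : Cfsg.pCoreOf p U ≤ T₀ := pCoreOf_le_of_isSylowIn hF4
      have hF7 : ∃ h ∈ H, conjS h A ≤ T₀ ∧ ¬ conjS h A ≤ Cfsg.pCoreOf p U := by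
        by_contra hcon
        push Not at hcon
        apply hA
        set Y : Subgroup G := ⨆ h : {h : G // h ∈ H ∧ conjS h A ≤ T₀}, conjS (h : G) A with hY
        have hYT₀ : Y ≤ T₀ := iSup_le fun h => h.2.2
        have hAY : A ≤ Y := by
          have h1 : conjS 1 A ≤ T₀ := by
            rw [conjS_one]
            exact le_sup_left.trans hBT₀
          have := le_iSup (fun h : {h : G // h ∈ H ∧ conjS h A ≤ T₀} => conjS (h : G) A)
            ⟨1, H.one_mem, h1⟩
          simpa [conjS_one] using this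
        have hkey : ∀ g : G, g ∈ H → (∀ h ∈ H, conjS h A ≤ T₀ → conjS g (conjS h A) ≤ T₀) →
            g ∈ normalizer (Y : Set G) := by
          intro g hg hgh
          apply Cfsg.Agent.Lib.Helper50.mem_normalizer_of_map_conj_le
          rw [hY, Subgroup.map_iSup]
          apply iSup_le
          intro h
          have h1 : conjS (g * h) A ≤ T₀ := by
            rw [conjS_mul]
            exact hgh h h.2.1 h.2.2
          have := le_iSup (fun h : {h : G // h ∈ H ∧ conjS h A ≤ T₀} => conjS (h : G) A)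
            ⟨g * h, H.mul_mem hg h.2.1, h1⟩
          rw [conjS_mul] at this
          exact this
        have hHY : H ≤ normalizer (Y : Set G) := by
          rw [← hF6]
          refine sup_le ?_ ?_
          · intro g hg
            apply hkey g (hUH hg)
            intro h hh hhA
            have h1 := conjS_mono g (hcon h hh hhA)
            rw [conjS_eq_of_mem_normalizer (le_normalizer_pCoreOf p U hg)] at h1
            exact h1.trans hPT₀
          · intro g hg
            apply hkey g (hMH (hT₁M hg))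
            intro h hh hhA
            have h1 := conjS_mono g hhA
            rwa [conjS_eq_of_mem_normalizer (mem_inf.mp hg).2] at h1
        exact hAY.trans (le_pCoreOf (hYT₀.trans hT₀H) hHY (hT₀p.to_le hYT₀))
      obtain ⟨h, hhH, hhT₀, hhP⟩ := hF7
      have hcard : Nat.card U ≤ n := by
        have h1 : Nat.card U < Nat.card H :=
          Set.ncard_lt_ncard (s := (U : Set G)) (t := (H : Set G))
            (SetLike.coe_ssubset_coe.mpr (lt_of_le_of_ne hUH hUne)) (Set.toFinite _)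
        omega
      have hgood := ih U (U ⊓ M) T₀ (conjS h A) hcard hF5 hhT₀ hhP
      have hO : Cfsg.pCoreOf p H ≤ Cfsg.pCoreOf p U :=
        le_pCoreOf ((le_sup_right.trans hBT₀).trans hT₀U) (hUH.trans hHK) (pCoreOf_isPGroup p H)
      have h2 := (Good.of_le hUH hO hgood).conj (H.inv_mem hhH)
      rwa [conjS_inv_conjS] at h2

end Cfsg.Agent.Lib.Helper48
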