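import Mathlib
import Cfsg.Agent.Lib.Helper5.SLGen

/-!
Recognition of `SL(2, p)`: a group acting faithfully and linearly on a plane over `ZMod p`, with determinant one, containing
two "opposite" transvections, is isomorphic to `SL(2, ZMod p)`.
-/

set_option autoImplicit false

namespace Cfsg.Agent.Lib.Helper48

open Matrix Matrix.SpecialLinearGroup

theorem sl_transvection_pow {F : Type*} [Field F] {ι : Type*} [Fintype ι] [DecidableEq ι] {i j : ι}
    (h : i ≠ j) (c : F) (n : ℕ) :
    (transvection h c) ^ n = transvection h ((n : F) * c) := by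
  induction n with
  | zero => simp [transvection_coeff_zero]
  | succ n ih =>
    rw [pow_succ, ih]
    apply Subtype.ext
    change Matrix.transvection i j ((n : F) * c) * Matrix.transvection i j c = Matrix.transvection i j _
    rw [Matrix.transvection_mul_transvection_same _ _ h]
    congr 1
    push_cast
    ring

theorem sl2_eq_top {p : ℕ} [Fact p.Prime] (Γ : Subgroup (SpecialLinearGroup (Fin 2) (ZMod p)))
    (k l : ZMod p) (hk : k ≠ 0) (hl : l ≠ 0)
    (h1 : transvection (show (0 : Fin 2) ≠ 1 by decide) l ∈ Γ)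
    (h2 : transvection (show (1 : Fin 2) ≠ 0 by decide) k ∈ Γ) : Γ = ⊤ := by
  have key : ∀ (i j : Fin 2) (h : i ≠ j) (k : ZMod p), k ≠ 0 → transvection h k ∈ Γ →
      ∀ c : ZMod p, transvection h c ∈ Γ := by
    intro i j h k hk hmem c
    have h3 := Γ.pow_mem hmem (c / k).val
    rw [sl_transvection_pow, ZMod.natCast_zmod_val, div_mul_cancel₀ _ hk] at h3
    exact h3
  rw [eq_top_iff]
  intro A _
  refine Cfsg.Agent.Lib.Helper5.SL_transvection_induction (fun A => A ∈ Γ) ?_
    (fun A B hA hB => Γ.mul_mem hA hB) A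
  intro i j h c
  fin_cases i <;> fin_cases j
  · exact absurd rfl h
  · exact key _ _ _ l hl h1 c
  · exact key _ _ _ k hk h2 c
  · exact absurd rfl h

/-- Abstract recognition. -/
theorem exists_mulEquiv_sl2 {p : ℕ} [Fact p.Prime] {M : Type*} [AddCommGroup M] [Module (ZMod p) M]
    {E : Type*} [Group E] (ρ : E →* (M →ₗ[ZMod p] M)) (hρ : Function.Injective ρ)
    (hdet : ∀ g, LinearMap.det (ρ g) = 1) (b : Module.Basis (Fin 2) (ZMod p) M) (s t : E) (k l : ZMod p)
    (hk : k ≠ 0) (hl : l ≠ 0)
    (hs0 : ρ s (b 0) = b 0) (hs1 : ρ s (b 1) = b 1 + l • b 0)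
    (ht0 : ρ t (b 0) = b 0 + k • b 1) (ht1 : ρ t (b 1) = b 1) :
    ∃ φ : E ≃* SpecialLinearGroup (Fin 2) (ZMod p),
      φ s = transvection (show (0 : Fin 2) ≠ 1 by decide) l ∧
      φ t = transvection (show (1 : Fin 2) ≠ 0 by decide) k := by
  let φ : E →* SpecialLinearGroup (Fin 2) (ZMod p) :=
    { toFun := fun g => ⟨LinearMap.toMatrix b b (ρ g), by rw [LinearMap.det_toMatrix]; exact hdet g⟩
      map_one' := by
        apply Subtype.ext
        simp [Module.End.one_eq_id, LinearMap.toMatrix_id]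
      map_mul' := by
        intro g h
        apply Subtype.ext
        change LinearMap.toMatrix b b (ρ (g * h)) =
          LinearMap.toMatrix b b (ρ g) * LinearMap.toMatrix b b (ρ h)
        rw [map_mul, Module.End.mul_eq_comp, LinearMap.toMatrix_comp b b b] }
  have hφs : φ s = transvection (show (0 : Fin 2) ≠ 1 by decide) l := by
    apply Subtype.ext
    change LinearMap.toMatrix b b (ρ s) = _
    ext i j
    rw [LinearMap.toMatrix_apply, transvection_coe]
    fin_cases j
    · simp only [Fin.zero_eta, hs0]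
      fin_cases i <;> simp [Matrix.single_apply, Matrix.one_apply]
    · simp only [Fin.mk_one, hs1]
      fin_cases i <;> simp [Matrix.single_apply, Matrix.one_apply]
  have hφt : φ t = transvection (show (1 : Fin 2) ≠ 0 by decide) k := by
    apply Subtype.ext
    change LinearMap.toMatrix b b (ρ t) = _
    ext i j
    rw [LinearMap.toMatrix_apply, transvection_coe]
    fin_cases j
    · simp only [Fin.zero_eta, ht0]
      fin_cases i <;> simp [Matrix.single_apply, Matrix.one_apply]
    · simp only [Fin.mk_one, ht1]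
      fin_cases i <;> simp [Matrix.single_apply, Matrix.one_apply]
  have hinj : Function.Injective φ := by
    intro g h hgh
    apply hρ
    apply (LinearMap.toMatrix b b).injective
    exact congrArg Subtype.val hgh
  have hsurj : Function.Surjective φ := by
    rw [← MonoidHom.range_eq_top]
    exact sl2_eq_top _ k l hk hl ⟨s, hφs⟩ ⟨t, hφt⟩
  exact ⟨MulEquiv.ofBijective φ ⟨hinj, hsurj⟩, hφs, hφt⟩

/-- The linear map on `Additive W` (over `ZMod p`) attached to an automorphism of the elementary abelian group `W`. -/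
def autToEnd (p : ℕ) (W : Type*) [CommGroup W] [Module (ZMod p) (Additive W)] :
    MulAut W →* (Additive W →ₗ[ZMod p] Additive W) where
  toFun f := (MonoidHom.toAdditive f.toMonoidHom).toZModLinearMap p
  map_one' := by
    ext x
    rfl
  map_mul' f g := by
    ext x
    rfl

theorem autToEnd_apply (p : ℕ) (W : Type*) [CommGroup W] [Module (ZMod p) (Additive W)]
    (f : MulAut W) (w : W) : autToEnd p W f (Additive.ofMul w) = Additive.ofMul (f w) := rfl

theorem autToEnd_injective (p : ℕ) (W : Type*) [CommGroup W] [Module (ZMod p) (Additive W)] :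
    Function.Injective (autToEnd p W) := by
  intro f g h
  ext w
  have := congrArg (fun φ => φ (Additive.ofMul w)) h
  exact this

/-- Recognition for a group acting on an elementary abelian group of order `p ^ 2`. -/
theorem exists_mulEquiv_sl2_of_mulAut_aux {p : ℕ} [Fact p.Prime] {W : Type*} [CommGroup W]
    [Module (ZMod p) (Additive W)] (hcard : Nat.card W = p ^ 2) {E : Type*} [Group E]
    (α : E →* MulAut W) (hα : Function.Injective α)
    (hgen : ∀ N : Subgroup E, (∀ g : E, g ^ p = 1 → g ∈ N) → N = ⊤)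
    (s t : E) (e1 e2 : W) (h1 : e1 ≠ 1) (hs1 : α s e1 = e1) (hs2 : α s e2 = e2 * e1)
    (ht2 : α t e2 = e2) (k : ℕ) (hk : ¬ p ∣ k) (ht1 : α t e1 = e1 * e2 ^ k) :
    ∃ φ : E ≃* SpecialLinearGroup (Fin 2) (ZMod p),
      φ s = transvection (show (0 : Fin 2) ≠ 1 by decide) 1 ∧
      φ t = transvection (show (1 : Fin 2) ≠ 0 by decide) (k : ZMod p) := by
  have hfin : Finite W := Nat.finite_of_card_ne_zero (by rw [hcard]; exact pow_ne_zero _ (Fact.out : p.Prime).ne_zero)
  haveI : Finite (Additive W) := hfin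
  set ρ : E →* Module.End (ZMod p) (Additive W) := (autToEnd p W).comp α with hρdef
  have hρ : Function.Injective ρ := (autToEnd_injective p W).comp hα
  set x1 : Additive W := Additive.ofMul e1 with hx1
  set x2 : Additive W := Additive.ofMul e2 with hx2
  have hx1ne : x1 ≠ 0 := fun h => h1 (congrArg Additive.toMul h)
  have rs1 : ρ s x1 = x1 := by
    change Additive.ofMul (α s e1) = _
    rw [hs1]
  have rs2 : ρ s x2 = x2 + x1 := by
    change Additive.ofMul (α s e2) = _
    rw [hs2]
    rfl
  have rt2 : ρ t x2 = x2 := by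
    change Additive.ofMul (α t e2) = _
    rw [ht2]
  have rt1 : ρ t x1 = x1 + (k : ZMod p) • x2 := by
    change Additive.ofMul (α t e1) = _
    rw [ht1, Nat.cast_smul_eq_nsmul]
    rfl
  have hli : LinearIndependent (ZMod p) ![x1, x2] := by
    rw [LinearIndependent.pair_iff]
    intro a b hab
    have h2 := congrArg (ρ s) hab
    rw [map_add, map_smul, map_smul, rs1, rs2, map_zero, smul_add, ← add_assoc, hab, zero_add] at h2
    have hb : b = 0 := by
      rcases smul_eq_zero.mp h2 with h | h
      · exact h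
      · exact absurd h hx1ne
    rw [hb, zero_smul, add_zero] at hab
    rcases smul_eq_zero.mp hab with h | h
    · exact ⟨h, hb⟩
    · exact absurd h hx1ne
  have hfr : Module.finrank (ZMod p) (Additive W) = 2 := by
    have h2 := Module.natCard_eq_pow_finrank (K := ZMod p) (V := Additive W)
    rw [Nat.card_zmod] at h2
    have h3 : Nat.card (Additive W) = p ^ 2 := hcard
    rw [h3] at h2
    exact (Nat.pow_right_injective (Fact.out : p.Prime).two_le h2).symm
  let b : Module.Basis (Fin 2) (ZMod p) (Additive W) :=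
    basisOfLinearIndependentOfCardEqFinrank hli (by rw [hfr]; rfl)
  have hb0 : b 0 = x1 := by simp [b]
  have hb1 : b 1 = x2 := by simp [b]
  have hdet : ∀ g, LinearMap.det (ρ g) = 1 := by
    let δ : E →* ZMod p := (LinearMap.det (M := Additive W) (A := ZMod p)).comp ρ
    have hN := hgen (δ.toHomUnits.ker) (by
      intro g hg
      rw [MonoidHom.mem_ker]
      apply Units.ext
      rw [MonoidHom.coe_toHomUnits, Units.val_one]
      have h2 : δ g ^ p = 1 := by rw [← map_pow, hg, map_one]
      rwa [ZMod.pow_card] at h2)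
    intro g
    have hg : g ∈ δ.toHomUnits.ker := by rw [hN]; trivial
    rw [MonoidHom.mem_ker] at hg
    have := congrArg Units.val hg
    rwa [MonoidHom.coe_toHomUnits, Units.val_one] at this
  have hk' : (k : ZMod p) ≠ 0 := by
    rw [Ne, ZMod.natCast_eq_zero_iff]
    exact hk
  exact exists_mulEquiv_sl2 ρ hρ hdet b s t (k : ZMod p) 1 hk' one_ne_zero
    (by rw [hb0]; exact rs1) (by rw [hb0, hb1, one_smul]; exact rs2)
    (by rw [hb0, hb1]; exact rt1) (by rw [hb1]; exact rt2)

/-- Recognition for a group acting on an elementary abelian group of order `p ^ 2`. -/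
theorem exists_mulEquiv_sl2_of_mulAut {p : ℕ} [Fact p.Prime] {W : Type*} [CommGroup W]
    (hexp : ∀ w : W, w ^ p = 1) (hcard : Nat.card W = p ^ 2) {E : Type*} [Group E]
    (α : E →* MulAut W) (hα : Function.Injective α)
    (hgen : ∀ N : Subgroup E, (∀ g : E, g ^ p = 1 → g ∈ N) → N = ⊤)
    (s t : E) (e1 e2 : W) (h1 : e1 ≠ 1) (hs1 : α s e1 = e1) (hs2 : α s e2 = e2 * e1)
    (ht2 : α t e2 = e2) (k : ℕ) (hk : ¬ p ∣ k) (ht1 : α t e1 = e1 * e2 ^ k) :
    ∃ φ : E ≃* SpecialLinearGroup (Fin 2) (ZMod p),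
      φ s = transvection (show (0 : Fin 2) ≠ 1 by decide) 1 ∧
      φ t = transvection (show (1 : Fin 2) ≠ 0 by decide) (k : ZMod p) := by
  letI : Module (ZMod p) (Additive W) := AddCommGroup.zmodModule (n := p) (fun x => by
    have := hexp x.toMul
    exact congrArg Additive.ofMul this)
  exact exists_mulEquiv_sl2_of_mulAut_aux hcard α hα hgen s t e1 e2 h1 hs1 hs2 ht2 k hk ht1

/-- Recognition inside an ambient group. -/
theorem exists_mulEquiv_sl2_of_subgroup {G : Type*} [Group G] {p : ℕ} [Fact p.Prime]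
    (W E : Subgroup G) (hWc : ∀ x ∈ W, ∀ y ∈ W, x * y = y * x) (hWp : ∀ w ∈ W, w ^ p = 1)
    (hcard : Nat.card W = p ^ 2) (hEW : E ≤ Subgroup.normalizer (W : Set G))
    (hf : E ⊓ Subgroup.centralizer (W : Set G) = ⊥) (S : Set G) (hS : ∀ g ∈ S, g ^ p = 1)
    (hE : E = Subgroup.closure S) (s t : G) (hs : s ∈ E) (ht : t ∈ E) (e1 e2 : G) (he1 : e1 ∈ W)
    (he2 : e2 ∈ W) (h1 : e1 ≠ 1) (hs1 : s * e1 * s⁻¹ = e1) (hs2 : s * e2 * s⁻¹ = e2 * e1)
    (ht2 : t * e2 * t⁻¹ = e2) (k : ℕ) (hk : ¬ p ∣ k) (ht1 : t * e1 * t⁻¹ = e1 * e2 ^ k) :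
    ∃ φ : E ≃* SpecialLinearGroup (Fin 2) (ZMod p),
      φ ⟨s, hs⟩ = transvection (show (0 : Fin 2) ≠ 1 by decide) 1 ∧
      φ ⟨t, ht⟩ = transvection (show (1 : Fin 2) ≠ 0 by decide) (k : ZMod p) := by
  letI : CommGroup W :=
    { (inferInstance : Group W) with mul_comm := fun x y => Subtype.ext (hWc x x.2 y y.2) }
  let α : E →* MulAut W := W.normalizerMonoidHom.comp (Subgroup.inclusion hEW)
  have hαapp : ∀ (g : E) (w : W), ((α g w : W) : G) = (g : G) * w * (g : G)⁻¹ := fun g w => rfl
  have hα : Function.Injective α := by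
    rw [injective_iff_map_eq_one]
    intro g hg
    have h2 : (g : G) ∈ E ⊓ Subgroup.centralizer (W : Set G) := by
      refine Subgroup.mem_inf.mpr ⟨g.2, ?_⟩
      rw [Subgroup.mem_centralizer_iff]
      intro w hw
      have h3 := hαapp g ⟨w, hw⟩
      rw [hg] at h3
      have h4 : w = (g : G) * w * (g : G)⁻¹ := h3
      calc w * (g : G) = ((g : G) * w * (g : G)⁻¹) * g := by rw [← h4]
        _ = g * w := by group
    rw [hf, Subgroup.mem_bot] at h2
    exact Subtype.ext h2
  have hgen : ∀ N : Subgroup E, (∀ g : E, g ^ p = 1 → g ∈ N) → N = ⊤ := by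
    intro N hN
    rw [eq_top_iff]
    intro g _
    have h2 : E ≤ N.map E.subtype := by
      conv_lhs => rw [hE]
      rw [Subgroup.closure_le]
      intro x hx
      have hxE : x ∈ E := by rw [hE]; exact Subgroup.subset_closure hx
      exact ⟨⟨x, hxE⟩, hN _ (Subtype.ext (hS x hx)), rfl⟩
    obtain ⟨g', hg', hgg'⟩ := h2 g.2
    have : g' = g := Subtype.ext hgg'
    rwa [this] at hg'
  exact exists_mulEquiv_sl2_of_mulAut (W := W) (fun w => Subtype.ext (hWp w w.2)) hcard α hα hgen
    ⟨s, hs⟩ ⟨t, ht⟩ ⟨e1, he1⟩ ⟨e2, he2⟩ (fun h => h1 (congrArg Subtype.val h))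
    (Subtype.ext hs1) (Subtype.ext hs2) (Subtype.ext ht2) k hk (Subtype.ext ht1)

end Cfsg.Agent.Lib.Helper48
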