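import Cfsg.Agent.Lib.Helper48.FF1
import Cfsg.Agent.Lib.Helper48.SL2Rec
import Cfsg.Agent.Lib.Helper48.LLemma
import Cfsg.Agent.Lib.Lead.Cores
import Cfsg.Agent.Lib.Helper5.LinearCard

/-!
Failure of factorization (Kurzweil-Stellmacher 9.3): the set-up and the group generated by a "transvection group" `A` of
order `p` and a conjugate under the `p'`-core.
-/

set_option autoImplicit false

namespace Cfsg.Agent.Lib.Helper48

open Subgroup
open scoped commutatorElement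
open Cfsg.Agent.S2909 (trivOn)
open Cfsg.Agent.Lib.Helper22 (conjS mem_conjS conjS_mem conjS_mul conjS_one conjS_eq_of_mem_normalizer)

variable {G : Type*} [Group G]

/-- `O_{p'}(H)` as a subgroup of the ambient group. -/
abbrev ppc (p : ℕ) (H : Subgroup G) : Subgroup G := (Cfsg.pPrimeCore p ↥H).map H.subtype

theorem ppc_le (p : ℕ) (H : Subgroup G) : ppc p H ≤ H := map_subtype_le _

theorem le_normalizer_ppc (p : ℕ) (H : Subgroup G) : H ≤ normalizer (ppc p H : Set G) := by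
  rw [le_normalizer_iff]
  rintro h hh _ ⟨k, hk, rfl⟩
  exact ⟨⟨h, hh⟩ * k * ⟨h, hh⟩⁻¹, (Cfsg.pPrimeCore_normal p ↥H).conj_mem k hk ⟨h, hh⟩, rfl⟩

theorem not_dvd_card_ppc [Finite G] (p : ℕ) [hp : Fact p.Prime] (H : Subgroup G) :
    ¬ p ∣ Nat.card (ppc p H) := by
  rw [Subgroup.card_map_of_injective H.subtype_injective]
  have := Cfsg.Agent.Lib.Lead.card_pPrimeCore_coprime (G := ↥H) p
  rw [Nat.coprime_comm, Nat.Prime.coprime_iff_not_dvd hp.out] at this
  exact this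

/-- The standing hypotheses (without generation by best offenders). -/
structure FF (p : ℕ) (V H : Subgroup G) : Prop where
  hV : Cfsg.IsElementaryAbelian p V
  hHV : H ≤ normalizer (V : Set G)
  hf : H ⊓ centralizer (V : Set G) = ⊥
  hS1 : centralizer (Cfsg.pPrimeCore p ↥H : Set ↥H) ≤ Cfsg.pPrimeCore p ↥H

theorem FF.centralizer_ppc_le {p : ℕ} {V H : Subgroup G} (h : FF p V H) :
    H ⊓ centralizer (ppc p H : Set G) ≤ ppc p H := by
  intro g hg
  obtain ⟨hgH, hgC⟩ := mem_inf.mp hg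
  refine ⟨⟨g, hgH⟩, h.hS1 ?_, rfl⟩
  rw [mem_centralizer_iff]
  intro k hk
  apply Subtype.ext
  exact mem_centralizer_iff.mp hgC k ⟨k, hk, rfl⟩

theorem FF.isPGroup {p : ℕ} {V H : Subgroup G} (h : FF p V H) : IsPGroup p V := by
  intro v
  exact ⟨1, Subtype.ext (by simpa using h.hV.2 v v.2)⟩

theorem FF.comm {p : ℕ} {V H : Subgroup G} (h : FF p V H) : ∀ x ∈ V, ∀ y ∈ V, x * y = y * x := by
  intro x hx y hy
  have := h.hV.1
  exact congrArg Subtype.val (mul_comm' (⟨x, hx⟩ : V) ⟨y, hy⟩)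

theorem coprime_orderOf_of_mem [Finite G] {p : ℕ} [hp : Fact p.Prime] {Q : Subgroup G}
    (hQ : ¬ p ∣ Nat.card Q) {g : G} (hg : g ∈ Q) : (orderOf g).Coprime p := by
  rw [Nat.coprime_comm, Nat.Prime.coprime_iff_not_dvd hp.out]
  intro h
  apply hQ
  have h1 : orderOf (⟨g, hg⟩ : Q) ∣ Nat.card Q := orderOf_dvd_natCard _
  rw [Subgroup.orderOf_mk] at h1
  exact h.trans h1

/-- A `p'`-element of `H` stabilizing a chain `V ≥ W ≥ 1` is trivial. -/
theorem FF.eq_one_of_trivOn [Finite G] {p : ℕ} [Fact p.Prime] {V H : Subgroup G} (h : FF p V H)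
    {W : Subgroup G} (hWV : W ≤ V) {g : G} (hg : g ∈ ppc p H) (h1 : g ∈ trivOn V W)
    (h2 : g ∈ centralizer (W : Set G)) : g = 1 := by
  have h3 := mem_centralizer_of_coprime_of_trivOn (h.isPGroup.to_le hWV)
    (coprime_orderOf_of_mem (not_dvd_card_ppc p H) hg) h1 h2
  have h4 : g ∈ H ⊓ centralizer (V : Set G) := mem_inf.mpr ⟨ppc_le p H hg, h3⟩
  rwa [h.hf, mem_bot] at h4

theorem eq_bot_or_eq_of_le_of_card_prime {p : ℕ} [hp : Fact p.Prime] {K U : Subgroup G}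
    (hU : Nat.card U = p) (hKU : K ≤ U) : K = ⊥ ∨ K = U := by
  haveI : Finite U := Nat.finite_of_card_ne_zero (by rw [hU]; exact hp.out.ne_zero)
  haveI : Fact (Nat.card U).Prime := ⟨by rw [hU]; exact hp.out⟩
  rcases (K.subgroupOf U).eq_bot_or_eq_top_of_prime_card with h | h
  · left
    rw [subgroupOf_eq_bot, disjoint_iff, inf_eq_left.mpr hKU] at h
    exact h
  · right
    rw [subgroupOf_eq_top] at h
    exact le_antisymm hKU h

theorem eq_zpowers_of_card_prime {p : ℕ} [hp : Fact p.Prime] {U : Subgroup G}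
    (hU : Nat.card U = p) {u : G} (hu : u ∈ U) (hu1 : u ≠ 1) : U = zpowers u := by
  rcases eq_bot_or_eq_of_le_of_card_prime hU (zpowers_le.mpr hu) with h | h
  · exact absurd (zpowers_eq_bot.mp h) hu1
  · exact h.symm

theorem pow_eq_one_of_card {n : ℕ} {U : Subgroup G} (hU : Nat.card U = n) {u : G} (hu : u ∈ U) :
    u ^ n = 1 := by
  have := pow_card_eq_one' (G := U) (x := ⟨u, hu⟩)
  rw [hU] at this
  exact congrArg Subtype.val this

/-- `A` of order `p` with `[V, A]` of order `p`, and `x ∈ O_{p'}(H)` not centralizing `A`. -/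
structure TP (p : ℕ) (V H A : Subgroup G) (x : G) : Prop where
  ff : FF p V H
  hAH : A ≤ H
  hAp : Nat.card A = p
  hU : Nat.card ↥⁅V, A⁆ = p
  hx : x ∈ ppc p H
  hxA : x ∉ centralizer (A : Set G)

namespace TP

variable {p : ℕ} {V H A : Subgroup G} {x : G}

theorem hxH (h : TP p V H A x) : x ∈ H := ppc_le p H h.hx

theorem hBH (h : TP p V H A x) : conjS x A ≤ H := by
  rw [conjS_le_iff, conjS_self (H.inv_mem h.hxH)]
  exact h.hAH

theorem hEH (h : TP p V H A x) : A ⊔ conjS x A ≤ H := sup_le h.hAH h.hBH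

theorem hBp (h : TP p V H A x) : Nat.card (conjS x A) = p := by
  rw [← h.hAp]
  exact Subgroup.card_map_of_injective (MulAut.conj x).injective

theorem comm_conj (h : TP p V H A x) : ⁅V, conjS x A⁆ = conjS x ⁅V, A⁆ := by
  have h1 : conjS x V = V := conjS_eq_of_mem_normalizer (h.ff.hHV h.hxH)
  change _ = map _ _
  rw [Subgroup.map_commutator]
  change _ = ⁅conjS x V, conjS x A⁆
  rw [h1]

theorem hU2 (h : TP p V H A x) : Nat.card ↥⁅V, conjS x A⁆ = p := by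
  rw [h.comm_conj, ← h.hU]
  exact Subgroup.card_map_of_injective (MulAut.conj x).injective

theorem U1_le (h : TP p V H A x) : ⁅V, A⁆ ≤ V :=
  le_normalizer_iff_commutator_le_left.mp (h.hAH.trans h.ff.hHV)

theorem U2_le (h : TP p V H A x) : ⁅V, conjS x A⁆ ≤ V :=
  le_normalizer_iff_commutator_le_left.mp (h.hBH.trans h.ff.hHV)

theorem W_le (h : TP p V H A x) : ⁅V, A⁆ ⊔ ⁅V, conjS x A⁆ ≤ V := sup_le h.U1_le h.U2_le

theorem A_cent [Fact p.Prime] (h : TP p V H A x) : A ≤ centralizer ((⁅V, A⁆ : Subgroup G) : Set G) := by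
  intro a ha
  apply mem_centralizer_of_card_prime h.hU (le_normalizer_of_commutator_le le_rfl h.U1_le ha)
  rw [pow_eq_one_of_card h.hAp ha]
  exact one_mem _

theorem B_cent [Fact p.Prime] (h : TP p V H A x) :
    conjS x A ≤ centralizer ((⁅V, conjS x A⁆ : Subgroup G) : Set G) := by
  intro a ha
  apply mem_centralizer_of_card_prime h.hU2 (le_normalizer_of_commutator_le le_rfl h.U2_le ha)
  rw [pow_eq_one_of_card h.hBp ha]
  exact one_mem _

theorem E_le_trivOn (h : TP p V H A x) :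
    A ⊔ conjS x A ≤ trivOn V (⁅V, A⁆ ⊔ ⁅V, conjS x A⁆) :=
  sup_le (le_trivOn_of_commutator_le le_sup_left h.W_le)
    (le_trivOn_of_commutator_le le_sup_right h.W_le)

theorem comm_E (h : TP p V H A x) : ⁅V, A ⊔ conjS x A⁆ = ⁅V, A⁆ ⊔ ⁅V, conjS x A⁆ :=
  le_antisymm (commutator_le_of_le_trivOn h.E_le_trivOn)
    (sup_le (commutator_mono le_rfl le_sup_left) (commutator_mono le_rfl le_sup_right))

theorem exists_gen [Fact p.Prime] (h : TP p V H A x) :
    ∃ a ∈ A, a ≠ 1 ∧ x * a * x⁻¹ ≠ a ∧ A = zpowers a := by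
  have h0 := h.hxA
  rw [mem_centralizer_iff] at h0
  push Not at h0
  obtain ⟨a, ha, hne⟩ := h0
  have ha1 : a ≠ 1 := by
    rintro rfl
    simp at hne
  refine ⟨a, ha, ha1, ?_, eq_zpowers_of_card_prime h.hAp ha ha1⟩
  intro heq
  apply hne
  calc a * x = (x * a * x⁻¹) * x := by rw [heq]
    _ = x * a := by group

theorem y_mem (h : TP p V H A x) {a : G} (ha : a ∈ A) : a⁻¹ * (x * a * x⁻¹) ∈ ppc p H := by
  have h1 : a⁻¹ * x * a⁻¹⁻¹ ∈ ppc p H :=
    (mem_normalizer_iff.mp (le_normalizer_ppc p H (H.inv_mem (h.hAH ha))) x).mp h.hx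
  have h2 := mul_mem h1 (inv_mem h.hx)
  have h3 : a⁻¹ * x * a⁻¹⁻¹ * x⁻¹ = a⁻¹ * (x * a * x⁻¹) := by group
  rwa [h3] at h2

theorem y_mem_E (_h : TP p V H A x) {a : G} (ha : a ∈ A) :
    a⁻¹ * (x * a * x⁻¹) ∈ A ⊔ conjS x A :=
  mul_mem (mem_sup_left (inv_mem ha)) (mem_sup_right (conjS_mem ha))

theorem y_not_cent [Finite G] [Fact p.Prime] (h : TP p V H A x) {a : G} (ha : a ∈ A)
    (hne : x * a * x⁻¹ ≠ a) :
    a⁻¹ * (x * a * x⁻¹) ∉ centralizer ((⁅V, A⁆ ⊔ ⁅V, conjS x A⁆ : Subgroup G) : Set G) := by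
  intro hc
  have h1 := h.ff.eq_one_of_trivOn h.W_le (h.y_mem ha) (h.E_le_trivOn (h.y_mem_E ha)) hc
  exact hne (inv_mul_eq_one.mp h1).symm

end TP

theorem mem_normalizer_centralizer {F : Subgroup G} {b : G} (hb : b ∈ normalizer (F : Set G)) :
    b ∈ normalizer ((centralizer (F : Set G) : Subgroup G) : Set G) := by
  rw [mem_normalizer_iff]
  intro t
  refine ⟨Cfsg.Agent.S2909.conj_mem_centralizer hb, fun ht => ?_⟩
  have := Cfsg.Agent.S2909.conj_mem_centralizer (inv_mem hb) ht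
  simpa [mul_assoc] using this

namespace TP

variable {p : ℕ} {V H A : Subgroup G} {x : G}

theorem E_le_normalizer (h : TP p V H A x) :
    A ⊔ conjS x A ≤ normalizer ((⁅V, A⁆ ⊔ ⁅V, conjS x A⁆ : Subgroup G) : Set G) :=
  fun _ hg => (h.E_le_trivOn hg).1

theorem a_not_cent [Finite G] [Fact p.Prime] (h : TP p V H A x) {a : G} (ha : a ∈ A)
    (hne : x * a * x⁻¹ ≠ a) :
    a ∉ centralizer ((⁅V, A⁆ ⊔ ⁅V, conjS x A⁆ : Subgroup G) : Set G) := by
  intro hc
  apply h.y_not_cent ha hne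
  have hb : x * a * x⁻¹ ∈ conjS x A := conjS_mem ha
  have hbN := mem_normalizer_centralizer (h.E_le_normalizer (mem_sup_right hb))
  have h1 := mul_pow_mul_inv_mem (inv_mem hc) hbN p
  rw [pow_eq_one_of_card h.hBp hb, inv_one, mul_one] at h1
  exact Cfsg.Agent.Lib.Helper22.mem_of_pow_mem (not_dvd_card_ppc p H) (h.y_mem ha) h1

theorem b_not_cent [Finite G] [Fact p.Prime] (h : TP p V H A x) {a : G} (ha : a ∈ A)
    (hne : x * a * x⁻¹ ≠ a) :
    x * a * x⁻¹ ∉ centralizer ((⁅V, A⁆ ⊔ ⁅V, conjS x A⁆ : Subgroup G) : Set G) := by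
  intro hc
  apply h.y_not_cent ha hne
  have haN := mem_normalizer_centralizer (h.E_le_normalizer (mem_sup_left ha))
  have h1 := mul_pow_mul_inv_mem (inv_mem hc) haN p
  rw [pow_eq_one_of_card h.hAp ha, inv_one, mul_one] at h1
  have h2 := Cfsg.Agent.Lib.Helper22.mem_of_pow_mem (not_dvd_card_ppc p H)
    (inv_mem (h.y_mem ha)) (x := (a⁻¹ * (x * a * x⁻¹))⁻¹) (by
      have : (a⁻¹ * (x * a * x⁻¹))⁻¹ = (x * a * x⁻¹)⁻¹ * a := by group
      rw [this]
      exact h1)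
  simpa using inv_mem h2

theorem U_disj [Finite G] [Fact p.Prime] (h : TP p V H A x) : ⁅V, A⁆ ⊓ ⁅V, conjS x A⁆ = ⊥ := by
  obtain ⟨a, ha, -, hne, -⟩ := h.exists_gen
  rcases eq_bot_or_eq_of_le_of_card_prime h.hU
    (inf_le_left : ⁅V, A⁆ ⊓ ⁅V, conjS x A⁆ ≤ ⁅V, A⁆) with h1 | h1
  · exact h1
  · exfalso
    have h2 : ⁅V, A⁆ ≤ ⁅V, conjS x A⁆ := inf_eq_left.mp h1
    have h3 : ⁅V, A⁆ = ⁅V, conjS x A⁆ := eq_of_le_of_card_ge h2 (by rw [h.hU, h.hU2])
    apply h.a_not_cent ha hne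
    rw [← h3, sup_idem]
    exact h.A_cent ha

theorem card_W [Finite G] [Fact p.Prime] (h : TP p V H A x) :
    Nat.card ↥(⁅V, A⁆ ⊔ ⁅V, conjS x A⁆) = p ^ 2 := by
  have h1 : ⁅V, A⁆ ≤ normalizer ((⁅V, conjS x A⁆ : Subgroup G) : Set G) := by
    rw [le_normalizer_iff]
    intro u hu w hw
    rw [h.ff.comm u (h.U1_le hu) w (h.U2_le hw)]
    simpa using hw
  have h2 := Cfsg.Agent.Lib.Helper10.card_sup_mul_card_inf _ _ h1
  rw [h.U_disj, h.hU, h.hU2, Subgroup.card_bot, mul_one] at h2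
  rw [h2, sq]

end TP

/-- A subgroup `E` with `A ≤ E ≤ O_{p'}(H) A` stabilizing `V ≥ W ≥ 1` acts faithfully on `W`, if `A` acts nontrivially. -/
theorem FF.inf_centralizer_eq_bot [Finite G] {p : ℕ} [Fact p.Prime] {V H A W E : Subgroup G}
    (h : FF p V H) (hAH : A ≤ H) (hAp : Nat.card A = p) (hWV : W ≤ V)
    (hE1 : E ≤ ppc p H ⊔ A) (hE2 : E ≤ trivOn V W) (hAE : A ≤ E)
    (hAW : ¬ A ≤ centralizer (W : Set G)) : E ⊓ centralizer (W : Set G) = ⊥ := by
  have hAQ : A ≤ normalizer (ppc p H : Set G) := hAH.trans (le_normalizer_ppc p H)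
  have hEH : E ≤ H := hE1.trans (sup_le (ppc_le p H) hAH)
  rw [eq_bot_iff]
  intro c hc
  obtain ⟨hcE, hcW⟩ := mem_inf.mp hc
  obtain ⟨q, hq, α, hα, rfl⟩ := (Cfsg.Agent.Lib.Helper22.mem_sup_of_le_normalizer hAQ).mp (hE1 hcE)
  set c := q * α with hcdef
  have hqE : q ∈ E := by
    have := E.mul_mem hcE (E.inv_mem (hAE hα))
    simpa [hcdef] using this
  have hqT := hE2 hqE
  have hcT := hE2 hcE
  have hcomm : c * q = q * c := by
    have hk1 : c * q * c⁻¹ * q⁻¹ ∈ ppc p H :=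
      mul_mem ((mem_normalizer_iff.mp (le_normalizer_ppc p H (hEH hcE)) q).mp hq) (inv_mem hq)
    have hk2 : c * q * c⁻¹ * q⁻¹ ∈ trivOn V W :=
      mul_mem (mul_mem (mul_mem hcT hqT) (inv_mem hcT)) (inv_mem hqT)
    have hk3 : c * q * c⁻¹ * q⁻¹ ∈ centralizer (W : Set G) := by
      have h1 := Cfsg.Agent.S2909.conj_mem_centralizer hqT.1 (inv_mem hcW)
      have h2 := mul_mem hcW h1
      have h3 : c * (q * c⁻¹ * q⁻¹) = c * q * c⁻¹ * q⁻¹ := by group
      rwa [h3] at h2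
    have hk := h.eq_one_of_trivOn hWV hk1 hk2 hk3
    calc c * q = (c * q * c⁻¹ * q⁻¹) * (q * c) := by group
      _ = q * c := by rw [hk, one_mul]
  have hα' : α = q⁻¹ * c := by rw [hcdef]; group
  have hpow : q ^ p = c ^ p := by
    have h1 : Commute q⁻¹ c := by
      have : Commute c q := hcomm
      exact this.symm.inv_left
    have h2 : α ^ p = 1 := pow_eq_one_of_card hAp hα
    rw [hα', h1.mul_pow, inv_pow] at h2
    exact (inv_mul_eq_one.mp h2)
  have hq1 : q ^ p = 1 :=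
    h.eq_one_of_trivOn hWV (pow_mem hq p) (pow_mem hqT p) (by rw [hpow]; exact pow_mem hcW p)
  have hq2 : q = 1 := by
    have := Cfsg.Agent.Lib.Helper22.mem_of_pow_mem (M := ⊥) (not_dvd_card_ppc p H) hq
      (by rw [hq1]; exact one_mem _)
    simpa using this
  rw [mem_bot]
  by_contra hne
  have hcα : c = α := by rw [hcdef, hq2, one_mul]
  apply hAW
  rw [eq_zpowers_of_card_prime hAp hα (by rw [← hcα]; exact hne), zpowers_le, ← hcα]
  exact hcW

theorem centralizer_zpowers_eq' (t : G) :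
    centralizer ((zpowers t : Subgroup G) : Set G) = centralizer ({t} : Set G) := by
  rw [zpowers_eq_closure, centralizer_closure]

theorem mem_centralizer_sup {X Y : Subgroup G} {g : G} (h1 : g ∈ centralizer (X : Set G))
    (h2 : g ∈ centralizer (Y : Set G)) : g ∈ centralizer ((X ⊔ Y : Subgroup G) : Set G) := by
  have h3 : X ≤ centralizer ((zpowers g : Subgroup G) : Set G) :=
    le_centralizer_iff.mp (zpowers_le.mpr h1)
  have h4 : Y ≤ centralizer ((zpowers g : Subgroup G) : Set G) :=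
    le_centralizer_iff.mp (zpowers_le.mpr h2)
  exact le_centralizer_iff.mp (sup_le h3 h4) (mem_zpowers g)

open Matrix Matrix.SpecialLinearGroup in
/-- Any `E` between `⟨A, A^x⟩` and `O_{p'}(H) A`, generated by elements of order `p` and with `[V, E] ≤ W`,
is isomorphic to `SL(2, p)`. -/
theorem TP.exists_iso [Finite G] {p : ℕ} [Fact p.Prime] {V H A : Subgroup G} {x : G}
    (h : TP p V H A x) (E : Subgroup G) (hAE : A ≤ E) (hBE : conjS x A ≤ E)
    (hE1 : E ≤ ppc p H ⊔ A) (hE2 : E ≤ trivOn V (⁅V, A⁆ ⊔ ⁅V, conjS x A⁆)) (S : Set G)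
    (hS : ∀ g ∈ S, g ^ p = 1) (hES : E = closure S) {a : G} (ha : a ∈ A) (hne : x * a * x⁻¹ ≠ a) :
    E ⊓ centralizer ((⁅V, A⁆ ⊔ ⁅V, conjS x A⁆ : Subgroup G) : Set G) = ⊥ ∧
    ∃ (k : ℕ) (φ : E ≃* SpecialLinearGroup (Fin 2) (ZMod p)), ¬ p ∣ k ∧
      φ ⟨a, hAE ha⟩ = transvection (show (0 : Fin 2) ≠ 1 by decide) 1 ∧
      φ ⟨x * a * x⁻¹, hBE (conjS_mem ha)⟩ =
        transvection (show (1 : Fin 2) ≠ 0 by decide) (k : ZMod p) := by
  set W := ⁅V, A⁆ ⊔ ⁅V, conjS x A⁆ with hW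
  have hb : x * a * x⁻¹ ∈ conjS x A := conjS_mem ha
  have hfaith : E ⊓ centralizer (W : Set G) = ⊥ :=
    h.ff.inf_centralizer_eq_bot h.hAH h.hAp h.W_le hE1 hE2 hAE
      (fun hle => h.a_not_cent ha hne (hle ha))
  refine ⟨hfaith, ?_⟩
  have ha2 : a ∉ centralizer ((⁅V, conjS x A⁆ : Subgroup G) : Set G) := fun hc =>
    h.a_not_cent ha hne (mem_centralizer_sup (h.A_cent ha) hc)
  have hb1 : x * a * x⁻¹ ∉ centralizer ((⁅V, A⁆ : Subgroup G) : Set G) := fun hc =>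
    h.b_not_cent ha hne (mem_centralizer_sup hc (h.B_cent hb))
  rw [mem_centralizer_iff] at ha2
  push Not at ha2
  obtain ⟨e2, he2, hne2⟩ := ha2
  set e1 := e2⁻¹ * (a * e2 * a⁻¹) with he1def
  have he1 : e1 ∈ ⁅V, A⁆ := by
    have := commutator_mem_commutator (V.inv_mem (h.U2_le he2)) ha
    rw [commutatorElement_def] at this
    have e : e2⁻¹ * a * e2⁻¹⁻¹ * a⁻¹ = e1 := by rw [he1def]; group
    rwa [e] at this
  have he1ne : e1 ≠ 1 := by
    intro h1
    apply hne2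
    have h2 : e2 = a * e2 * a⁻¹ := inv_mul_eq_one.mp h1
    calc e2 * a = (a * e2 * a⁻¹) * a := by rw [← h2]
      _ = a * e2 := by group
  have hs1 : a * e1 * a⁻¹ = e1 := by
    have := mem_centralizer_iff.mp (h.A_cent ha) e1 he1
    rw [← this]
    group
  have hs2 : a * e2 * a⁻¹ = e2 * e1 := by rw [he1def]; group
  have ht2 : (x * a * x⁻¹) * e2 * (x * a * x⁻¹)⁻¹ = e2 := by
    have := mem_centralizer_iff.mp (h.B_cent hb) e2 he2
    rw [← this]
    group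
  have he2ne : e2 ≠ 1 := by
    rintro rfl
    simp at hne2
  have hU2z := eq_zpowers_of_card_prime h.hU2 he2 he2ne
  have hU1z := eq_zpowers_of_card_prime h.hU he1 he1ne
  have hf : e1⁻¹ * ((x * a * x⁻¹) * e1 * (x * a * x⁻¹)⁻¹) ∈ ⁅V, conjS x A⁆ := by
    have := commutator_mem_commutator (V.inv_mem (h.U1_le he1)) hb
    rw [commutatorElement_def] at this
    have e : e1⁻¹ * (x * a * x⁻¹) * e1⁻¹⁻¹ * (x * a * x⁻¹)⁻¹ =
        e1⁻¹ * ((x * a * x⁻¹) * e1 * (x * a * x⁻¹)⁻¹) := by group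
    rwa [e] at this
  rw [hU2z] at hf
  obtain ⟨k, hk⟩ := (mem_powers_iff_mem_zpowers).mpr hf
  have hk' : e2 ^ k = e1⁻¹ * ((x * a * x⁻¹) * e1 * (x * a * x⁻¹)⁻¹) := hk
  have ht1 : (x * a * x⁻¹) * e1 * (x * a * x⁻¹)⁻¹ = e1 * e2 ^ k := by rw [hk']; group
  have hkp : ¬ p ∣ k := by
    rintro ⟨m, rfl⟩
    apply hb1
    rw [pow_mul, h.ff.hV.2 e2 (h.U2_le he2), one_pow, mul_one] at ht1
    rw [hU1z]
    have h3 : zpowers e1 ≤ centralizer ((zpowers (x * a * x⁻¹) : Subgroup G) : Set G) := by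
      rw [zpowers_le, Cfsg.Agent.Lib.Helper48.centralizer_zpowers_eq', mem_centralizer_iff]
      intro z hz
      rw [Set.mem_singleton_iff.mp hz]
      calc (x * a * x⁻¹) * e1 = ((x * a * x⁻¹) * e1 * (x * a * x⁻¹)⁻¹) * (x * a * x⁻¹) := by group
        _ = e1 * (x * a * x⁻¹) := by rw [ht1]
    exact le_centralizer_iff.mp h3 (mem_zpowers _)
  obtain ⟨φ, hφ1, hφ2⟩ := exists_mulEquiv_sl2_of_subgroup W E
    (fun u hu w hw => h.ff.comm u (h.W_le hu) w (h.W_le hw))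
    (fun w hw => h.ff.hV.2 w (h.W_le hw)) h.card_W (fun g hg => (hE2 hg).1) hfaith S hS hES
    a (x * a * x⁻¹) (hAE ha) (hBE hb) e1 e2 (mem_sup_left he1) (mem_sup_right he2) he1ne hs1 hs2 ht2
    k hkp ht1
  exact ⟨k, φ, hkp, hφ1, hφ2⟩

end Cfsg.Agent.Lib.Helper48
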