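import Cfsg.Agent.Lib.Helper48.FF2

/-!
Failure of factorization (Kurzweil-Stellmacher 9.3.2): `⟨A, A^x⟩ ≅ SL(2, p)` and `p ∈ {2, 3}`.
-/

set_option autoImplicit false

namespace Cfsg.Agent.Lib.Helper48

open Subgroup
open scoped commutatorElement
open Cfsg.Agent.S2909 (trivOn)
open Cfsg.Agent.Lib.Helper22 (conjS mem_conjS conjS_mem conjS_mul conjS_one conjS_eq_of_mem_normalizer)
open Matrix Matrix.SpecialLinearGroup

variable {G : Type*} [Group G]

theorem t12_coe {F : Type*} [Field F] (c : F) :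
    ((transvection (show (0 : Fin 2) ≠ 1 by decide) c : SpecialLinearGroup (Fin 2) F) :
      Matrix (Fin 2) (Fin 2) F) = !![1, c; 0, 1] := by
  rw [transvection_coe]
  ext i j
  fin_cases i <;> fin_cases j <;> simp [Matrix.single_apply, Matrix.one_apply]

theorem t21_coe {F : Type*} [Field F] (c : F) :
    ((transvection (show (1 : Fin 2) ≠ 0 by decide) c : SpecialLinearGroup (Fin 2) F) :
      Matrix (Fin 2) (Fin 2) F) = !![1, 0; c, 1] := by
  rw [transvection_coe]
  ext i j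
  fin_cases i <;> fin_cases j <;> simp [Matrix.single_apply, Matrix.one_apply]

/-- the torus element `diag(2, 1/2)` conjugates `t12 1` to its fourth power -/
theorem exists_torus {F : Type*} [Field F] (h2 : (2 : F) ≠ 0) :
    ∃ d : SpecialLinearGroup (Fin 2) F,
      d * transvection (show (0 : Fin 2) ≠ 1 by decide) 1 =
        (transvection (show (0 : Fin 2) ≠ 1 by decide) 1) ^ 4 * d := by
  let d : SpecialLinearGroup (Fin 2) F := ⟨!![2, 0; 0, 2⁻¹], by simp [Matrix.det_fin_two, h2]⟩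
  have hd : (d : Matrix (Fin 2) (Fin 2) F) = !![2, 0; 0, 2⁻¹] := rfl
  refine ⟨d, ?_⟩
  rw [sl_transvection_pow]
  apply Subtype.ext
  change (d : Matrix (Fin 2) (Fin 2) F) *
      ((transvection (show (0 : Fin 2) ≠ 1 by decide) 1 : SpecialLinearGroup (Fin 2) F) :
        Matrix (Fin 2) (Fin 2) F) =
    ((transvection (show (0 : Fin 2) ≠ 1 by decide) (((4 : ℕ) : F) * 1) :
      SpecialLinearGroup (Fin 2) F) : Matrix (Fin 2) (Fin 2) F) * (d : Matrix (Fin 2) (Fin 2) F)
  rw [t12_coe, t12_coe, hd]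
  ext i j
  fin_cases i <;> fin_cases j <;> simp [Matrix.mul_apply, Fin.sum_univ_two]
  field_simp
  norm_num

namespace TP

variable {p : ℕ} {V H A : Subgroup G} {x : G}

theorem E_le_sup (h : TP p V H A x) : A ⊔ conjS x A ≤ ppc p H ⊔ A := by
  refine sup_le le_sup_right ?_
  rintro _ ⟨α, hα, rfl⟩
  have h1 : α * x⁻¹ * α⁻¹ ∈ ppc p H :=
    (mem_normalizer_iff.mp (le_normalizer_ppc p H (h.hAH hα)) _).mp (inv_mem h.hx)
  have h2 : x * (α * x⁻¹ * α⁻¹) * α ∈ ppc p H ⊔ A :=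
    mul_mem (mem_sup_left (mul_mem h.hx h1)) (mem_sup_right hα)
  have h3 : x * (α * x⁻¹ * α⁻¹) * α = x * α * x⁻¹ := by group
  rw [h3] at h2
  simpa using h2

theorem E_eq_closure (_h : TP p V H A x) :
    A ⊔ conjS x A = closure ((A : Set G) ∪ (conjS x A : Set G)) := by
  rw [Subgroup.closure_union, Subgroup.closure_eq, Subgroup.closure_eq]

theorem pow_eq_one_of_mem_union (h : TP p V H A x) :
    ∀ g ∈ ((A : Set G) ∪ (conjS x A : Set G)), g ^ p = 1 := by
  rintro g (hg | hg)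
  · exact pow_eq_one_of_card h.hAp hg
  · exact pow_eq_one_of_card h.hBp hg

theorem A_inf_ppc [Finite G] [hp : Fact p.Prime] (h : TP p V H A x) : A ⊓ ppc p H = ⊥ := by
  apply disjoint_iff.mp
  apply disjoint_of_coprime_natCard
  rw [h.hAp, Nat.Prime.coprime_iff_not_dvd hp.out]
  exact not_dvd_card_ppc p H

theorem prime_cases [Finite G] [hp : Fact p.Prime] (h : TP p V H A x) : p = 2 ∨ p = 3 := by
  by_contra hcon
  push Not at hcon
  obtain ⟨a, ha, ha1, hne, hAz⟩ := h.exists_gen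
  obtain ⟨-, k, φ, -, hφ1, -⟩ := h.exists_iso (A ⊔ conjS x A) le_sup_left le_sup_right h.E_le_sup
    h.E_le_trivOn _ h.pow_eq_one_of_mem_union h.E_eq_closure ha hne
  have h2 : (2 : ZMod p) ≠ 0 := by
    intro h0
    have : ((2 : ℕ) : ZMod p) = 0 := by exact_mod_cast h0
    rw [ZMod.natCast_eq_zero_iff] at this
    exact hcon.1 ((Nat.prime_dvd_prime_iff_eq hp.out Nat.prime_two).mp this)
  obtain ⟨d, hd⟩ := exists_torus h2
  set g := φ.symm d with hg
  have h3 : g * ⟨a, le_sup_left (a := A) (b := conjS x A) ha⟩ =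
      (⟨a, le_sup_left (a := A) (b := conjS x A) ha⟩ : ↥(A ⊔ conjS x A)) ^ 4 * g := by
    apply φ.injective
    rw [map_mul, map_mul, map_pow, hφ1, hg, MulEquiv.apply_symm_apply]
    exact hd
  have h4 : (g : G) * a = a ^ 4 * g := congrArg Subtype.val h3
  have hAQ : A ≤ normalizer (ppc p H : Set G) := h.hAH.trans (le_normalizer_ppc p H)
  obtain ⟨q, hq, α, hα, hqα⟩ :=
    (Cfsg.Agent.Lib.Helper22.mem_sup_of_le_normalizer hAQ).mp (h.E_le_sup g.2)
  have hαa : α * a = a * α := by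
    rw [hAz] at hα
    obtain ⟨n, rfl⟩ := mem_zpowers_iff.mp hα
    exact ((Commute.refl a).zpow_left n).eq
  have h5 : q * a * q⁻¹ * a⁻¹ = a ^ 3 := by
    rw [← hqα] at h4
    have h6 : q * a = a ^ 4 * q := by
      have : q * α * a = q * a * α := by rw [mul_assoc, hαa, ← mul_assoc]
      rw [this, ← mul_assoc] at h4
      exact mul_right_cancel h4
    rw [h6]
    group
  have h7 : a ^ 3 ∈ A ⊓ ppc p H := by
    refine mem_inf.mpr ⟨pow_mem ha 3, ?_⟩
    rw [← h5]
    have h8 : a * q⁻¹ * a⁻¹ ∈ ppc p H := (mem_normalizer_iff.mp (hAQ ha) _).mp (inv_mem hq)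
    have h9 := mul_mem hq h8
    have : q * (a * q⁻¹ * a⁻¹) = q * a * q⁻¹ * a⁻¹ := by group
    rwa [this] at h9
  rw [h.A_inf_ppc, mem_bot] at h7
  have h8 : orderOf a = p :=
    orderOf_eq_prime (pow_eq_one_of_card h.hAp ha) ha1
  have h9 : p ∣ 3 := h8 ▸ orderOf_dvd_of_pow_eq_one h7
  exact hcon.2 ((Nat.prime_dvd_prime_iff_eq hp.out Nat.prime_three).mp h9)

end TP

end Cfsg.Agent.Lib.Helper48
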