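import Cfsg.Agent.Lib.Helper48.FF3
import Cfsg.Agent.Lib.Helper69.CoprimeIndex
import Cfsg.Agent.Lib.Helper5.LinearCard

/-!
Failure of factorization (Kurzweil-Stellmacher 9.3.3): `[O_{p'}(H), A]` is an `r`-group.
-/

set_option autoImplicit false

namespace Cfsg.Agent.Lib.Helper48

open Subgroup
open scoped commutatorElement
open Cfsg.Agent.S2909 (trivOn)
open Cfsg.Agent.Lib.Helper22 (conjS mem_conjS conjS_mem conjS_mul conjS_one conjS_eq_of_mem_normalizer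
  IsSylowIn)

variable {G : Type*} [Group G]

/-- If all commutators `[x, α]` (`x ∈ Q`, `α ∈ A`, coprime action) are `r`-elements then `[Q, A]` is an `r`-group. -/
theorem isPGroup_commutator_of_forall [Finite G] {p r : ℕ} [Fact p.Prime] [hr : Fact r.Prime]
    {Q A : Subgroup G} (hA : IsPGroup p A) (hQ : ¬ p ∣ Nat.card Q)
    (hAQ : A ≤ normalizer (Q : Set G)) (hc : ∀ x ∈ Q, ∀ α ∈ A, ∃ n : ℕ, ⁅x, α⁆ ^ (r ^ n) = 1) :
    IsPGroup r ↥⁅Q, A⁆ := by
  obtain ⟨T, hT, hAT⟩ := Cfsg.Agent.Lib.Helper22.exists_invariant_isSylowIn A Q hA hQ hAQ r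
  set D := Q ⊓ centralizer (A : Set G) with hD
  have hcop : (D.relIndex Q).Coprime (T.relIndex Q) := by
    apply Nat.coprime_of_dvd
    intro s hs hsD
    by_cases hsr : s = r
    · rw [hsr]
      exact hT.not_dvd_relIndex
    · exfalso
      haveI : Fact s.Prime := ⟨hs⟩
      obtain ⟨Ts, hTs, hATs⟩ := Cfsg.Agent.Lib.Helper22.exists_invariant_isSylowIn A Q hA hQ hAQ s
      have hTsD : Ts ≤ D := by
        intro t ht
        refine mem_inf.mpr ⟨hTs.le ht, ?_⟩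
        rw [mem_centralizer_iff]
        intro α hα
        have h1 : ⁅t, α⁆ ∈ Ts := by
          rw [commutatorElement_def]
          have h2 : α * t⁻¹ * α⁻¹ ∈ Ts := (mem_normalizer_iff.mp (hATs hα) _).mp (inv_mem ht)
          have h3 := mul_mem ht h2
          have : t * (α * t⁻¹ * α⁻¹) = t * α * t⁻¹ * α⁻¹ := by group
          rwa [this] at h3
        obtain ⟨n, hn⟩ := hc t (hTs.le ht) α hα
        obtain ⟨m, hm⟩ := hTs.isPGroup ⟨_, h1⟩
        have hm' : ⁅t, α⁆ ^ (s ^ m) = 1 := congrArg Subtype.val hm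
        have h4 : orderOf ⁅t, α⁆ ∣ Nat.gcd (r ^ n) (s ^ m) :=
          Nat.dvd_gcd (orderOf_dvd_of_pow_eq_one hn) (orderOf_dvd_of_pow_eq_one hm')
        have h5 : Nat.gcd (r ^ n) (s ^ m) = 1 :=
          Nat.Coprime.pow n m ((Nat.coprime_primes hr.out hs).mpr (Ne.symm hsr))
        rw [h5, Nat.dvd_one, orderOf_eq_one_iff, commutatorElement_eq_one_iff_mul_comm] at h4
        exact h4.symm
      have h6 := relIndex_mul_relIndex Ts D Q hTsD inf_le_left
      exact hTs.not_dvd_relIndex (h6 ▸ Dvd.dvd.mul_left hsD _)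
  have hle : ⁅Q, A⁆ ≤ T := by
    rw [commutator_le]
    intro q hq α hα
    obtain ⟨t, ht, d, hd, hqtd⟩ := Cfsg.Agent.Lib.Helper69.exists_mul_of_coprime_index
      (D.subgroupOf Q) (T.subgroupOf Q) hcop ⟨q, hq⟩
    have hq' : q = (t : G) * (d : G) := congrArg Subtype.val hqtd
    have ht' : (t : G) ∈ T := mem_subgroupOf.mp ht
    have hd' : (d : G) ∈ D := mem_subgroupOf.mp hd
    have hdα : α * (d : G) = (d : G) * α := mem_centralizer_iff.mp (mem_inf.mp hd').2 α hα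
    have h1 : ⁅q, α⁆ = (t : G) * (α * (t : G)⁻¹ * α⁻¹) := by
      rw [hq', commutatorElement_def]
      have : (t : G) * (d : G) * α * ((t : G) * (d : G))⁻¹ * α⁻¹ =
          (t : G) * ((d : G) * α) * (d : G)⁻¹ * (t : G)⁻¹ * α⁻¹ := by group
      rw [this, ← hdα]
      group
    rw [h1]
    exact mul_mem ht' ((mem_normalizer_iff.mp (hAT hα) _).mp (inv_mem ht'))
  exact hT.isPGroup.to_le hle

namespace TP

variable {p : ℕ} {V H A : Subgroup G} {x : G}

theorem N_sup (h : TP p V H A x) :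
    ((A ⊔ conjS x A) ⊓ ppc p H) ⊔ A = A ⊔ conjS x A := by
  apply le_antisymm (sup_le inf_le_left le_sup_left)
  intro g hg
  have hAQ : A ≤ normalizer (ppc p H : Set G) := h.hAH.trans (le_normalizer_ppc p H)
  obtain ⟨q, hq, α, hα, rfl⟩ :=
    (Cfsg.Agent.Lib.Helper22.mem_sup_of_le_normalizer hAQ).mp (h.E_le_sup hg)
  refine mul_mem (mem_sup_left (mem_inf.mpr ⟨?_, hq⟩)) (mem_sup_right hα)
  have := mul_mem hg (inv_mem (mem_sup_left (T := conjS x A) hα))
  simpa using this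

theorem A_le_normalizer_N (h : TP p V H A x) :
    A ≤ normalizer (((A ⊔ conjS x A) ⊓ ppc p H : Subgroup G) : Set G) := by
  have hAQ : A ≤ normalizer (ppc p H : Set G) := h.hAH.trans (le_normalizer_ppc p H)
  have h1 : A ≤ normalizer ((A ⊔ conjS x A : Subgroup G) : Set G) :=
    le_sup_left.trans le_normalizer
  intro α hα
  rw [mem_normalizer_iff]
  intro g
  rw [mem_inf, mem_inf, ← mem_normalizer_iff.mp (h1 hα) g, ← mem_normalizer_iff.mp (hAQ hα) g]

theorem card_E [Finite G] [hp : Fact p.Prime] (h : TP p V H A x) :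
    Nat.card ↥(A ⊔ conjS x A) = p * (p ^ 2 - 1) := by
  obtain ⟨a, ha, -, hne, -⟩ := h.exists_gen
  obtain ⟨-, k, φ, -, -, -⟩ := h.exists_iso _ le_sup_left le_sup_right h.E_le_sup
    h.E_le_trivOn _ h.pow_eq_one_of_mem_union h.E_eq_closure ha hne
  rw [Nat.card_congr φ.toEquiv, Cfsg.Agent.Lib.Helper5.card_SL2, ZMod.card]

theorem card_N [Finite G] [hp : Fact p.Prime] (h : TP p V H A x) :
    Nat.card ↥((A ⊔ conjS x A) ⊓ ppc p H) = p ^ 2 - 1 := by
  have h1 := Cfsg.Agent.Lib.Helper10.card_sup_mul_card_inf' _ _ h.A_le_normalizer_N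
  have h2 : ((A ⊔ conjS x A) ⊓ ppc p H) ⊓ A = ⊥ := by
    rw [eq_bot_iff, ← h.A_inf_ppc]
    exact le_inf inf_le_right (inf_le_left.trans inf_le_right)
  rw [h.N_sup, h2, Subgroup.card_bot, mul_one, h.card_E, h.hAp, mul_comm] at h1
  exact (Nat.eq_of_mul_eq_mul_right hp.out.pos h1).symm

end TP

/-- the second prime -/
def rr (p : ℕ) : ℕ := if p = 2 then 3 else 2

theorem rr_prime (p : ℕ) : (rr p).Prime := by
  unfold rr
  split_ifs
  · exact Nat.prime_three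
  · exact Nat.prime_two

theorem TP.isPGroup_N [Finite G] {p : ℕ} [hp : Fact p.Prime] {V H A : Subgroup G} {x : G}
    (h : TP p V H A x) : IsPGroup (rr p) ↥((A ⊔ conjS x A) ⊓ ppc p H) := by
  haveI : Fact (rr p).Prime := ⟨rr_prime p⟩
  rcases h.prime_cases with rfl | rfl
  · exact IsPGroup.of_card (n := 1) (by rw [h.card_N]; simp [rr])
  · exact IsPGroup.of_card (n := 3) (by rw [h.card_N]; simp [rr])

/-- data of a minimal offender -/
structure MO (p : ℕ) (V H A : Subgroup G) : Prop where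
  ff : FF p V H
  hAH : A ≤ H
  hAp : Nat.card A = p
  hU : Nat.card ↥⁅V, A⁆ = p

namespace MO

variable {p : ℕ} {V H A : Subgroup G}

theorem tp (h : MO p V H A) {x : G} (hx : x ∈ ppc p H) (hxA : x ∉ centralizer (A : Set G)) :
    TP p V H A x := ⟨h.ff, h.hAH, h.hAp, h.hU, hx, hxA⟩

theorem A_inf_ppc [Finite G] [hp : Fact p.Prime] (h : MO p V H A) : A ⊓ ppc p H = ⊥ := by
  apply disjoint_iff.mp
  apply disjoint_of_coprime_natCard
  rw [h.hAp, Nat.Prime.coprime_iff_not_dvd hp.out]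
  exact not_dvd_card_ppc p H

theorem exists_x [Finite G] [hp : Fact p.Prime] (h : MO p V H A) :
    ∃ x ∈ ppc p H, x ∉ centralizer (A : Set G) := by
  by_contra hcon
  push Not at hcon
  have h1 : A ≤ H ⊓ centralizer (ppc p H : Set G) :=
    le_inf h.hAH (le_centralizer_iff.mp hcon)
  have h2 : A ≤ A ⊓ ppc p H := le_inf le_rfl (h1.trans h.ff.centralizer_ppc_le)
  rw [h.A_inf_ppc, le_bot_iff] at h2
  have h3 := h.hAp
  rw [h2, Subgroup.card_bot] at h3
  exact hp.out.one_lt.ne h3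

theorem prime_cases [Finite G] [hp : Fact p.Prime] (h : MO p V H A) : p = 2 ∨ p = 3 := by
  obtain ⟨x, hx, hxA⟩ := h.exists_x
  exact (h.tp hx hxA).prime_cases

theorem isPGroup_A [hp : Fact p.Prime] (h : MO p V H A) : IsPGroup p A :=
  IsPGroup.of_card (n := 1) (by rw [h.hAp, pow_one])

theorem hAQ (h : MO p V H A) : A ≤ normalizer (ppc p H : Set G) :=
  h.hAH.trans (le_normalizer_ppc p H)

theorem comm_mem (h : MO p V H A) {x α : G} (hx : x ∈ ppc p H) (hα : α ∈ A) :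
    ⁅x, α⁆ ∈ (A ⊔ conjS x A) ⊓ ppc p H := by
  refine mem_inf.mpr ⟨?_, ?_⟩
  · rw [commutatorElement_def]
    exact mul_mem (mem_sup_right (conjS_mem hα)) (mem_sup_left (inv_mem hα))
  · rw [commutatorElement_def]
    have h1 : α * x⁻¹ * α⁻¹ ∈ ppc p H := (mem_normalizer_iff.mp (h.hAQ hα) _).mp (inv_mem hx)
    have h2 := mul_mem hx h1
    have : x * (α * x⁻¹ * α⁻¹) = x * α * x⁻¹ * α⁻¹ := by group
    rwa [this] at h2

theorem isPGroup_R [Finite G] [hp : Fact p.Prime] (h : MO p V H A) :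
    IsPGroup (rr p) ↥⁅ppc p H, A⁆ := by
  haveI : Fact (rr p).Prime := ⟨rr_prime p⟩
  apply isPGroup_commutator_of_forall h.isPGroup_A (not_dvd_card_ppc p H) h.hAQ
  intro x hx α hα
  by_cases hxA : x ∈ centralizer (A : Set G)
  · refine ⟨0, ?_⟩
    rw [pow_zero, pow_one, commutatorElement_eq_one_iff_mul_comm]
    exact (mem_centralizer_iff.mp hxA α hα).symm
  · obtain ⟨n, hn⟩ := (h.tp hx hxA).isPGroup_N ⟨_, h.comm_mem hx hα⟩
    exact ⟨n, congrArg Subtype.val hn⟩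

end MO

open Matrix Matrix.SpecialLinearGroup in
theorem sl23_aux (k : ZMod 3) (hk : k ≠ 0)
    (Y : SpecialLinearGroup (Fin 2) (ZMod 3))
    (hY : Y * transvection (show (0 : Fin 2) ≠ 1 by decide) 1 = transvection (show (1 : Fin 2) ≠ 0 by decide) k)
    (Y' : SpecialLinearGroup (Fin 2) (ZMod 3))
    (hY' : Y' * transvection (show (0 : Fin 2) ≠ 1 by decide) 1 = transvection (show (0 : Fin 2) ≠ 1 by decide) 1 * Y)
    (h8 : Y ^ 8 = 1) : Y * Y' ≠ Y' * Y := by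
  have h1 : (Y : Matrix (Fin 2) (Fin 2) (ZMod 3)) * !![1, 1; 0, 1] = !![1, 0; k, 1] := by
    rw [← t12_coe, ← t21_coe, ← hY]; rfl
  have h2 : (Y' : Matrix (Fin 2) (Fin 2) (ZMod 3)) * !![1, 1; 0, 1] = !![1, 1; 0, 1] * (Y : Matrix (Fin 2) (Fin 2) (ZMod 3)) := by
    rw [← t12_coe]
    exact congrArg Subtype.val hY'
  have h3 : (Y : Matrix (Fin 2) (Fin 2) (ZMod 3)) = !![1, 0; k, 1] * !![1, -1; 0, 1] := by
    rw [← h1, Matrix.mul_assoc]
    have : (!![1, 1; 0, 1] : Matrix (Fin 2) (Fin 2) (ZMod 3)) * !![1, -1; 0, 1] = 1 := by decide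
    rw [this, Matrix.mul_one]
  have h4 : (Y' : Matrix (Fin 2) (Fin 2) (ZMod 3)) = !![1, 1; 0, 1] * (!![1, 0; k, 1] * !![1, -1; 0, 1]) * !![1, -1; 0, 1] := by
    rw [← h3, ← h2, Matrix.mul_assoc]
    have : (!![1, 1; 0, 1] : Matrix (Fin 2) (Fin 2) (ZMod 3)) * !![1, -1; 0, 1] = 1 := by decide
    rw [this, Matrix.mul_one]
  have h5 : (Y : Matrix (Fin 2) (Fin 2) (ZMod 3)) ^ 8 = 1 := congrArg Subtype.val h8
  intro h6
  have h7 : (Y : Matrix (Fin 2) (Fin 2) (ZMod 3)) * (Y' : Matrix (Fin 2) (Fin 2) (ZMod 3)) = (Y' : Matrix (Fin 2) (Fin 2) (ZMod 3)) * (Y : Matrix (Fin 2) (Fin 2) (ZMod 3)) := congrArg Subtype.val h6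
  rw [h4, h3] at h7
  rw [h3] at h5
  clear h1 h2 h3 h4 h6 h8 hY hY'
  revert k
  decide

theorem MO.not_comm_R [Finite G] {V H A : Subgroup G} (h : MO 3 V H A) :
    ∃ y ∈ ⁅ppc 3 H, A⁆, ∃ y' ∈ ⁅ppc 3 H, A⁆, y * y' ≠ y' * y := by
  haveI : Fact (Nat.Prime 3) := ⟨Nat.prime_three⟩
  obtain ⟨x, hx, hxA⟩ := h.exists_x
  have ht := h.tp hx hxA
  obtain ⟨a, ha, -, hne, -⟩ := ht.exists_gen
  obtain ⟨-, k, φ, hk, hφ1, hφ2⟩ := ht.exists_iso _ le_sup_left le_sup_right ht.E_le_sup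
    ht.E_le_trivOn _ ht.pow_eq_one_of_mem_union ht.E_eq_closure ha hne
  have hx' : a * x * a⁻¹ ∈ ppc 3 H := (mem_normalizer_iff.mp (h.hAQ ha) _).mp hx
  have hyE : ⁅x, a⁆ ∈ A ⊔ conjS x A := (mem_inf.mp (h.comm_mem hx ha)).1
  have haE : a ∈ A ⊔ conjS x A := mem_sup_left ha
  have hy'eq : ⁅a * x * a⁻¹, a⁆ = a * ⁅x, a⁆ * a⁻¹ := by
    simp only [commutatorElement_def]
    group
  have hy'E : ⁅a * x * a⁻¹, a⁆ ∈ A ⊔ conjS x A := by
    rw [hy'eq]
    exact mul_mem (mul_mem haE hyE) (inv_mem haE)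
  refine ⟨⁅x, a⁆, commutator_mem_commutator hx ha, ⁅a * x * a⁻¹, a⁆,
    commutator_mem_commutator hx' ha, ?_⟩
  intro hcomm
  have hk' : (k : ZMod 3) ≠ 0 := by
    rw [Ne, ZMod.natCast_eq_zero_iff]
    exact hk
  refine sl23_aux (k : ZMod 3) hk' (φ ⟨_, hyE⟩) ?_ (φ ⟨_, hy'E⟩) ?_ ?_ ?_
  · rw [← hφ1, ← hφ2, ← map_mul]
    congr 1
    apply Subtype.ext
    simp [commutatorElement_def]
  · rw [← hφ1, ← map_mul, ← map_mul]
    congr 1
    apply Subtype.ext
    simp only [Subgroup.coe_mul, hy'eq]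
    group
  · rw [← map_pow, ← map_one φ]
    congr 1
    apply Subtype.ext
    have h8 := pow_eq_one_of_card ht.card_N (h.comm_mem hx ha)
    simpa using h8
  · rw [← map_mul, ← map_mul]
    congr 1
    apply Subtype.ext
    exact hcomm

end Cfsg.Agent.Lib.Helper48
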