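import Cfsg.Agent.Lib.Helper48.FF4
import Cfsg.Agent.Lib.Helper62.Subnormal2
import Cfsg.Agent.Lib.Helper30.Subnormal
import Cfsg.Agent.Lib.Helper50.Basic
import Cfsg.Agent.S0597

/-!
Failure of factorization (Kurzweil-Stellmacher 9.3.4): two subnormal subgroups acting irreducibly on
their commutator modules.
-/

set_option autoImplicit false

namespace Cfsg.Agent.Lib.Helper48

open Subgroup
open scoped commutatorElement
open Cfsg.Agent.S2909 (trivOn)
open Cfsg.Agent.Lib.Helper22 (conjS mem_conjS conjS_mem conjS_mul conjS_one conjS_eq_of_mem_normalizer)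
open Cfsg.Agent.Lib.Helper62 (SubnIn)

variable {G : Type*} [Group G]

theorem conj_pow_of_trivOn {g v w : G} (h1 : g * v * g⁻¹ = w * v) (h2 : g * w = w * g) (n : ℕ) :
    g ^ n * v * (g ^ n)⁻¹ = w ^ n * v := by
  induction n with
  | zero => simp
  | succ n ih =>
    have h3 : g ^ (n + 1) * v * (g ^ (n + 1))⁻¹ = g ^ n * (g * v * g⁻¹) * (g ^ n)⁻¹ := by
      rw [pow_succ]; group
    have h4 : g ^ n * w = w * g ^ n := ((Commute.pow_left (show Commute g w from h2) n)).eq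
    rw [h3, h1, ← mul_assoc, h4, mul_assoc w, mul_assoc w, ih, pow_succ', mul_assoc]

theorem pow_mem_centralizer_of_trivOn {p : ℕ} {V W : Subgroup G} (hW : ∀ w ∈ W, w ^ p = 1) {g : G}
    (h1 : g ∈ trivOn V W) (h2 : g ∈ centralizer (W : Set G)) : g ^ p ∈ centralizer (V : Set G) := by
  rw [mem_centralizer_iff]
  intro v hv
  have hw := h1.2 v hv
  have h3 : g * v * g⁻¹ = (g * v * g⁻¹ * v⁻¹) * v := by group
  have h4 := conj_pow_of_trivOn h3 (mem_centralizer_iff.mp h2 _ hw).symm p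
  rw [hW _ hw, one_mul] at h4
  calc v * g ^ p = (g ^ p * v * (g ^ p)⁻¹) * g ^ p := by rw [h4]
    _ = g ^ p * v := by group

theorem commutator_sup_eq {V E₁ E₂ : Subgroup G} (h1 : E₁ ≤ normalizer (V : Set G))
    (h2 : E₂ ≤ normalizer (V : Set G)) : ⁅V, E₁ ⊔ E₂⁆ = ⁅V, E₁⁆ ⊔ ⁅V, E₂⁆ := by
  have hW : ⁅V, E₁⁆ ⊔ ⁅V, E₂⁆ ≤ V :=
    sup_le (le_normalizer_iff_commutator_le_left.mp h1) (le_normalizer_iff_commutator_le_left.mp h2)
  exact le_antisymm (commutator_le_of_le_trivOn (sup_le (le_trivOn_of_commutator_le le_sup_left hW)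
    (le_trivOn_of_commutator_le le_sup_right hW)))
    (sup_le (commutator_mono le_rfl le_sup_left) (commutator_mono le_rfl le_sup_right))

theorem commutator_conjS {V A : Subgroup G} {x : G} (hx : x ∈ normalizer (V : Set G)) :
    ⁅V, conjS x A⁆ = conjS x ⁅V, A⁆ := by
  have h1 : conjS x V = V := conjS_eq_of_mem_normalizer hx
  change _ = map _ _
  rw [Subgroup.map_commutator]
  change _ = ⁅conjS x V, conjS x A⁆
  rw [h1]

theorem le_normalizer_conjS {A X : Subgroup G} (g : G) (h : A ≤ normalizer (X : Set G)) :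
    conjS g A ≤ normalizer ((conjS g X : Subgroup G) : Set G) :=
  Cfsg.Agent.Lib.Helper62.le_normalizer_map_conj g h

/-- the ambient hypotheses: `E` acts faithfully on `V`, and has no subnormal `p`-subgroup -/
structure AM (p : ℕ) (V E : Subgroup G) : Prop where
  hV : Cfsg.IsElementaryAbelian p V
  hEV : E ≤ normalizer (V : Set G)
  hf : E ⊓ centralizer (V : Set G) = ⊥
  hOp : ∀ P : Subgroup G, SubnIn P E → IsPGroup p P → P = ⊥

theorem AM.of_subnIn {p : ℕ} {V E L : Subgroup G} (h : AM p V E) (hL : SubnIn L E) : AM p V L :=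
  ⟨h.hV, hL.le.trans h.hEV, by
    rw [eq_bot_iff, ← h.hf]
    exact inf_le_inf_right _ hL.le, fun P hP hPp => h.hOp P (hP.trans hL) hPp⟩

/-- a subnormal subgroup stabilizing `V ≥ W ≥ 1` is trivial -/
theorem AM.eq_bot_of_trivOn {p : ℕ} {V E K W : Subgroup G} (h : AM p V E) (hK : SubnIn K E)
    (hWV : W ≤ V) (h1 : K ≤ trivOn V W) (h2 : K ≤ centralizer (W : Set G)) : K = ⊥ := by
  apply h.hOp K hK
  intro k
  refine ⟨1, ?_⟩
  apply Subtype.ext
  have h3 := pow_mem_centralizer_of_trivOn (p := p) (fun w hw => h.hV.2 w (hWV hw)) (h1 k.2) (h2 k.2)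
  have h4 : (k : G) ^ p ∈ E ⊓ centralizer (V : Set G) := mem_inf.mpr ⟨pow_mem (hK.le k.2) p, h3⟩
  rw [h.hf, mem_bot] at h4
  simpa using h4

/-- an irreducible piece -/
structure IP (V E E₁ : Subgroup G) : Prop where
  sub : SubnIn E₁ E
  irr : ∀ U : Subgroup G, U ≤ ⁅V, E₁⁆ → E₁ ≤ normalizer (U : Set G) → U = ⊥ ∨ U = ⁅V, E₁⁆
  card : 2 < Nat.card E₁

namespace IP

variable {p : ℕ} {V E E₁ : Subgroup G}

theorem ne_bot (h : IP V E E₁) : E₁ ≠ ⊥ := by
  intro h0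
  have := h.card
  rw [h0, Subgroup.card_bot] at this
  omega

theorem comm_le (h : IP V E E₁) (ha : AM p V E) : ⁅V, E₁⁆ ≤ V :=
  le_normalizer_iff_commutator_le_left.mp (h.sub.le.trans ha.hEV)

theorem le_norm (h : IP V E E₁) (ha : AM p V E) :
    E₁ ≤ normalizer ((⁅V, E₁⁆ : Subgroup G) : Set G) :=
  le_normalizer_of_commutator_le le_rfl (h.comm_le ha)

theorem le_triv (h : IP V E E₁) (ha : AM p V E) : E₁ ≤ trivOn V ⁅V, E₁⁆ :=
  le_trivOn_of_commutator_le le_rfl (h.comm_le ha)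

theorem faithful (h : IP V E E₁) (ha : AM p V E) :
    E₁ ⊓ centralizer ((⁅V, E₁⁆ : Subgroup G) : Set G) = ⊥ := by
  apply ha.eq_bot_of_trivOn (W := ⁅V, E₁⁆) _ (h.comm_le ha) (inf_le_left.trans (h.le_triv ha))
    inf_le_right
  refine SubnIn.trans (SubnIn.of_normal inf_le_left ?_) h.sub
  exact Cfsg.Agent.Lib.Helper62.le_normalizer_inf le_normalizer
    (fun e he => mem_normalizer_centralizer (h.le_norm ha he))

theorem cent (h : IP V E E₁) (ha : AM p V E) :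
    ⁅V, E₁⁆ ⊓ centralizer (E₁ : Set G) = ⊥ := by
  have h1 : E₁ ≤ normalizer ((⁅V, E₁⁆ ⊓ centralizer (E₁ : Set G) : Subgroup G) : Set G) :=
    Cfsg.Agent.Lib.Helper62.le_normalizer_inf (h.le_norm ha)
      (fun e he => mem_normalizer_centralizer (le_normalizer he))
  rcases h.irr _ inf_le_left h1 with h2 | h2
  · exact h2
  · exfalso
    have h3 : ⁅V, E₁⁆ ≤ centralizer (E₁ : Set G) := inf_eq_left.mp h2
    have h4 : E₁ ≤ E₁ ⊓ centralizer ((⁅V, E₁⁆ : Subgroup G) : Set G) :=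
      le_inf le_rfl (le_centralizer_iff.mp h3)
    rw [h.faithful ha, le_bot_iff] at h4
    exact h.ne_bot h4

theorem conj (h : IP V E E₁) (ha : AM p V E) {g : G} (hg : g ∈ E) : IP V E (conjS g E₁) := by
  have hgV := ha.hEV hg
  refine ⟨?_, ?_, ?_⟩
  · have := h.sub.conj g
    change SubnIn (conjS g E₁) (conjS g E) at this
    rwa [conjS_self hg] at this
  · intro U hU hn
    rw [commutator_conjS hgV] at hU ⊢
    have h1 : conjS g⁻¹ U ≤ ⁅V, E₁⁆ := by
      rw [conjS_le_iff, inv_inv]; exact hU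
    have h2 : E₁ ≤ normalizer ((conjS g⁻¹ U : Subgroup G) : Set G) := by
      have := le_normalizer_conjS g⁻¹ hn
      rwa [conjS_inv_conjS] at this
    rcases h.irr _ h1 h2 with h3 | h3
    · left
      have := congrArg (conjS g) h3
      rw [conjS_conjS_inv] at this
      rw [this]
      exact Subgroup.map_bot _
    · right
      have := congrArg (conjS g) h3
      rwa [conjS_conjS_inv] at this
  · have : Nat.card (conjS g E₁) = Nat.card E₁ :=
      Subgroup.card_map_of_injective (MulAut.conj g).injective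
    rw [this]
    exact h.card

theorem restrict (h : IP V E E₁) {L : Subgroup G} (h1 : E₁ ≤ L) (h2 : L ≤ E) : IP V L E₁ :=
  ⟨h.sub.restrict h1 h2, h.irr, h.card⟩

end IP

/-- the conclusion -/
def Concl (V E₁ E₂ : Subgroup G) : Prop :=
  ⁅E₁, E₂⁆ = ⊥ ∧ E₁ ⊓ E₂ = ⊥ ∧ ⁅V, E₁⁆ ⊓ ⁅V, E₂⁆ = ⊥

theorem Concl.symm {V E₁ E₂ : Subgroup G} (h : Concl V E₁ E₂) : Concl V E₂ E₁ :=
  ⟨by rw [commutator_comm]; exact h.1, by rw [inf_comm]; exact h.2.1, by rw [inf_comm]; exact h.2.2⟩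

theorem AM.pCore_map_eq_bot {p : ℕ} {V E : Subgroup G} (h : AM p V E) :
    (Cfsg.pCore p E).map E.subtype = ⊥ :=
  h.hOp _ (Cfsg.Agent.Lib.Helper62.subnIn_of_isSubnormal
    (Cfsg.Agent.Lib.Lead.pCore_normal' p E).isSubnormal)
    ((Cfsg.Agent.Lib.Lead.pCore_isPGroup p E).map _)

theorem concl_of_normalizes [Finite G] {p : ℕ} [Fact p.Prime] {V E E₁ E₂ : Subgroup G}
    (ha : AM p V E) (h1 : IP V E E₁) (h2 : IP V E E₂) (h21 : ¬ ⁅V, E₂⁆ ≤ ⁅V, E₁⁆)
    (hn : E₂ ≤ normalizer ((⁅V, E₁⁆ : Subgroup G) : Set G)) : Concl V E₁ E₂ := by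
  have hdisj : ⁅V, E₁⁆ ⊓ ⁅V, E₂⁆ = ⊥ := by
    rcases h2.irr _ inf_le_right (Cfsg.Agent.Lib.Helper62.le_normalizer_inf hn (h2.le_norm ha))
      with h3 | h3
    · exact h3
    · exact absurd (inf_eq_right.mp h3) h21
  have hc : ⁅⁅V, E₁⁆, E₂⁆ = ⊥ := by
    rw [eq_bot_iff, ← hdisj]
    exact le_inf (le_normalizer_iff_commutator_le_left.mp hn) (commutator_mono (h1.comm_le ha) le_rfl)
  have h3 := Cfsg.Agent.S0597.result V E ha.hV ha.hEV ha.hf E₁ E₂ h1.sub.le h2.sub.le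
    h1.sub.isSubnormal_subgroupOf h2.sub.isSubnormal_subgroupOf hc
  rw [ha.pCore_map_eq_bot, le_bot_iff] at h3
  refine ⟨h3, ?_, hdisj⟩
  rw [eq_bot_iff, ← ha.hf]
  refine le_inf (inf_le_left.trans h1.sub.le) ?_
  rw [← commutator_eq_bot_iff_le_centralizer, commutator_comm, eq_bot_iff, ← hdisj]
  exact le_inf (commutator_mono le_rfl inf_le_left) (commutator_mono le_rfl inf_le_right)

theorem le_normalizer_commutator {X V A : Subgroup G} (h1 : X ≤ normalizer (V : Set G))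
    (h2 : X ≤ normalizer (A : Set G)) : X ≤ normalizer ((⁅V, A⁆ : Subgroup G) : Set G) := by
  intro x hx
  rw [Cfsg.Agent.Lib.Helper50.mem_normalizer_iff_map_conj, Subgroup.map_commutator]
  rw [Cfsg.Agent.Lib.Helper50.mem_normalizer_iff_map_conj.mp (h1 hx),
    Cfsg.Agent.Lib.Helper50.mem_normalizer_iff_map_conj.mp (h2 hx)]

/-- if `E₁`, `E₂` commute and their modules are disjoint then `E₁` centralizes `[V, E₂]` -/
theorem Concl.le_centralizer {V E₁ E₂ : Subgroup G} (h : Concl V E₁ E₂)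
    (h1 : E₁ ≤ normalizer (V : Set G)) (h2 : E₂ ≤ normalizer (V : Set G)) :
    E₁ ≤ centralizer ((⁅V, E₂⁆ : Subgroup G) : Set G) := by
  have h3 : E₁ ≤ normalizer (E₂ : Set G) :=
    ((commutator_eq_bot_iff_le_centralizer).mp h.1).trans
      (centralizer_le_normalizer _)
  have h4 := le_normalizer_commutator h1 h3
  rw [← commutator_eq_bot_iff_le_centralizer, commutator_comm, eq_bot_iff, ← h.2.2]
  exact le_inf (commutator_mono (le_normalizer_iff_commutator_le_left.mp h2) le_rfl)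
    (le_normalizer_iff_commutator_le_left.mp h4)

/-- the induction hypothesis -/
def IHyp (p : ℕ) (V : Subgroup G) (n : ℕ) : Prop :=
  ∀ L L₁ L₂ : Subgroup G, Nat.card L < n → AM p V L → L = L₁ ⊔ L₂ → IP V L L₁ → IP V L L₂ →
    ¬ ⁅V, L₁⁆ ≤ ⁅V, L₂⁆ → ¬ ⁅V, L₂⁆ ≤ ⁅V, L₁⁆ → Concl V L₁ L₂

theorem claimA [Finite G] {p : ℕ} {V E E₁ : Subgroup G} (ih : IHyp p V (Nat.card E))
    (ha : AM p V E) (h1 : IP V E E₁) (hne : E₁ ≠ E) {g : G} (hg : g ∈ E)
    (hgn : g ∉ normalizer ((⁅V, E₁⁆ : Subgroup G) : Set G)) : Concl V E₁ (conjS g E₁) := by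
  have h2 := h1.conj ha hg
  have hL : SubnIn (E₁ ⊔ conjS g E₁) E := h1.sub.sup h2.sub
  obtain ⟨K, hK1, hK2, hK3, -⟩ := h1.sub.exists_normal hne
  have hLK : E₁ ⊔ conjS g E₁ ≤ K := by
    refine sup_le hK1 ?_
    rw [← conjS_eq_of_mem_normalizer (hK3 hg)]
    exact conjS_mono g hK1
  have hcard : Nat.card ↥(E₁ ⊔ conjS g E₁) < Nat.card E :=
    Cfsg.Agent.Lib.Helper22.natCard_lt_of_lt (lt_of_le_of_lt hLK hK2)
  refine ih _ E₁ (conjS g E₁) hcard (ha.of_subnIn hL) rfl (h1.restrict le_sup_left hL.le)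
    (h2.restrict le_sup_right hL.le) ?_ ?_
  · rw [commutator_conjS (ha.hEV hg)]
    intro hle
    apply hgn
    have h3 : conjS g⁻¹ ⁅V, E₁⁆ ≤ ⁅V, E₁⁆ := by
      rw [conjS_le_iff, inv_inv]; exact hle
    have h4 := Cfsg.Agent.Lib.Helper50.mem_normalizer_of_map_conj_le h3
    simpa using inv_mem h4
  · rw [commutator_conjS (ha.hEV hg)]
    intro hle
    exact hgn (Cfsg.Agent.Lib.Helper50.mem_normalizer_of_map_conj_le hle)

/-- consequences of Claim A in elementwise form -/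
theorem claimA' [Finite G] {p : ℕ} {V E E₁ : Subgroup G} (ih : IHyp p V (Nat.card E))
    (ha : AM p V E) (h1 : IP V E E₁) (hne : E₁ ≠ E) {g : G} (hg : g ∈ E)
    (hgn : g ∉ normalizer ((⁅V, E₁⁆ : Subgroup G) : Set G)) :
    E₁ ≤ centralizer ((conjS g ⁅V, E₁⁆ : Subgroup G) : Set G) ∧
      ⁅V, E₁⁆ ⊓ conjS g ⁅V, E₁⁆ = ⊥ := by
  have h2 := claimA ih ha h1 hne hg hgn
  have h3 := h2.le_centralizer (h1.sub.le.trans ha.hEV) ((h1.conj ha hg).sub.le.trans ha.hEV)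
  have h4 := h2.2.2
  rw [commutator_conjS (ha.hEV hg)] at h3 h4
  exact ⟨h3, h4⟩

theorem conj_eq_of_mem_centralizer {X : Subgroup G} {e u : G} (he : e ∈ centralizer (X : Set G))
    (hu : u ∈ X) : e * u * e⁻¹ = u := by
  rw [← mem_centralizer_iff.mp he u hu]
  group

theorem inverts [Finite G] {p : ℕ} {V E E₁ E₂ : Subgroup G} (ih : IHyp p V (Nat.card E))
    (ha : AM p V E) (h1 : IP V E E₁) (h2 : IP V E E₂) (hne1 : E₁ ≠ E) (hne2 : E₂ ≠ E)
    {x : G} (hx : x ∈ E₂) (hxn : x ∉ normalizer ((⁅V, E₁⁆ : Subgroup G) : Set G))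
    {e : G} (he : e ∈ E₁) (hen : e ∉ normalizer ((⁅V, E₂⁆ : Subgroup G) : Set G))
    {v : G} (hv : v ∈ ⁅V, E₁⁆) : e * v * e⁻¹ = v⁻¹ := by
  obtain ⟨hc1, hd1⟩ := claimA' ih ha h1 hne1 (h2.sub.le hx) hxn
  obtain ⟨hc2, -⟩ := claimA' ih ha h2 hne2 (h1.sub.le he) hen
  have hV1 := h1.comm_le ha
  have hxV := ha.hEV (h2.sub.le hx)
  set a := x * v * x⁻¹ with ha'
  set b := e * v * e⁻¹ with hb'
  set c := x * a * x⁻¹ with hc'
  set d := x * b * x⁻¹ with hd'
  have hb1 : b ∈ ⁅V, E₁⁆ := (mem_normalizer_iff.mp (h1.le_norm ha he) v).mp hv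
  have haX : a ∈ conjS x ⁅V, E₁⁆ := conjS_mem hv
  have hdX : d ∈ conjS x ⁅V, E₁⁆ := conjS_mem hb1
  have hbV : b ∈ V := hV1 hb1
  have hdV : d ∈ V := (mem_normalizer_iff.mp hxV b).mp hbV
  have hw : a * v⁻¹ ∈ ⁅V, E₂⁆ := (h2.le_triv ha hx).2 v (hV1 hv)
  have hew : e * (a * v⁻¹) * e⁻¹ = a * b⁻¹ := by
    have h3 : e * a * e⁻¹ = a := conj_eq_of_mem_centralizer (hc1 he) haX
    calc e * (a * v⁻¹) * e⁻¹ = (e * a * e⁻¹) * (e * v * e⁻¹)⁻¹ := by group
      _ = a * b⁻¹ := by rw [h3]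
  have h4 : x * (a * b⁻¹) * x⁻¹ = a * b⁻¹ := by
    apply conj_eq_of_mem_centralizer (hc2 hx)
    rw [← hew]
    exact conjS_mem hw
  have h5 : c * d⁻¹ = a * b⁻¹ := by
    rw [← h4, hc', hd']
    group
  have hbd : b * d = d * b := by
    have := ha.hV.1
    exact congrArg Subtype.val (mul_comm' (⟨b, hbV⟩ : V) ⟨d, hdV⟩)
  have h6 : c * b = a * d := by
    have h7 : c = a * b⁻¹ * d := by rw [← h5]; group
    rw [h7, mul_assoc, ← hbd]
    group
  have hcx : c = (x * x) * v * (x * x)⁻¹ := by rw [hc', ha']; group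
  by_cases hx2 : x * x ∈ normalizer ((⁅V, E₁⁆ : Subgroup G) : Set G)
  · have hc1' : c ∈ ⁅V, E₁⁆ := by
      rw [hcx]
      exact (mem_normalizer_iff.mp hx2 v).mp hv
    have h8 : a * d ∈ ⁅V, E₁⁆ ⊓ conjS x ⁅V, E₁⁆ :=
      mem_inf.mpr ⟨h6 ▸ mul_mem hc1' hb1, mul_mem haX hdX⟩
    rw [hd1, mem_bot] at h8
    have h9 : x * (v * b) * x⁻¹ = 1 := by
      rw [← h8, ha', hd']; group
    have h10 : v * b = 1 := by
      have : v * b = x⁻¹ * (x * (v * b) * x⁻¹) * x := by group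
      rw [this, h9]; group
    exact (eq_inv_of_mul_eq_one_right h10)
  · obtain ⟨hc3, -⟩ := claimA' ih ha h1 hne1 (h2.sub.le (mul_mem hx hx)) hx2
    have hcX : c ∈ conjS (x * x) ⁅V, E₁⁆ := by
      rw [hcx]; exact conjS_mem hv
    have h8 : b = c⁻¹ * (a * d) := by rw [← h6]; group
    have h9 : b ∈ ⁅V, E₁⁆ ⊓ centralizer (E₁ : Set G) := by
      refine mem_inf.mpr ⟨hb1, ?_⟩
      rw [h8]
      exact mul_mem (inv_mem (le_centralizer_iff.mp hc3 hcX))
        (mul_mem (le_centralizer_iff.mp hc1 haX) (le_centralizer_iff.mp hc1 hdX))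
    rw [h1.cent ha, mem_bot] at h9
    have h10 : v = 1 := by
      have : v = e⁻¹ * b * e := by rw [hb']; group
      rw [this, h9]; group
    rw [h9, h10, inv_one]

theorem main_aux [Finite G] {p : ℕ} [Fact p.Prime] (V : Subgroup G) : ∀ n : ℕ, IHyp p V n := by
  intro n
  induction n using Nat.strong_induction_on with
  | _ n IH =>
  intro E E₁ E₂ hn ha hE h1 h2 h12 h21
  have ih : IHyp p V (Nat.card E) := IH _ hn
  have hne1 : E₁ ≠ E := by
    intro h
    apply h21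
    rw [h]
    exact commutator_mono le_rfl h2.sub.le
  have hne2 : E₂ ≠ E := by
    intro h
    apply h12
    rw [h]
    exact commutator_mono le_rfl h1.sub.le
  by_cases hn1 : E₂ ≤ normalizer ((⁅V, E₁⁆ : Subgroup G) : Set G)
  · exact concl_of_normalizes ha h1 h2 h21 hn1
  by_cases hn2 : E₁ ≤ normalizer ((⁅V, E₂⁆ : Subgroup G) : Set G)
  · exact (concl_of_normalizes ha h2 h1 h12 hn2).symm
  exfalso
  obtain ⟨x, hx, hxn⟩ := SetLike.not_le_iff_exists.mp hn1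
  obtain ⟨e, he, hen⟩ := SetLike.not_le_iff_exists.mp hn2
  have hinv : ∀ g ∈ E₁, g ∉ normalizer ((⁅V, E₂⁆ : Subgroup G) : Set G) →
      ∀ v ∈ ⁅V, E₁⁆, g * v * g⁻¹ = v⁻¹ := fun g hg hgn v hv =>
    inverts ih ha h1 h2 hne1 hne2 hx hxn hg hgn hv
  have hfaith : ∀ g ∈ E₁, (∀ v ∈ ⁅V, E₁⁆, g * v * g⁻¹ = v) → g = 1 := by
    intro g hg hgv
    have : g ∈ E₁ ⊓ centralizer ((⁅V, E₁⁆ : Subgroup G) : Set G) := by
      refine mem_inf.mpr ⟨hg, ?_⟩
      rw [mem_centralizer_iff]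
      intro v hv
      calc v * g = (g * v * g⁻¹) * g := by rw [hgv v hv]
        _ = g * v := by group
    rw [h1.faithful ha, mem_bot] at this
    exact this
  have hsub : (E₁ : Set G) ⊆ {1, e} := by
    intro g hg
    by_cases hgn : g ∈ normalizer ((⁅V, E₂⁆ : Subgroup G) : Set G)
    · left
      apply hfaith g hg
      intro v hv
      have h3 : e * g ∉ normalizer ((⁅V, E₂⁆ : Subgroup G) : Set G) := by
        intro h
        apply hen
        have := mul_mem h (inv_mem hgn)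
        simpa using this
      have h4 := hinv (e * g) (mul_mem he hg) h3 v hv
      have h5 : g * v * g⁻¹ ∈ ⁅V, E₁⁆ := (mem_normalizer_iff.mp (h1.le_norm ha hg) v).mp hv
      have h6 := hinv e he hen _ h5
      have h7 : e * g * v * (e * g)⁻¹ = e * (g * v * g⁻¹) * e⁻¹ := by group
      rw [h7, h6] at h4
      exact inv_injective h4
    · right
      have h3 : e⁻¹ * g = 1 := by
        apply hfaith _ (mul_mem (inv_mem he) hg)
        intro v hv
        have h4 := hinv g hg hgn v hv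
        have h5 := hinv e he hen v hv
        have h6 : e⁻¹ * g * v * (e⁻¹ * g)⁻¹ = e⁻¹ * (g * v * g⁻¹) * e := by group
        rw [h6, h4]
        rw [← h5]
        group
      exact (inv_mul_eq_one.mp h3).symm
  have hcard : Nat.card E₁ ≤ 2 := by
    have h3 : Nat.card E₁ = (E₁ : Set G).ncard := rfl
    rw [h3]
    exact (Set.ncard_le_ncard hsub (Set.toFinite _)).trans ((Set.ncard_insert_le 1 {e}).trans (by rw [Set.ncard_singleton]))
  have := h1.card
  omega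

/-- Kurzweil-Stellmacher 9.3.4, ambient form -/
theorem concl_of_irreducible [Finite G] {p : ℕ} [Fact p.Prime] {V E E₁ E₂ : Subgroup G}
    (ha : AM p V E) (hE : E = E₁ ⊔ E₂) (h1 : IP V E E₁) (h2 : IP V E E₂)
    (h12 : ¬ ⁅V, E₁⁆ ≤ ⁅V, E₂⁆) (h21 : ¬ ⁅V, E₂⁆ ≤ ⁅V, E₁⁆) : Concl V E₁ E₂ :=
  main_aux V (Nat.card E + 1) E E₁ E₂ (Nat.lt_succ_self _) ha hE h1 h2 h12 h21

end Cfsg.Agent.Lib.Helper48
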