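import Cfsg.Agent.Lib.Helper48.FF5

/-!
Failure of factorization (Kurzweil-Stellmacher 9.3.5): `[O_{p'}(H), A] A ≅ SL(2, p)`.
-/

set_option autoImplicit false

namespace Cfsg.Agent.Lib.Helper48

open Subgroup
open scoped commutatorElement
open Cfsg.Agent.S2909 (trivOn)
open Cfsg.Agent.Lib.Helper22 (conjS mem_conjS conjS_mem conjS_mul conjS_one conjS_eq_of_mem_normalizer)
open Cfsg.Agent.Lib.Helper62 (SubnIn)

variable {G : Type*} [Group G]

theorem subnIn_of_isPGroup [Finite G] {r : ℕ} [Fact r.Prime] {L : Subgroup G} (hL : IsPGroup r L) :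
    ∀ S : Subgroup G, S ≤ L → SubnIn S L := by
  intro S
  induction S using (wellFounded_gt (α := Subgroup G)).induction with
  | _ S ih =>
  intro hSL
  by_cases hne : S = L
  · rw [hne]; exact SubnIn.refl L
  · obtain ⟨g, hgL, hgS, hgN⟩ :=
      Cfsg.Agent.Lib.Helper50.exists_mem_normalizer_of_lt hL (lt_of_le_of_ne hSL hne)
    have h1 : S < normalizer (S : Set G) ⊓ L :=
      lt_of_le_of_ne (le_inf le_normalizer hSL) (fun h => hgS (h ▸ mem_inf.mpr ⟨hgN, hgL⟩))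
    exact SubnIn.step S _ L h1.le inf_le_left (ih _ h1 inf_le_right)

theorem eq_bot_of_isPGroup_of_not_dvd [Finite G] {p : ℕ} [hp : Fact p.Prime] {P Q : Subgroup G}
    (hQ : ¬ p ∣ Nat.card Q) (hPQ : P ≤ Q) (hP : IsPGroup p P) : P = ⊥ := by
  rw [eq_bot_iff]
  intro g hg
  obtain ⟨k, hk⟩ := hP ⟨g, hg⟩
  have hk' : g ^ p ^ k = 1 := congrArg Subtype.val hk
  have h1 := coprime_orderOf_of_mem hQ (hPQ hg)
  have h2 : orderOf g ∣ p ^ k := orderOf_dvd_of_pow_eq_one hk'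
  have h3 : orderOf g = 1 := Nat.Coprime.eq_one_of_dvd (h1.pow_right k) h2
  rw [mem_bot]
  exact orderOf_eq_one_iff.mp h3

theorem le_normalizer_commutator_left [Finite G] (Q A : Subgroup G) :
    Q ≤ normalizer ((⁅Q, A⁆ : Subgroup G) : Set G) := by
  intro q hq
  apply Cfsg.Agent.Lib.Helper50.mem_normalizer_of_map_conj_le
  rw [Subgroup.map_le_iff_le_comap, commutator_le]
  intro x hx α hα
  rw [mem_comap]
  have h1 : (MulAut.conj q).toMonoidHom ⁅x, α⁆ = ⁅q * x, α⁆ * ⁅q, α⁆⁻¹ := by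
    simp only [MulEquiv.coe_toMonoidHom, MulAut.conj_apply, commutatorElement_def]
    group
  rw [h1]
  exact mul_mem (commutator_mem_commutator (mul_mem hq hx) hα)
    (inv_mem (commutator_mem_commutator hq hα))

namespace TP

variable {p : ℕ} {V H A : Subgroup G} {x : G}

theorem U2_le_normalizer (h : TP p V H A x) :
    ⁅V, conjS x A⁆ ≤ normalizer ((⁅V, A⁆ : Subgroup G) : Set G) := by
  rw [le_normalizer_iff]
  intro u hu w hw
  rw [h.ff.comm u (h.U2_le hu) w (h.U1_le hw)]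
  simpa using hw

theorem cent_a [Finite G] [Fact p.Prime] (h : TP p V H A x) {a : G} (ha : a ∈ A)
    (hne : x * a * x⁻¹ ≠ a) {u : G} (hu : u ∈ ⁅V, A⁆ ⊔ ⁅V, conjS x A⁆) (hc : u * a = a * u) :
    u ∈ ⁅V, A⁆ := by
  obtain ⟨u1, hu1, u2, hu2, rfl⟩ :=
    (Cfsg.Agent.Lib.Helper22.mem_sup_of_le_normalizer h.U2_le_normalizer).mp hu
  have h1 : u1 * a = a * u1 := mem_centralizer_iff.mp (h.A_cent ha) u1 hu1
  have h2 : u2 * a = a * u2 := by
    have : u1 * (u2 * a) = u1 * (a * u2) := by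
      rw [← mul_assoc, hc, ← mul_assoc, ← mul_assoc, h1]
    exact mul_left_cancel this
  by_cases h3 : u2 = 1
  · rw [h3, mul_one]; exact hu1
  · exfalso
    apply h.a_not_cent ha hne
    apply mem_centralizer_sup (h.A_cent ha)
    rw [eq_zpowers_of_card_prime h.hU2 hu2 h3, centralizer_zpowers_eq', mem_centralizer_iff]
    intro z hz
    rw [Set.mem_singleton_iff.mp hz]
    exact h2

theorem cent_b [Finite G] [Fact p.Prime] (h : TP p V H A x) {a : G} (ha : a ∈ A)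
    (hne : x * a * x⁻¹ ≠ a) {u : G} (hu : u ∈ ⁅V, A⁆ ⊔ ⁅V, conjS x A⁆)
    (hc : u * (x * a * x⁻¹) = (x * a * x⁻¹) * u) : u ∈ ⁅V, conjS x A⁆ := by
  obtain ⟨u1, hu1, u2, hu2, rfl⟩ :=
    (Cfsg.Agent.Lib.Helper22.mem_sup_of_le_normalizer h.U2_le_normalizer).mp hu
  have hb : x * a * x⁻¹ ∈ conjS x A := conjS_mem ha
  set b := x * a * x⁻¹ with hbdef
  have h2 : u2 * b = b * u2 := mem_centralizer_iff.mp (h.B_cent hb) u2 hu2
  have h1 : u1 * b = b * u1 := by
    have : (u1 * b) * u2 = (b * u1) * u2 := by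
      rw [mul_assoc u1, ← h2, ← mul_assoc, hc, ← mul_assoc]
    exact mul_right_cancel this
  by_cases h3 : u1 = 1
  · rw [h3, one_mul]; exact hu2
  · exfalso
    apply h.b_not_cent ha hne
    refine mem_centralizer_sup ?_ (h.B_cent hb)
    rw [eq_zpowers_of_card_prime h.hU hu1 h3, centralizer_zpowers_eq', mem_centralizer_iff]
    intro z hz
    rw [Set.mem_singleton_iff.mp hz]
    exact h1

end TP

open Matrix Matrix.SpecialLinearGroup in
theorem sl23_aux2 (k : ZMod 3) (hk : k ≠ 0)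
    (Y : SpecialLinearGroup (Fin 2) (ZMod 3))
    (hY : Y * transvection (show (0 : Fin 2) ≠ 1 by decide) 1 =
      transvection (show (1 : Fin 2) ≠ 0 by decide) k) : Y ^ 2 ≠ 1 := by
  have h1 : (Y : Matrix (Fin 2) (Fin 2) (ZMod 3)) * !![1, 1; 0, 1] = !![1, 0; k, 1] := by
    rw [← t12_coe, ← t21_coe, ← hY]; rfl
  have h3 : (Y : Matrix (Fin 2) (Fin 2) (ZMod 3)) = !![1, 0; k, 1] * !![1, -1; 0, 1] := by
    rw [← h1, Matrix.mul_assoc]
    have : (!![1, 1; 0, 1] : Matrix (Fin 2) (Fin 2) (ZMod 3)) * !![1, -1; 0, 1] = 1 := by decide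
    rw [this, Matrix.mul_one]
  intro h8
  have h5 : (Y : Matrix (Fin 2) (Fin 2) (ZMod 3)) ^ 2 = 1 := congrArg Subtype.val h8
  rw [h3] at h5
  clear h1 h3 h8 hY
  revert k
  decide

namespace TP

variable {p : ℕ} {V H A : Subgroup G} {x : G}

theorem mo (h : TP p V H A x) : MO p V H A := ⟨h.ff, h.hAH, h.hAp, h.hU⟩

theorem y_pow_ne [Finite G] [hp : Fact p.Prime] (h : TP p V H A x) {a : G} (ha : a ∈ A)
    (hne : x * a * x⁻¹ ≠ a) : ⁅x, a⁆ ^ (p - 1) ≠ 1 := by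
  intro h1
  rcases h.prime_cases with rfl | rfl
  · apply hne
    rw [show 2 - 1 = 1 from rfl, pow_one, commutatorElement_eq_one_iff_mul_comm] at h1
    rw [h1]; group
  · obtain ⟨-, k, φ, hk, hφ1, hφ2⟩ := h.exists_iso _ le_sup_left le_sup_right h.E_le_sup
      h.E_le_trivOn _ h.pow_eq_one_of_mem_union h.E_eq_closure ha hne
    have hyE : ⁅x, a⁆ ∈ A ⊔ conjS x A := (mem_inf.mp (h.mo.comm_mem h.hx ha)).1
    have hk' : (k : ZMod 3) ≠ 0 := by
      rw [Ne, ZMod.natCast_eq_zero_iff]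
      exact hk
    refine sl23_aux2 (k : ZMod 3) hk' (φ ⟨_, hyE⟩) ?_ ?_
    · rw [← hφ1, ← hφ2, ← map_mul]
      congr 1
      apply Subtype.ext
      simp [commutatorElement_def]
    · rw [← map_pow, ← map_one φ]
      congr 1
      apply Subtype.ext
      simpa using h1

theorem faithful [Finite G] [hp : Fact p.Prime] (h : TP p V H A x) :
    (A ⊔ conjS x A) ⊓ centralizer ((⁅V, A⁆ ⊔ ⁅V, conjS x A⁆ : Subgroup G) : Set G) = ⊥ := by
  obtain ⟨a, ha, -, hne, -⟩ := h.exists_gen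
  exact (h.exists_iso _ le_sup_left le_sup_right h.E_le_sup
      h.E_le_trivOn _ h.pow_eq_one_of_mem_union h.E_eq_closure ha hne).1

/-- `N = ⟨A, A^x⟩ ∩ O_{p'}(H)` acts irreducibly on `W`. -/
theorem irr_N [Finite G] [hp : Fact p.Prime] (h : TP p V H A x) (U : Subgroup G)
    (hU : U ≤ ⁅V, A⁆ ⊔ ⁅V, conjS x A⁆)
    (hN : (A ⊔ conjS x A) ⊓ ppc p H ≤ normalizer (U : Set G)) :
    U = ⊥ ∨ U = ⁅V, A⁆ ⊔ ⁅V, conjS x A⁆ := by
  obtain ⟨k, hk2, hk⟩ := (Nat.dvd_prime_pow hp.out).mp (h.card_W ▸ Subgroup.card_dvd_of_le hU)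
  interval_cases k
  · left
    rw [pow_zero] at hk
    exact (Subgroup.card_eq_one).mp hk
  · exfalso
    rw [pow_one] at hk
    obtain ⟨a, ha, -, hne, -⟩ := h.exists_gen
    have hy := h.mo.comm_mem h.hx ha
    have haW : a ∈ normalizer ((⁅V, A⁆ ⊔ ⁅V, conjS x A⁆ : Subgroup G) : Set G) :=
      h.E_le_normalizer (mem_sup_left ha)
    have hU' : conjS a U ≤ ⁅V, A⁆ ⊔ ⁅V, conjS x A⁆ := by
      rw [← conjS_eq_of_mem_normalizer haW]
      exact conjS_mono a hU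
    have hN' : (A ⊔ conjS x A) ⊓ ppc p H ≤ normalizer ((conjS a U : Subgroup G) : Set G) := by
      have := le_normalizer_conjS a hN
      rwa [conjS_eq_of_mem_normalizer (h.A_le_normalizer_N ha)] at this
    have hk' : Nat.card (conjS a U) = p := by
      rw [← hk]
      exact Subgroup.card_map_of_injective (MulAut.conj a).injective
    by_cases hUU : conjS a U = U
    · have haU : a ∈ normalizer (U : Set G) :=
        Cfsg.Agent.Lib.Helper50.mem_normalizer_iff_map_conj.mpr hUU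
      have haC : a ∈ centralizer (U : Set G) := by
        apply mem_centralizer_of_card_prime hk haU
        rw [pow_eq_one_of_card h.hAp ha]
        exact one_mem _
      have hb : x * a * x⁻¹ ∈ conjS x A := conjS_mem ha
      have hbU : x * a * x⁻¹ ∈ normalizer (U : Set G) := by
        have h1 := mul_mem (hN hy) haU
        have h2 : ⁅x, a⁆ * a = x * a * x⁻¹ := by rw [commutatorElement_def]; group
        rwa [h2] at h1
      have hbC : x * a * x⁻¹ ∈ centralizer (U : Set G) := by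
        apply mem_centralizer_of_card_prime hk hbU
        rw [pow_eq_one_of_card h.hBp hb]
        exact one_mem _
      have h3 : U ≤ ⁅V, A⁆ ⊓ ⁅V, conjS x A⁆ := by
        intro u hu
        exact mem_inf.mpr ⟨h.cent_a ha hne (hU hu) (mem_centralizer_iff.mp haC u hu),
          h.cent_b ha hne (hU hu) (mem_centralizer_iff.mp hbC u hu)⟩
      rw [h.U_disj, le_bot_iff] at h3
      rw [h3, Subgroup.card_bot] at hk
      exact hp.out.one_lt.ne hk
    · have hdisj : U ⊓ conjS a U = ⊥ := by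
        rcases eq_bot_or_eq_of_le_of_card_prime hk' (inf_le_right : U ⊓ conjS a U ≤ conjS a U)
          with h1 | h1
        · exact h1
        · exfalso
          apply hUU
          exact eq_of_le_of_card_ge (inf_eq_right.mp h1) (by rw [hk, hk'])
      have hnorm : U ≤ normalizer ((conjS a U : Subgroup G) : Set G) := by
        rw [le_normalizer_iff]
        intro u hu w hw
        rw [h.ff.comm u (h.W_le (hU hu)) w (h.W_le (hU' hw))]
        simpa using hw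
      have hc := Cfsg.Agent.Lib.Helper10.card_sup_mul_card_inf _ _ hnorm
      rw [hdisj, Subgroup.card_bot, mul_one, hk, hk'] at hc
      have hW : U ⊔ conjS a U = ⁅V, A⁆ ⊔ ⁅V, conjS x A⁆ :=
        eq_of_le_of_card_ge (sup_le hU hU') (by rw [hc, h.card_W, sq])
      have h1 := pow_pred_mem_centralizer hk (hN hy)
      have h2 := pow_pred_mem_centralizer hk' (hN' hy)
      have h3 := mem_centralizer_sup h1 h2
      rw [hW] at h3
      have h4 : ⁅x, a⁆ ^ (p - 1) ∈ (A ⊔ conjS x A) ⊓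
          centralizer ((⁅V, A⁆ ⊔ ⁅V, conjS x A⁆ : Subgroup G) : Set G) :=
        mem_inf.mpr ⟨pow_mem (mem_inf.mp hy).1 _, h3⟩
      rw [h.faithful, mem_bot] at h4
      exact h.y_pow_ne ha hne h4
  · right
    exact eq_of_le_of_card_ge hU (by rw [hk, h.card_W])

theorem two_lt_card_N [Finite G] [hp : Fact p.Prime] (h : TP p V H A x) :
    2 < Nat.card ↥((A ⊔ conjS x A) ⊓ ppc p H) := by
  rw [h.card_N]
  rcases h.prime_cases with rfl | rfl <;> norm_num

theorem comm_N [Finite G] [hp : Fact p.Prime] (h : TP p V H A x) :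
    ⁅V, (A ⊔ conjS x A) ⊓ ppc p H⁆ = ⁅V, A⁆ ⊔ ⁅V, conjS x A⁆ := by
  have h1 : ⁅V, (A ⊔ conjS x A) ⊓ ppc p H⁆ ≤ ⁅V, A⁆ ⊔ ⁅V, conjS x A⁆ := by
    rw [← h.comm_E]
    exact commutator_mono le_rfl inf_le_left
  have hNV : (A ⊔ conjS x A) ⊓ ppc p H ≤ normalizer (V : Set G) :=
    inf_le_left.trans (h.hEH.trans h.ff.hHV)
  rcases h.irr_N _ h1 (le_normalizer_commutator hNV le_normalizer) with h2 | h2
  · exfalso
    rw [commutator_comm, commutator_eq_bot_iff_le_centralizer] at h2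
    have h3 : (A ⊔ conjS x A) ⊓ ppc p H ≤ H ⊓ centralizer (V : Set G) :=
      le_inf (inf_le_left.trans h.hEH) h2
    rw [h.ff.hf, le_bot_iff] at h3
    have := h.two_lt_card_N
    rw [h3, Subgroup.card_bot] at this
    omega
  · exact h2

theorem ip_N [Finite G] [hp : Fact p.Prime] (h : TP p V H A x) {L : Subgroup G}
    (hL : SubnIn ((A ⊔ conjS x A) ⊓ ppc p H) L) : IP V L ((A ⊔ conjS x A) ⊓ ppc p H) := by
  refine ⟨hL, ?_, h.two_lt_card_N⟩
  rw [h.comm_N]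
  exact h.irr_N

end TP

theorem FF.am_of_le [Finite G] {p : ℕ} [hp : Fact p.Prime] {V H L : Subgroup G} (h : FF p V H)
    (hL : L ≤ ppc p H) : AM p V L :=
  ⟨h.hV, (hL.trans (ppc_le p H)).trans h.hHV, by
    rw [eq_bot_iff, ← h.hf]
    exact inf_le_inf_right _ (hL.trans (ppc_le p H)), fun P hP hPp =>
    eq_bot_of_isPGroup_of_not_dvd (not_dvd_card_ppc p H) (hP.le.trans hL) hPp⟩

namespace MO

variable {p : ℕ} {V H A : Subgroup G}

theorem A_le_normalizer_R (h : MO p V H A) :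
    A ≤ normalizer ((⁅ppc p H, A⁆ : Subgroup G) : Set G) :=
  le_normalizer_commutator h.hAQ le_normalizer

theorem R_le (h : MO p V H A) : ⁅ppc p H, A⁆ ≤ ppc p H :=
  le_normalizer_iff_commutator_le_left.mp h.hAQ

theorem conj_mem_E (_h : MO p V H A) {x α : G} (hx : x ∈ ppc p H) (hα : α ∈ A) :
    x * α * x⁻¹ ∈ ⁅ppc p H, A⁆ ⊔ A := by
  have h1 : x * α * x⁻¹ = ⁅x, α⁆ * α := by rw [commutatorElement_def]; group
  rw [h1]
  exact mul_mem (mem_sup_left (commutator_mem_commutator hx hα)) (mem_sup_right hα)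

theorem Ex_le (h : MO p V H A) {x : G} (hx : x ∈ ppc p H) :
    A ⊔ conjS x A ≤ ⁅ppc p H, A⁆ ⊔ A := by
  refine sup_le le_sup_right ?_
  rintro _ ⟨α, hα, rfl⟩
  exact h.conj_mem_E hx hα

theorem E_inf_ppc [Finite G] [hp : Fact p.Prime] (h : MO p V H A) :
    (⁅ppc p H, A⁆ ⊔ A) ⊓ ppc p H = ⁅ppc p H, A⁆ := by
  apply le_antisymm _ (le_inf le_sup_left h.R_le)
  intro g hg
  obtain ⟨hg1, hg2⟩ := mem_inf.mp hg
  obtain ⟨r, hr, α, hα, rfl⟩ :=
    (Cfsg.Agent.Lib.Helper22.mem_sup_of_le_normalizer h.A_le_normalizer_R).mp hg1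
  have h1 : α ∈ A ⊓ ppc p H := by
    refine mem_inf.mpr ⟨hα, ?_⟩
    have := mul_mem (inv_mem (h.R_le hr)) hg2
    simpa using this
  rw [h.A_inf_ppc, mem_bot] at h1
  rw [h1, mul_one]
  exact hr

theorem N_le_R [Finite G] [hp : Fact p.Prime] (h : MO p V H A) {x : G} (hx : x ∈ ppc p H) :
    (A ⊔ conjS x A) ⊓ ppc p H ≤ ⁅ppc p H, A⁆ := by
  rw [← h.E_inf_ppc]
  exact inf_le_inf_right _ (h.Ex_le hx)

theorem W_eq [Finite G] [hp : Fact p.Prime] (h : MO p V H A) {x x' : G} (hx : x ∈ ppc p H)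
    (hxA : x ∉ centralizer (A : Set G)) (hx' : x' ∈ ppc p H)
    (hxA' : x' ∉ centralizer (A : Set G)) :
    ⁅V, A⁆ ⊔ ⁅V, conjS x A⁆ = ⁅V, A⁆ ⊔ ⁅V, conjS x' A⁆ := by
  by_contra hne
  haveI : Fact (rr p).Prime := ⟨rr_prime p⟩
  have t := h.tp hx hxA
  have t' := h.tp hx' hxA'
  have hLR : (A ⊔ conjS x A) ⊓ ppc p H ⊔ (A ⊔ conjS x' A) ⊓ ppc p H ≤ ⁅ppc p H, A⁆ :=
    sup_le (h.N_le_R hx) (h.N_le_R hx')
  have hLr := h.isPGroup_R.to_le hLR
  have h1 := concl_of_irreducible (h.ff.am_of_le (hLR.trans h.R_le)) rfl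
    (t.ip_N (subnIn_of_isPGroup hLr _ le_sup_left)) (t'.ip_N (subnIn_of_isPGroup hLr _ le_sup_right))
    (by
      rw [t.comm_N, t'.comm_N]
      intro hle
      exact hne (eq_of_le_of_card_ge hle (by rw [t.card_W, t'.card_W])))
    (by
      rw [t.comm_N, t'.comm_N]
      intro hle
      exact hne (eq_of_le_of_card_ge hle (by rw [t.card_W, t'.card_W])).symm)
  have h2 := h1.2.2
  rw [t.comm_N, t'.comm_N] at h2
  have h3 : ⁅V, A⁆ ≤ ⊥ := h2 ▸ le_inf le_sup_left le_sup_left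
  rw [le_bot_iff] at h3
  have h4 := h.hU
  rw [h3, Subgroup.card_bot] at h4
  exact hp.out.one_lt.ne h4

theorem E_eq_closure (h : MO p V H A) :
    ⁅ppc p H, A⁆ ⊔ A = closure {g | ∃ x ∈ ppc p H, ∃ α ∈ A, g = x * α * x⁻¹} := by
  have hA : A ≤ closure {g | ∃ x ∈ ppc p H, ∃ α ∈ A, g = x * α * x⁻¹} := by
    intro α hα
    exact subset_closure ⟨1, one_mem _, α, hα, by simp⟩
  apply le_antisymm
  · refine sup_le ?_ hA
    rw [commutator_le]
    intro x hx α hα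
    rw [commutatorElement_def]
    exact mul_mem (subset_closure ⟨x, hx, α, hα, rfl⟩) (inv_mem (hA hα))
  · rw [closure_le]
    rintro _ ⟨x, hx, α, hα, rfl⟩
    exact h.conj_mem_E hx hα

theorem E_le_trivOn [Finite G] [hp : Fact p.Prime] (h : MO p V H A) {x : G} (hx : x ∈ ppc p H)
    (hxA : x ∉ centralizer (A : Set G)) :
    ⁅ppc p H, A⁆ ⊔ A ≤ trivOn V (⁅V, A⁆ ⊔ ⁅V, conjS x A⁆) := by
  rw [h.E_eq_closure, closure_le]
  rintro _ ⟨x', hx', α, hα, rfl⟩
  by_cases hxA' : x' ∈ centralizer (A : Set G)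
  · rw [conj_eq_of_mem_centralizer hxA' hα]
    exact (h.tp hx hxA).E_le_trivOn (mem_sup_left hα)
  · rw [h.W_eq hx hxA hx' hxA']
    exact (h.tp hx' hxA').E_le_trivOn (mem_sup_right (conjS_mem hα))

theorem E_eq [Finite G] [hp : Fact p.Prime] (h : MO p V H A) {x : G} (hx : x ∈ ppc p H)
    (hxA : x ∉ centralizer (A : Set G)) : ⁅ppc p H, A⁆ ⊔ A = A ⊔ conjS x A := by
  have t := h.tp hx hxA
  obtain ⟨a, ha, -, hne, -⟩ := t.exists_gen
  obtain ⟨-, k, φ, -, -, -⟩ := t.exists_iso (⁅ppc p H, A⁆ ⊔ A) le_sup_right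
    (le_sup_right.trans (h.Ex_le hx)) (sup_le_sup_right h.R_le A) (h.E_le_trivOn hx hxA) _
    (by
      rintro _ ⟨x', hx', α, hα, rfl⟩
      rw [conj_pow, pow_eq_one_of_card h.hAp hα]
      group) h.E_eq_closure ha hne
  symm
  apply eq_of_le_of_card_ge (h.Ex_le hx)
  rw [t.card_E, Nat.card_congr φ.toEquiv, Cfsg.Agent.Lib.Helper5.card_SL2, ZMod.card]

end MO

/-- `E_A = [O_{p'}(H), A] A` -/
abbrev EE (p : ℕ) (H A : Subgroup G) : Subgroup G := ⁅ppc p H, A⁆ ⊔ A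

namespace MO

variable {p : ℕ} {V H A : Subgroup G}

theorem E_le (h : MO p V H A) : EE p H A ≤ H := sup_le (h.R_le.trans (ppc_le p H)) h.hAH

theorem W_le (h : MO p V H A) : ⁅V, EE p H A⁆ ≤ V :=
  le_normalizer_iff_commutator_le_left.mp (h.E_le.trans h.ff.hHV)

theorem U_le (_h : MO p V H A) : ⁅V, A⁆ ≤ ⁅V, EE p H A⁆ := commutator_mono le_rfl le_sup_right

theorem E_le_triv (h : MO p V H A) : EE p H A ≤ trivOn V ⁅V, EE p H A⁆ :=
  le_trivOn_of_commutator_le le_rfl h.W_le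

theorem card_W [Finite G] [hp : Fact p.Prime] (h : MO p V H A) :
    Nat.card ↥⁅V, EE p H A⁆ = p ^ 2 := by
  obtain ⟨x, hx, hxA⟩ := h.exists_x
  rw [EE, h.E_eq hx hxA, (h.tp hx hxA).comm_E]
  exact (h.tp hx hxA).card_W

theorem faithful [Finite G] [hp : Fact p.Prime] (h : MO p V H A) :
    EE p H A ⊓ centralizer ((⁅V, EE p H A⁆ : Subgroup G) : Set G) = ⊥ := by
  obtain ⟨x, hx, hxA⟩ := h.exists_x
  rw [EE, h.E_eq hx hxA, (h.tp hx hxA).comm_E]
  exact (h.tp hx hxA).faithful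

theorem comm_R [Finite G] [hp : Fact p.Prime] (h : MO p V H A) :
    ⁅V, ⁅ppc p H, A⁆⁆ = ⁅V, EE p H A⁆ := by
  obtain ⟨x, hx, hxA⟩ := h.exists_x
  rw [← h.E_inf_ppc, EE, h.E_eq hx hxA, (h.tp hx hxA).comm_E]
  exact (h.tp hx hxA).comm_N

theorem ip_R [Finite G] [hp : Fact p.Prime] (h : MO p V H A) {L : Subgroup G}
    (hL : SubnIn ⁅ppc p H, A⁆ L) : IP V L ⁅ppc p H, A⁆ := by
  obtain ⟨x, hx, hxA⟩ := h.exists_x
  rw [← h.E_inf_ppc, h.E_eq hx hxA] at hL ⊢
  exact (h.tp hx hxA).ip_N hL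

theorem card_E [Finite G] [hp : Fact p.Prime] (h : MO p V H A) :
    Nat.card ↥(EE p H A) = p * (p ^ 2 - 1) := by
  obtain ⟨x, hx, hxA⟩ := h.exists_x
  rw [EE, h.E_eq hx hxA]
  exact (h.tp hx hxA).card_E

theorem iso [Finite G] [hp : Fact p.Prime] (h : MO p V H A) :
    Nonempty (↥(EE p H A) ≃* Matrix.SpecialLinearGroup (Fin 2) (ZMod p)) := by
  obtain ⟨x, hx, hxA⟩ := h.exists_x
  have t := h.tp hx hxA
  obtain ⟨a, ha, -, hne, -⟩ := t.exists_gen
  obtain ⟨-, k, φ, -, -, -⟩ := t.exists_iso _ le_sup_left le_sup_right t.E_le_sup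
    t.E_le_trivOn _ t.pow_eq_one_of_mem_union t.E_eq_closure ha hne
  rw [EE, h.E_eq hx hxA]
  exact ⟨φ⟩

theorem conj (h : MO p V H A) {g : G} (hg : g ∈ H) : MO p V H (conjS g A) := by
  refine ⟨h.ff, ?_, ?_, ?_⟩
  · rw [conjS_le_iff, conjS_self (H.inv_mem hg)]
    exact h.hAH
  · rw [← h.hAp]
    exact Subgroup.card_map_of_injective (MulAut.conj g).injective
  · rw [commutator_conjS (h.ff.hHV hg), ← h.hU]
    exact Subgroup.card_map_of_injective (MulAut.conj g).injective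

theorem EE_conj (_h : MO p V H A) {g : G} (hg : g ∈ H) :
    EE p H (conjS g A) = conjS g (EE p H A) := by
  rw [EE, EE, conjS_sup, commutator_conjS (le_normalizer_ppc p H hg)]

theorem W_conj (h : MO p V H A) {g : G} (hg : g ∈ H) :
    ⁅V, EE p H (conjS g A)⁆ = conjS g ⁅V, EE p H A⁆ := by
  rw [h.EE_conj hg, commutator_conjS (h.ff.hHV hg)]

theorem W_eq_or_disj [Finite G] [hp : Fact p.Prime] {B : Subgroup G} (h : MO p V H A)
    (h' : MO p V H B) :
    ⁅V, EE p H A⁆ = ⁅V, EE p H B⁆ ∨ ⁅V, EE p H A⁆ ⊓ ⁅V, EE p H B⁆ = ⊥ := by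
  by_cases hne : ⁅V, EE p H A⁆ = ⁅V, EE p H B⁆
  · exact Or.inl hne
  right
  have hLQ : ⁅ppc p H, A⁆ ⊔ ⁅ppc p H, B⁆ ≤ ppc p H := sup_le h.R_le h'.R_le
  have h1 := concl_of_irreducible (h.ff.am_of_le hLQ) rfl
    (h.ip_R (SubnIn.of_normal le_sup_left (hLQ.trans (le_normalizer_commutator_left _ _))))
    (h'.ip_R (SubnIn.of_normal le_sup_right (hLQ.trans (le_normalizer_commutator_left _ _))))
    (by
      rw [h.comm_R, h'.comm_R]
      intro hle
      exact hne (eq_of_le_of_card_ge hle (by rw [h.card_W, h'.card_W])))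
    (by
      rw [h.comm_R, h'.comm_R]
      intro hle
      exact hne (eq_of_le_of_card_ge hle (by rw [h.card_W, h'.card_W])).symm)
  have h2 := h1.2.2
  rwa [h.comm_R, h'.comm_R] at h2

theorem le_normalizer_W [Finite G] [hp : Fact p.Prime] {B : Subgroup G} (h : MO p V H A)
    (h' : MO p V H B) : B ≤ normalizer ((⁅V, EE p H A⁆ : Subgroup G) : Set G) := by
  intro b hb
  by_contra hbn
  have hbH := h'.hAH hb
  have hne : ⁅V, EE p H A⁆ ≠ ⁅V, EE p H (conjS b A)⁆ := by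
    rw [h.W_conj hbH]
    intro heq
    exact hbn (Cfsg.Agent.Lib.Helper50.mem_normalizer_iff_map_conj.mpr heq.symm)
  have hdisj := (h.W_eq_or_disj (h.conj hbH)).resolve_left hne
  rw [h.W_conj hbH] at hdisj
  have hcW' : Nat.card (conjS b ⁅V, EE p H A⁆) = p ^ 2 := by
    rw [← h.card_W]
    exact Subgroup.card_map_of_injective (MulAut.conj b).injective
  have hW'V : conjS b ⁅V, EE p H A⁆ ≤ V := by
    have := conjS_mono b h.W_le
    rwa [conjS_eq_of_mem_normalizer (h.ff.hHV hbH)] at this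
  have hUV : ⁅V, B⁆ ≤ V := le_normalizer_iff_commutator_le_left.mp (h'.hAH.trans h.ff.hHV)
  have hn1 : ⁅V, EE p H A⁆ ≤ normalizer ((conjS b ⁅V, EE p H A⁆ : Subgroup G) : Set G) := by
    rw [le_normalizer_iff]
    intro u hu w hw
    rw [h.ff.comm u (h.W_le hu) w (hW'V hw)]
    simpa using hw
  have hn2 : ⁅V, EE p H A⁆ ≤ normalizer ((⁅V, B⁆ : Subgroup G) : Set G) := by
    rw [le_normalizer_iff]
    intro u hu w hw
    rw [h.ff.comm u (h.W_le hu) w (hUV hw)]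
    simpa using hw
  have hc1 := Cfsg.Agent.Lib.Helper10.card_sup_mul_card_inf _ _ hn1
  rw [hdisj, Subgroup.card_bot, mul_one, h.card_W, hcW'] at hc1
  have hc2 := Cfsg.Agent.Lib.Helper10.card_sup_mul_card_inf _ _ hn2
  rw [h.card_W, h'.hU] at hc2
  have hle : ⁅V, EE p H A⁆ ⊔ conjS b ⁅V, EE p H A⁆ ≤ ⁅V, EE p H A⁆ ⊔ ⁅V, B⁆ := by
    refine sup_le le_sup_left ?_
    rintro _ ⟨w, hw, rfl⟩
    have h1 := (le_trivOn_of_commutator_le (le_refl ⁅V, B⁆) hUV hb).2 w (h.W_le hw)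
    have h2 : (MulAut.conj b).toMonoidHom w = (b * w * b⁻¹ * w⁻¹) * w := by
      simp
    rw [h2]
    exact mul_mem (mem_sup_right h1) (mem_sup_left hw)
  have hc3 := Subgroup.card_le_of_le hle
  have hc4 : Nat.card ↥(⁅V, EE p H A⁆ ⊔ ⁅V, B⁆) ≤ p ^ 2 * p := by
    rw [← hc2]
    exact Nat.le_mul_of_pos_right _ Nat.card_pos
  rw [hc1] at hc3
  have hp2 := hp.out.two_le
  have : p ^ 2 * p < p ^ 2 * p ^ 2 := by
    apply Nat.mul_lt_mul_of_pos_left _ (by positivity)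
    nlinarith
  omega

end MO

end Cfsg.Agent.Lib.Helper48
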