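import Cfsg.Agent.Lib.Helper48.FF6
import Cfsg.Agent.Lib.Helper1.Coprime2

/-!
Failure of factorization (Kurzweil-Stellmacher 9.3.6): `H = E_A × C_H([V, E_A])`.
-/

set_option autoImplicit false

namespace Cfsg.Agent.Lib.Helper48

open Subgroup
open scoped commutatorElement
open Cfsg.Agent.S2909 (trivOn)
open Cfsg.Agent.Lib.Helper22 (conjS mem_conjS conjS_mem conjS_mul conjS_one conjS_eq_of_mem_normalizer)
open Cfsg.Agent.Lib.Helper62 (SubnIn)

variable {G : Type*} [Group G]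

open Matrix Matrix.SpecialLinearGroup in
/-- Any `E` containing `⟨A, A^x⟩`, faithful on `W`, generated by elements of order `p` and with `[V, E] ≤ W`,
is isomorphic to `SL(2, p)`. -/
theorem TP.exists_iso' [Finite G] {p : ℕ} [Fact p.Prime] {V H A : Subgroup G} {x : G}
    (h : TP p V H A x) (E : Subgroup G) (hAE : A ≤ E) (hBE : conjS x A ≤ E)
    (hfaith : E ⊓ centralizer ((⁅V, A⁆ ⊔ ⁅V, conjS x A⁆ : Subgroup G) : Set G) = ⊥)
    (hE2 : E ≤ trivOn V (⁅V, A⁆ ⊔ ⁅V, conjS x A⁆)) (S : Set G)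
    (hS : ∀ g ∈ S, g ^ p = 1) (hES : E = closure S) {a : G} (ha : a ∈ A) (hne : x * a * x⁻¹ ≠ a) :
    ∃ (k : ℕ) (φ : E ≃* SpecialLinearGroup (Fin 2) (ZMod p)), ¬ p ∣ k ∧
      φ ⟨a, hAE ha⟩ = transvection (show (0 : Fin 2) ≠ 1 by decide) 1 ∧
      φ ⟨x * a * x⁻¹, hBE (conjS_mem ha)⟩ =
        transvection (show (1 : Fin 2) ≠ 0 by decide) (k : ZMod p) := by
  set W := ⁅V, A⁆ ⊔ ⁅V, conjS x A⁆ with hW
  have hb : x * a * x⁻¹ ∈ conjS x A := conjS_mem ha
  have ha2 : a ∉ centralizer ((⁅V, conjS x A⁆ : Subgroup G) : Set G) := fun hc =>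
    h.a_not_cent ha hne (mem_centralizer_sup (h.A_cent ha) hc)
  have hb1 : x * a * x⁻¹ ∉ centralizer ((⁅V, A⁆ : Subgroup G) : Set G) := fun hc =>
    h.b_not_cent ha hne (mem_centralizer_sup hc (h.B_cent hb))
  rw [mem_centralizer_iff] at ha2
  push Not at ha2
  obtain ⟨e2, he2, hne2⟩ := ha2
  set e1 := e2⁻¹ * (a * e2 * a⁻¹) with he1def
  have he1 : e1 ∈ ⁅V, A⁆ := by
    have := commutator_mem_commutator (V.inv_mem (h.U2_le he2)) ha
    rw [commutatorElement_def] at this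
    have e : e2⁻¹ * a * e2⁻¹⁻¹ * a⁻¹ = e1 := by rw [he1def]; group
    rwa [e] at this
  have he1ne : e1 ≠ 1 := by
    intro h1
    apply hne2
    have h2 : e2 = a * e2 * a⁻¹ := inv_mul_eq_one.mp h1
    calc e2 * a = (a * e2 * a⁻¹) * a := by rw [← h2]
      _ = a * e2 := by group
  have hs1 : a * e1 * a⁻¹ = e1 := by
    have := mem_centralizer_iff.mp (h.A_cent ha) e1 he1
    rw [← this]
    group
  have hs2 : a * e2 * a⁻¹ = e2 * e1 := by rw [he1def]; group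
  have ht2 : (x * a * x⁻¹) * e2 * (x * a * x⁻¹)⁻¹ = e2 := by
    have := mem_centralizer_iff.mp (h.B_cent hb) e2 he2
    rw [← this]
    group
  have he2ne : e2 ≠ 1 := by
    rintro rfl
    simp at hne2
  have hU2z := eq_zpowers_of_card_prime h.hU2 he2 he2ne
  have hU1z := eq_zpowers_of_card_prime h.hU he1 he1ne
  have hf : e1⁻¹ * ((x * a * x⁻¹) * e1 * (x * a * x⁻¹)⁻¹) ∈ ⁅V, conjS x A⁆ := by
    have := commutator_mem_commutator (V.inv_mem (h.U1_le he1)) hb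
    rw [commutatorElement_def] at this
    have e : e1⁻¹ * (x * a * x⁻¹) * e1⁻¹⁻¹ * (x * a * x⁻¹)⁻¹ =
        e1⁻¹ * ((x * a * x⁻¹) * e1 * (x * a * x⁻¹)⁻¹) := by group
    rwa [e] at this
  rw [hU2z] at hf
  obtain ⟨k, hk⟩ := (mem_powers_iff_mem_zpowers).mpr hf
  have hk' : e2 ^ k = e1⁻¹ * ((x * a * x⁻¹) * e1 * (x * a * x⁻¹)⁻¹) := hk
  have ht1 : (x * a * x⁻¹) * e1 * (x * a * x⁻¹)⁻¹ = e1 * e2 ^ k := by rw [hk']; group
  have hkp : ¬ p ∣ k := by
    rintro ⟨m, rfl⟩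
    apply hb1
    rw [pow_mul, h.ff.hV.2 e2 (h.U2_le he2), one_pow, mul_one] at ht1
    rw [hU1z]
    have h3 : zpowers e1 ≤ centralizer ((zpowers (x * a * x⁻¹) : Subgroup G) : Set G) := by
      rw [zpowers_le, Cfsg.Agent.Lib.Helper48.centralizer_zpowers_eq', mem_centralizer_iff]
      intro z hz
      rw [Set.mem_singleton_iff.mp hz]
      calc (x * a * x⁻¹) * e1 = ((x * a * x⁻¹) * e1 * (x * a * x⁻¹)⁻¹) * (x * a * x⁻¹) := by group
        _ = e1 * (x * a * x⁻¹) := by rw [ht1]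
    exact le_centralizer_iff.mp h3 (mem_zpowers _)
  obtain ⟨φ, hφ1, hφ2⟩ := exists_mulEquiv_sl2_of_subgroup W E
    (fun u hu w hw => h.ff.comm u (h.W_le hu) w (h.W_le hw))
    (fun w hw => h.ff.hV.2 w (h.W_le hw)) h.card_W (fun g hg => (hE2 hg).1) hfaith S hS hES
    a (x * a * x⁻¹) (hAE ha) (hBE hb) e1 e2 (mem_sup_left he1) (mem_sup_right he2) he1ne hs1 hs2 ht2
    k hkp ht1
  exact ⟨k, φ, hkp, hφ1, hφ2⟩


/-- an FF-pair generated by minimal offenders -/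
structure FG (p : ℕ) (V H : Subgroup G) : Prop where
  ff : FF p V H
  gen : ∀ K : Subgroup G, (∀ B, MO p V H B → B ≤ K) → H ≤ K

theorem FF.eq_bot_of_normal_pGroup [Finite G] {p : ℕ} [Fact p.Prime] {V H P : Subgroup G}
    (h : FF p V H) (hPH : P ≤ H) (hn : H ≤ normalizer (P : Set G)) (hP : IsPGroup p P) : P = ⊥ := by
  have hdisj : P ⊓ ppc p H = ⊥ :=
    eq_bot_of_isPGroup_of_not_dvd (not_dvd_card_ppc p H) inf_le_right (hP.to_le inf_le_left)
  have h1 : ⁅P, ppc p H⁆ = ⊥ := by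
    rw [eq_bot_iff, ← hdisj]
    refine le_inf (le_normalizer_iff_commutator_le_left.mp ((ppc_le p H).trans hn)) ?_
    rw [commutator_comm]
    exact le_normalizer_iff_commutator_le_left.mp (hPH.trans (le_normalizer_ppc p H))
  rw [commutator_eq_bot_iff_le_centralizer] at h1
  have h2 : P ≤ P ⊓ ppc p H := le_inf le_rfl ((le_inf hPH h1).trans h.centralizer_ppc_le)
  rwa [hdisj, le_bot_iff] at h2

theorem FF.stab_eq_bot [Finite G] {p : ℕ} [Fact p.Prime] {V H W : Subgroup G}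
    (h : FF p V H) (hWV : W ≤ V) (hn : H ≤ normalizer (W : Set G)) :
    H ⊓ (centralizer (W : Set G) ⊓ trivOn V W) = ⊥ := by
  apply h.eq_bot_of_normal_pGroup inf_le_left
  · intro g hg
    apply Cfsg.Agent.Lib.Helper50.mem_normalizer_of_map_conj_le
    rintro _ ⟨c, hc, rfl⟩
    obtain ⟨hc1, hc2⟩ := mem_inf.mp hc
    obtain ⟨hc2, hc3⟩ := mem_inf.mp hc2
    simp only [MulEquiv.coe_toMonoidHom, MulAut.conj_apply]
    exact mem_inf.mpr ⟨mul_mem (mul_mem hg hc1) (inv_mem hg),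
      mem_inf.mpr ⟨Cfsg.Agent.S2909.conj_mem_centralizer (hn hg) hc2,
        Cfsg.Agent.S2909.conj_mem_trivOn (h.hHV hg) (hn hg) hc3⟩⟩
  · intro c
    refine ⟨1, ?_⟩
    apply Subtype.ext
    obtain ⟨hc1, hc2⟩ := mem_inf.mp c.2
    obtain ⟨hc2, hc3⟩ := mem_inf.mp hc2
    have h3 := pow_mem_centralizer_of_trivOn (p := p) (fun w hw => h.hV.2 w (hWV hw)) hc3 hc2
    have h4 : (c : G) ^ p ∈ H ⊓ centralizer (V : Set G) := mem_inf.mpr ⟨pow_mem hc1 p, h3⟩
    rw [h.hf, mem_bot] at h4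
    simpa using h4

namespace MO

variable {p : ℕ} {V H A : Subgroup G}

theorem H_le_normalizer_W [Finite G] [hp : Fact p.Prime] (h : MO p V H A) (hg : FG p V H) :
    H ≤ normalizer ((⁅V, EE p H A⁆ : Subgroup G) : Set G) :=
  hg.gen _ (fun _ hB => h.le_normalizer_W hB)

theorem le_E_of_W_eq [Finite G] [hp : Fact p.Prime] {B : Subgroup G} (h : MO p V H A)
    (h' : MO p V H B) (hg : FG p V H) (hW : ⁅V, EE p H B⁆ = ⁅V, EE p H A⁆) : B ≤ EE p H A := by
  obtain ⟨x, hx, hxA⟩ := h.exists_x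
  have t := h.tp hx hxA
  obtain ⟨a, ha, -, hne, -⟩ := t.exists_gen
  have hWx : ⁅V, EE p H A⁆ = ⁅V, A⁆ ⊔ ⁅V, conjS x A⁆ := by
    rw [EE, h.E_eq hx hxA, t.comm_E]
  have hE2 : EE p H A ⊔ B ≤ trivOn V (⁅V, A⁆ ⊔ ⁅V, conjS x A⁆) := by
    rw [← hWx]
    refine sup_le h.E_le_triv ?_
    rw [← hW]
    exact le_sup_right.trans h'.E_le_triv
  have hfaith : (EE p H A ⊔ B) ⊓
      centralizer ((⁅V, A⁆ ⊔ ⁅V, conjS x A⁆ : Subgroup G) : Set G) = ⊥ := by
    rw [eq_bot_iff, ← h.ff.stab_eq_bot t.W_le (hWx ▸ h.H_le_normalizer_W hg)]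
    exact le_inf (inf_le_left.trans (sup_le h.E_le h'.hAH)) (le_inf inf_le_right (inf_le_left.trans hE2))
  obtain ⟨k, φ, -, -, -⟩ := t.exists_iso' (EE p H A ⊔ B) (le_sup_right.trans le_sup_left)
    ((le_sup_right.trans (h.Ex_le hx)).trans le_sup_left) hfaith hE2
    ({g | ∃ x ∈ ppc p H, ∃ α ∈ A, g = x * α * x⁻¹} ∪ (B : Set G))
    (by
      rintro g (⟨x', hx', α, hα, rfl⟩ | hgB)
      · rw [conj_pow, pow_eq_one_of_card h.hAp hα]
        group
      · exact pow_eq_one_of_card h'.hAp hgB)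
    (by rw [Subgroup.closure_union, ← h.E_eq_closure, Subgroup.closure_eq]) ha hne
  have h1 : EE p H A = EE p H A ⊔ B := by
    apply eq_of_le_of_card_ge le_sup_left
    rw [h.card_E, Nat.card_congr φ.toEquiv, Cfsg.Agent.Lib.Helper5.card_SL2, ZMod.card]
  rw [h1]
  exact le_sup_right

theorem le_cent_of_W_ne [Finite G] [hp : Fact p.Prime] {B : Subgroup G} (h : MO p V H A)
    (h' : MO p V H B) (hW : ⁅V, EE p H B⁆ ≠ ⁅V, EE p H A⁆) :
    B ≤ centralizer ((⁅V, EE p H A⁆ : Subgroup G) : Set G) := by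
  rw [← commutator_eq_bot_iff_le_centralizer, commutator_comm, eq_bot_iff,
    ← (h.W_eq_or_disj h').resolve_left (Ne.symm hW)]
  exact le_inf (le_normalizer_iff_commutator_le_left.mp (h.le_normalizer_W h'))
    ((commutator_mono h.W_le le_rfl).trans h'.U_le)

theorem conj_le_E [Finite G] [hp : Fact p.Prime] (h : MO p V H A) (hg : FG p V H) {g : G}
    (hgH : g ∈ H) : conjS g A ≤ EE p H A := by
  apply h.le_E_of_W_eq (h.conj hgH) hg
  rw [h.W_conj hgH]
  exact conjS_eq_of_mem_normalizer (h.H_le_normalizer_W hg hgH)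

theorem H_le_normalizer_E [Finite G] [hp : Fact p.Prime] (h : MO p V H A) (hg : FG p V H) :
    H ≤ normalizer ((EE p H A : Subgroup G) : Set G) := by
  intro g hgH
  apply Cfsg.Agent.Lib.Helper50.mem_normalizer_of_map_conj_le
  rw [Subgroup.map_le_iff_le_comap]
  conv_lhs => rw [EE, h.E_eq_closure]
  rw [closure_le]
  rintro _ ⟨x, hx, α, hα, rfl⟩
  have h1 : g * (x * α * x⁻¹) * g⁻¹ ∈ EE p H A := by
    have h2 : g * (x * α * x⁻¹) * g⁻¹ = (g * x) * α * (g * x)⁻¹ := by group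
    rw [h2]
    exact h.conj_le_E hg (mul_mem hgH (ppc_le p H hx)) (conjS_mem hα)
  simpa using h1

end MO

namespace MO

variable {p : ℕ} {V H A : Subgroup G}

theorem H_le_normalizer_F [Finite G] [hp : Fact p.Prime] (h : MO p V H A) (hg : FG p V H) :
    H ≤ normalizer ((H ⊓ centralizer ((⁅V, EE p H A⁆ : Subgroup G) : Set G) : Subgroup G) : Set G) :=
  Cfsg.Agent.Lib.Helper62.le_normalizer_inf le_normalizer
    (fun _ hx => mem_normalizer_centralizer (h.H_le_normalizer_W hg hx))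

theorem E_inf_F [Finite G] [hp : Fact p.Prime] (h : MO p V H A) :
    EE p H A ⊓ (H ⊓ centralizer ((⁅V, EE p H A⁆ : Subgroup G) : Set G)) = ⊥ := by
  rw [eq_bot_iff, ← h.faithful]
  exact inf_le_inf_left _ inf_le_right

theorem comm_E_F [Finite G] [hp : Fact p.Prime] (h : MO p V H A) (hg : FG p V H) :
    ⁅EE p H A, H ⊓ centralizer ((⁅V, EE p H A⁆ : Subgroup G) : Set G)⁆ = ⊥ := by
  rw [eq_bot_iff, ← h.E_inf_F]
  refine le_inf (le_normalizer_iff_commutator_le_left.mp (inf_le_left.trans (h.H_le_normalizer_E hg)))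
    ?_
  rw [commutator_comm]
  exact le_normalizer_iff_commutator_le_left.mp (h.E_le.trans (h.H_le_normalizer_F hg))

theorem E_sup_F [Finite G] [hp : Fact p.Prime] (h : MO p V H A) (hg : FG p V H) :
    EE p H A ⊔ (H ⊓ centralizer ((⁅V, EE p H A⁆ : Subgroup G) : Set G)) = H := by
  apply le_antisymm (sup_le h.E_le inf_le_left)
  apply hg.gen
  intro B hB
  by_cases hW : ⁅V, EE p H B⁆ = ⁅V, EE p H A⁆
  · exact (h.le_E_of_W_eq hB hg hW).trans le_sup_left
  · exact (le_inf hB.hAH (h.le_cent_of_W_ne hB hW)).trans le_sup_right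

theorem comm_V_F [Finite G] [hp : Fact p.Prime] (h : MO p V H A) (hg : FG p V H) :
    ⁅V, H ⊓ centralizer ((⁅V, EE p H A⁆ : Subgroup G) : Set G)⁆ ≤
      V ⊓ centralizer ((EE p H A : Subgroup G) : Set G) := by
  refine le_inf (le_normalizer_iff_commutator_le_left.mp (inf_le_left.trans h.ff.hHV)) ?_
  rw [← commutator_eq_bot_iff_le_centralizer]
  apply commutator_commutator_eq_bot_of_rotate
  · rw [commutator_comm _ (EE p H A), h.comm_E_F hg]
    exact commutator_bot_left _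
  · rw [commutator_comm (EE p H A) V, commutator_comm, commutator_eq_bot_iff_le_centralizer]
    exact inf_le_right

theorem R_le_normalizer_V (h : MO p V H A) : ⁅ppc p H, A⁆ ≤ normalizer (V : Set G) :=
  (h.R_le.trans (ppc_le p H)).trans h.ff.hHV

theorem not_dvd_card_R [Finite G] [hp : Fact p.Prime] (h : MO p V H A) :
    ¬ p ∣ Nat.card ↥⁅ppc p H, A⁆ := fun hd =>
  not_dvd_card_ppc p H (hd.trans (Subgroup.card_dvd_of_le h.R_le))

theorem W_inf_cent_R [Finite G] [hp : Fact p.Prime] (h : MO p V H A) :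
    ⁅V, EE p H A⁆ ⊓ centralizer ((⁅ppc p H, A⁆ : Subgroup G) : Set G) = ⊥ := by
  rw [← h.comm_R]
  apply commutator_inf_centralizer_eq_bot h.ff.hV.1 h.R_le_normalizer_V
  intro v hv hv1
  have h1 : orderOf v ∣ p := orderOf_dvd_of_pow_eq_one (h.ff.hV.2 v hv)
  have h2 : orderOf v ∣ Nat.card ↥⁅ppc p H, A⁆ := orderOf_dvd_of_pow_eq_one hv1
  rcases (Nat.dvd_prime hp.out).mp h1 with h3 | h3
  · exact orderOf_eq_one_iff.mp h3
  · exact absurd (h3 ▸ h2) h.not_dvd_card_R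

theorem W_inf_cent [Finite G] [hp : Fact p.Prime] (h : MO p V H A) :
    ⁅V, EE p H A⁆ ⊓ (V ⊓ centralizer ((EE p H A : Subgroup G) : Set G)) = ⊥ := by
  rw [eq_bot_iff, ← h.W_inf_cent_R]
  exact inf_le_inf_left _ (inf_le_right.trans (centralizer_le (by
    intro g hg
    exact (le_sup_left : ⁅ppc p H, A⁆ ≤ EE p H A) hg)))

theorem W_sup_cent [Finite G] [hp : Fact p.Prime] (h : MO p V H A) :
    ⁅V, EE p H A⁆ ⊔ (V ⊓ centralizer ((EE p H A : Subgroup G) : Set G)) = V := by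
  apply le_antisymm (sup_le h.W_le inf_le_left)
  have hcop : (Nat.card ↥⁅ppc p H, A⁆).Coprime (Nat.card V) := by
    obtain ⟨n, hn⟩ := (IsPGroup.iff_card).mp h.ff.isPGroup
    rw [hn]
    apply Nat.Coprime.pow_right
    rw [Nat.coprime_comm, Nat.Prime.coprime_iff_not_dvd hp.out]
    exact h.not_dvd_card_R
  have hsolv : Group.IsSolvable V := by
    have := h.ff.hV.1
    exact Group.isSolvable_of_comm (fun a b => mul_comm' a b)
  have h1 := Cfsg.Agent.Lib.Helper1.commutator_sup_centralizer ⁅ppc p H, A⁆ V h.R_le_normalizer_V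
    hcop (Or.inr hsolv)
  rw [h.comm_R] at h1
  conv_lhs => rw [← h1]
  refine sup_le_sup_left ?_ _
  intro v hv
  obtain ⟨hvV, hvC⟩ := mem_inf.mp hv
  refine mem_inf.mpr ⟨hvV, ?_⟩
  rw [mem_centralizer_iff]
  intro e he
  have heN : e ∈ normalizer ((⁅ppc p H, A⁆ : Subgroup G) : Set G) :=
    (sup_le le_normalizer h.A_le_normalizer_R : EE p H A ≤ _) he
  have h2 : ⁅v, e⁆ ∈ ⁅V, EE p H A⁆ ⊓ centralizer ((⁅ppc p H, A⁆ : Subgroup G) : Set G) := by
    refine mem_inf.mpr ⟨commutator_mem_commutator hvV he, ?_⟩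
    have h3 := Cfsg.Agent.S2909.conj_mem_centralizer heN (inv_mem hvC)
    have h4 := mul_mem hvC h3
    have h5 : v * (e * v⁻¹ * e⁻¹) = ⁅v, e⁆ := by rw [commutatorElement_def]; group
    rwa [h5] at h4
  rw [h.W_inf_cent_R, mem_bot, commutatorElement_eq_one_iff_mul_comm] at h2
  exact h2.symm

end MO

end Cfsg.Agent.Lib.Helper48
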