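import Cfsg.Agent.Lib.Helper48.FF7
import Cfsg.Agent.S0611
import Cfsg.Agent.S0612

/-!
Failure of factorization: from the hypotheses of the statements to `FG` and `MO`.
-/

set_option autoImplicit false

namespace Cfsg.Agent.Lib.Helper48

open Subgroup

variable {G : Type*} [Group G]

theorem mo_of_minimal [Finite G] {p : ℕ} [Fact p.Prime] (V H : Subgroup G)
    (hV : Cfsg.IsElementaryAbelian p V) (hHV : H ≤ Subgroup.normalizer (V : Set G))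
    (hf : H ⊓ Subgroup.centralizer (V : Set G) = ⊥)
    (hS1 : Subgroup.centralizer (Cfsg.pPrimeCore p ↥H : Set ↥H) ≤ Cfsg.pPrimeCore p ↥H)
    (hS3 : H = ⨆ A : {A : Subgroup G // A ≤ H ∧ Cfsg.IsBestOffenderOn p V A}, (A : Subgroup G))
    (hH1 : H ≠ ⊥) (A : Subgroup G) (hAH : A ≤ H) (hA : Cfsg.IsBestOffenderOn p V A)
    (hAV : ⁅V, A⁆ ≠ ⊥)
    (hmin : ∀ B : Subgroup G, B ≤ A → Cfsg.IsBestOffenderOn p V B → ⁅V, B⁆ ≠ ⊥ → B = A) :
    MO p V H A := by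
  obtain ⟨h1, h2, -⟩ := Cfsg.Agent.S0611.result V H hV hHV hf hS1 hS3 hH1 A hAH hA hAV hmin
  exact ⟨⟨hV, hHV, hf, hS1⟩, hAH, h1, h2⟩

/-- `H` is generated by the minimal offenders (in the sense of the statements) -/
theorem le_of_forall_minimal [Finite G] {p : ℕ} [Fact p.Prime] (V H : Subgroup G)
    (hV : Cfsg.IsElementaryAbelian p V) (hHV : H ≤ Subgroup.normalizer (V : Set G))
    (hf : H ⊓ Subgroup.centralizer (V : Set G) = ⊥)
    (hS1 : Subgroup.centralizer (Cfsg.pPrimeCore p ↥H : Set ↥H) ≤ Cfsg.pPrimeCore p ↥H)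
    (hS3 : H = ⨆ A : {A : Subgroup G // A ≤ H ∧ Cfsg.IsBestOffenderOn p V A}, (A : Subgroup G))
    (hH1 : H ≠ ⊥) (K : Subgroup G)
    (hK : ∀ A : Subgroup G, A ≤ H → Cfsg.IsBestOffenderOn p V A → ⁅V, A⁆ ≠ ⊥ →
      (∀ B : Subgroup G, B ≤ A → Cfsg.IsBestOffenderOn p V B → ⁅V, B⁆ ≠ ⊥ → B = A) → A ≤ K) :
    H ≤ K := by
  refine hS3.le.trans (iSup_le ?_)
  rintro ⟨A, hAH, hA⟩
  change A ≤ K
  by_cases hA1 : A = ⊥
  · rw [hA1]; exact bot_le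
  obtain ⟨k, B, hB, -, hsup⟩ := Cfsg.Agent.S0612.result V H hV hHV hf hS1 hS3 hH1 A hAH hA hA1
  rw [← hsup]
  exact iSup_le (fun i => hK (B i) ((hB i).1.trans hAH) (hB i).2.1 (hB i).2.2.1 (hB i).2.2.2)

theorem fg_of_hyp [Finite G] {p : ℕ} [Fact p.Prime] (V H : Subgroup G)
    (hV : Cfsg.IsElementaryAbelian p V) (hHV : H ≤ Subgroup.normalizer (V : Set G))
    (hf : H ⊓ Subgroup.centralizer (V : Set G) = ⊥)
    (hS1 : Subgroup.centralizer (Cfsg.pPrimeCore p ↥H : Set ↥H) ≤ Cfsg.pPrimeCore p ↥H)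
    (hS3 : H = ⨆ A : {A : Subgroup G // A ≤ H ∧ Cfsg.IsBestOffenderOn p V A}, (A : Subgroup G))
    (hH1 : H ≠ ⊥) : FG p V H :=
  ⟨⟨hV, hHV, hf, hS1⟩, fun K hK => le_of_forall_minimal V H hV hHV hf hS1 hS3 hH1 K
    (fun A hAH hA hAV hmin => hK A (mo_of_minimal V H hV hHV hf hS1 hS3 hH1 A hAH hA hAV hmin))⟩

end Cfsg.Agent.Lib.Helper48
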