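import Cfsg.Agent.Lib.Helper48.FF8

/-!
Failure of factorization (Kurzweil-Stellmacher 9.3.7): the structure theorem.
-/

set_option autoImplicit false

namespace Cfsg.Agent.Lib.Helper48

open Subgroup
open scoped commutatorElement
open Cfsg.Agent.S2909 (trivOn)
open Cfsg.Agent.Lib.Helper22 (conjS mem_conjS conjS_mem conjS_mul conjS_one conjS_eq_of_mem_normalizer)

variable {G : Type*} [Group G]

namespace MO

variable {p : ℕ} {V H A : Subgroup G}

theorem E_le_of_W_eq [Finite G] [hp : Fact p.Prime] {B : Subgroup G} (h : MO p V H A)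
    (h' : MO p V H B) (hg : FG p V H) (hW : ⁅V, EE p H B⁆ = ⁅V, EE p H A⁆) :
    EE p H B ≤ EE p H A := by
  conv_lhs => rw [EE, h'.E_eq_closure]
  rw [closure_le]
  rintro _ ⟨x, hx, β, hβ, rfl⟩
  have hxH := ppc_le p H hx
  refine h.le_E_of_W_eq (h'.conj hxH) hg ?_ (conjS_mem hβ)
  rw [h'.W_conj hxH, conjS_eq_of_mem_normalizer (h'.H_le_normalizer_W hg hxH), hW]

theorem E_eq_of_W_eq [Finite G] [hp : Fact p.Prime] {B : Subgroup G} (h : MO p V H A)
    (h' : MO p V H B) (hg : FG p V H) (hW : ⁅V, EE p H B⁆ = ⁅V, EE p H A⁆) :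
    EE p H B = EE p H A :=
  eq_of_le_of_card_ge (h.E_le_of_W_eq h' hg hW) (by rw [h.card_E, h'.card_E])

theorem E_le_cent [Finite G] [hp : Fact p.Prime] {B : Subgroup G} (h : MO p V H A)
    (h' : MO p V H B) (hg : FG p V H) (hne : EE p H B ≠ EE p H A) :
    EE p H B ≤ centralizer ((⁅V, EE p H A⁆ : Subgroup G) : Set G) := by
  have hW : ⁅V, EE p H A⁆ ≠ ⁅V, EE p H B⁆ := fun hW => hne (h.E_eq_of_W_eq h' hg hW.symm)
  rw [← commutator_eq_bot_iff_le_centralizer, commutator_comm, eq_bot_iff,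
    ← (h.W_eq_or_disj h').resolve_left hW]
  exact le_inf (le_normalizer_iff_commutator_le_left.mp (h'.E_le.trans (h.H_le_normalizer_W hg)))
    (commutator_mono h.W_le le_rfl)

theorem cent_R_le [Finite G] [hp : Fact p.Prime] (h : MO p V H A) :
    V ⊓ centralizer ((⁅ppc p H, A⁆ : Subgroup G) : Set G) ≤
      centralizer ((EE p H A : Subgroup G) : Set G) := by
  intro v hv
  obtain ⟨hvV, hvC⟩ := mem_inf.mp hv
  rw [mem_centralizer_iff]
  intro e he
  have heN : e ∈ normalizer ((⁅ppc p H, A⁆ : Subgroup G) : Set G) :=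
    (sup_le le_normalizer h.A_le_normalizer_R : EE p H A ≤ _) he
  have h2 : ⁅v, e⁆ ∈ ⁅V, EE p H A⁆ ⊓ centralizer ((⁅ppc p H, A⁆ : Subgroup G) : Set G) := by
    refine mem_inf.mpr ⟨commutator_mem_commutator hvV he, ?_⟩
    have h3 := Cfsg.Agent.S2909.conj_mem_centralizer heN (inv_mem hvC)
    have h4 := mul_mem hvC h3
    have h5 : v * (e * v⁻¹ * e⁻¹) = ⁅v, e⁆ := by rw [commutatorElement_def]; group
    rwa [h5] at h4
  rw [h.W_inf_cent_R, mem_bot, commutatorElement_eq_one_iff_mul_comm] at h2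
  exact h2.symm

end MO

theorem structure_thm [Finite G] {p : ℕ} [hp : Fact p.Prime] {V H : Subgroup G} (hg : FG p V H)
    (hH1 : H ≠ ⊥) (S : Subgroup G → Prop)
    (hS : ∀ E, S E → ∃ A, MO p V H A ∧ E = EE p H A)
    (hgen : ∀ K : Subgroup G, (∀ E, S E → E ≤ K) → H ≤ K) :
    (p = 2 ∨ p = 3) ∧
    (∀ E : {E : Subgroup G // S E}, H ≤ normalizer ((E : Subgroup G) : Set G) ∧
      Nonempty (↥(E : Subgroup G) ≃* Matrix.SpecialLinearGroup (Fin 2) (ZMod p)) ∧
      Nat.card ↥(⁅V, (E : Subgroup G)⁆) = p ^ 2) ∧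
    iSupIndep (fun E : {E : Subgroup G // S E} => (E : Subgroup G)) ∧
    (⨆ E : {E : Subgroup G // S E}, (E : Subgroup G)) = H ∧
    iSupIndep (fun o : Option {E : Subgroup G // S E} =>
      o.elim (V ⊓ centralizer (H : Set G)) (fun E => ⁅V, (E : Subgroup G)⁆)) ∧
    (V ⊓ centralizer (H : Set G)) ⊔ (⨆ E : {E : Subgroup G // S E}, ⁅V, (E : Subgroup G)⁆) = V := by
  have hsup : (⨆ E : {E : Subgroup G // S E}, (E : Subgroup G)) = H := by
    apply le_antisymm
    · refine iSup_le ?_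
      rintro ⟨E, hE⟩
      obtain ⟨A, hA, rfl⟩ := hS E hE
      exact hA.E_le
    · apply hgen
      intro E hE
      exact le_iSup (fun E : {E : Subgroup G // S E} => (E : Subgroup G)) ⟨E, hE⟩
  have hQV : ppc p H ≤ normalizer (V : Set G) := (ppc_le p H).trans hg.ff.hHV
  have hQdisj : ⁅V, ppc p H⁆ ⊓ centralizer (ppc p H : Set G) = ⊥ := by
    apply commutator_inf_centralizer_eq_bot hg.ff.hV.1 hQV
    intro v hv hv1
    have h1 : orderOf v ∣ p := orderOf_dvd_of_pow_eq_one (hg.ff.hV.2 v hv)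
    have h2 : orderOf v ∣ Nat.card ↥(ppc p H) := orderOf_dvd_of_pow_eq_one hv1
    rcases (Nat.dvd_prime hp.out).mp h1 with h3 | h3
    · exact orderOf_eq_one_iff.mp h3
    · exact absurd (h3 ▸ h2) (not_dvd_card_ppc p H)
  have hWQ : ∀ E : {E : Subgroup G // S E}, ⁅V, (E : Subgroup G)⁆ ≤ ⁅V, ppc p H⁆ := by
    rintro ⟨E, hE⟩
    obtain ⟨A, hA, rfl⟩ := hS E hE
    change ⁅V, EE p H A⁆ ≤ _
    rw [← hA.comm_R]
    exact commutator_mono le_rfl hA.R_le
  refine ⟨?_, ?_, ?_, hsup, ?_, ?_⟩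
  · by_contra hcon
    apply hH1
    rw [eq_bot_iff]
    apply hgen
    intro E hE
    obtain ⟨A, hA, rfl⟩ := hS E hE
    exact absurd hA.prime_cases hcon
  · rintro ⟨E, hE⟩
    obtain ⟨A, hA, rfl⟩ := hS E hE
    exact ⟨hA.H_le_normalizer_E hg, hA.iso, hA.card_W⟩
  · rintro ⟨E, hE⟩
    obtain ⟨A, hA, rfl⟩ := hS E hE
    refine Disjoint.mono_right ?_ (disjoint_iff.mpr hA.E_inf_F)
    refine iSup₂_le ?_
    rintro ⟨E', hE'⟩ hne
    obtain ⟨B, hB, rfl⟩ := hS E' hE'
    have hne' : EE p H B ≠ EE p H A := fun h => hne (Subtype.ext h)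
    exact le_inf hB.E_le (hA.E_le_cent hB hg hne')
  · intro o
    cases o with
    | none =>
      change Disjoint (V ⊓ centralizer (H : Set G)) _
      refine Disjoint.mono ?_ ?_ (disjoint_iff.mpr hQdisj).symm
      · exact inf_le_right.trans (centralizer_le (ppc_le p H))
      · refine iSup₂_le ?_
        intro o' ho'
        cases o' with
        | none => exact absurd rfl ho'
        | some E' => exact hWQ E'
    | some E =>
      obtain ⟨E, hE⟩ := E
      obtain ⟨A, hA, rfl⟩ := hS E hE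
      change Disjoint ⁅V, EE p H A⁆ _
      refine Disjoint.mono_right ?_ (disjoint_iff.mpr hA.W_inf_cent)
      refine iSup₂_le ?_
      intro o' ho'
      cases o' with
      | none =>
        change V ⊓ centralizer (H : Set G) ≤ _
        exact inf_le_inf_left _ (centralizer_le hA.E_le)
      | some E' =>
        obtain ⟨E', hE'⟩ := E'
        obtain ⟨B, hB, rfl⟩ := hS E' hE'
        change ⁅V, EE p H B⁆ ≤ _
        have hne' : EE p H A ≠ EE p H B := fun h => ho' (by
          congr 1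
          exact Subtype.ext h.symm)
        exact le_inf hB.W_le (le_centralizer_iff.mp (hB.E_le_cent hA hg hne'))
  · have hMV : (⨆ E : {E : Subgroup G // S E}, ⁅V, (E : Subgroup G)⁆) ≤ V := by
      refine iSup_le ?_
      rintro ⟨E, hE⟩
      obtain ⟨A, hA, rfl⟩ := hS E hE
      exact hA.W_le
    apply le_antisymm (sup_le inf_le_left hMV)
    have hcop : (Nat.card ↥(ppc p H)).Coprime (Nat.card V) := by
      obtain ⟨n, hn⟩ := (IsPGroup.iff_card).mp hg.ff.isPGroup
      rw [hn]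
      apply Nat.Coprime.pow_right
      rw [Nat.coprime_comm, Nat.Prime.coprime_iff_not_dvd hp.out]
      exact not_dvd_card_ppc p H
    have hsolv : Group.IsSolvable V := by
      have := hg.ff.hV.1
      exact Group.isSolvable_of_comm (fun a b => mul_comm' a b)
    have h1 := Cfsg.Agent.Lib.Helper1.commutator_sup_centralizer (ppc p H) V hQV hcop (Or.inr hsolv)
    conv_lhs => rw [← h1]
    rw [sup_comm]
    refine sup_le_sup ?_ ?_
    · refine le_inf inf_le_left ?_
      rw [le_centralizer_iff]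
      apply hgen
      intro E hE
      obtain ⟨A, hA, rfl⟩ := hS E hE
      rw [← le_centralizer_iff]
      exact (inf_le_inf_left _ (centralizer_le hA.R_le)).trans hA.cent_R_le
    · have hH : H ≤ trivOn V (⨆ E : {E : Subgroup G // S E}, ⁅V, (E : Subgroup G)⁆) := by
        apply hgen
        intro E hE
        exact le_trivOn_of_commutator_le
          (le_iSup (fun E : {E : Subgroup G // S E} => ⁅V, (E : Subgroup G)⁆) ⟨E, hE⟩) hMV
      exact commutator_le_of_le_trivOn ((ppc_le p H).trans hH)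

end Cfsg.Agent.Lib.Helper48
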