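import Mathlib
import Cfsg.Prelude.Def_Local
import Cfsg.Agent.Lib.Lead.Cores
import Cfsg.Agent.Lib.Helper69.PSolv

/-!
The dual of Hall-Higman Lemma 1.2.3: in a `p`-solvable group with `O_p = 1`, `O_{p'}` contains its centralizer.
-/

set_option autoImplicit false

namespace Cfsg.Agent.Lib.Helper48

open Subgroup Cfsg Cfsg.Agent.Lib.Lead

variable {G : Type*} [Group G]

theorem centralizer_pPrimeCore_le [Finite G] {p : ℕ} [hp : Fact p.Prime] (hsol : IsPSolvable p G)
    (hcore : pCore p G = ⊥) :
    centralizer (pPrimeCore p G : Set G) ≤ pPrimeCore p G := by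
  obtain ⟨n, H, h0, hlast, hmono, hnorm, hstep⟩ := hsol
  set Q := pPrimeCore p G with hQ
  set C := centralizer (Q : Set G) with hC
  have hQc : (Nat.card Q).Coprime p := card_pPrimeCore_coprime p
  have main : ∀ i : Fin (n + 1), C ⊓ H i ≤ Q := by
    intro i
    induction i using Fin.induction with
    | zero => rw [h0]; simp
    | succ i ih =>
      have : (H i.castSucc).Normal := hnorm _
      have : (H i.succ).Normal := hnorm _
      have hMn : (C ⊓ H i.succ).Normal := inferInstance
      apply le_pPrimeCore hMn
      have hle : H i.castSucc ≤ H i.succ := hmono (Fin.castSucc_le_succ i)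
      have hD : (Nat.card ↥(C ⊓ H i.castSucc)).Coprime p :=
        Nat.Coprime.of_dvd_left (card_dvd_of_le ih) hQc
      have hDM : C ⊓ H i.castSucc ≤ C ⊓ H i.succ := inf_le_inf_left _ hle
      have hcard : Nat.card ↥(C ⊓ H i.castSucc) * (C ⊓ H i.castSucc).relIndex (C ⊓ H i.succ) =
          Nat.card ↥(C ⊓ H i.succ) := by
        rw [← relIndex_bot_left, ← relIndex_bot_left]
        exact relIndex_mul_relIndex ⊥ _ _ bot_le hDM
      have hDeq : C ⊓ H i.castSucc = H i.castSucc ⊓ (C ⊓ H i.succ) := by
        rw [inf_comm (H i.castSucc), inf_assoc, inf_eq_right.mpr hle]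
      have hrel : (C ⊓ H i.castSucc).relIndex (C ⊓ H i.succ) ∣
          (H i.castSucc).relIndex (H i.succ) := by
        rw [hDeq, inf_relIndex_right]
        exact Cfsg.Agent.Lib.Helper69.relIndex_dvd_relIndex_of_normal _ _ _ inf_le_right
      rcases hstep i with ⟨m, hm⟩ | hcop
      · rw [hm] at hrel
        obtain ⟨k, -, hk⟩ := (Nat.dvd_prime_pow hp.out).mp hrel
        set M := C ⊓ H i.succ with hM
        set D' := (C ⊓ H i.castSucc).subgroupOf M with hD'
        have hD'c : D' ≤ center ↥M := by
          intro d hd
          rw [mem_center_iff]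
          intro g
          apply Subtype.ext
          have h1 : (d : G) ∈ Q := ih (mem_subgroupOf.mp hd)
          have h2 : (g : G) ∈ C := (mem_inf.mp g.2).1
          exact (mem_centralizer_iff.mp h2 _ h1).symm
        have hD'n : D'.Normal := by
          refine ⟨fun d hd g => ?_⟩
          have := mem_center_iff.mp (hD'c hd) g
          rw [this, mul_assoc, mul_inv_cancel, mul_one]
          exact hd
        have hq : IsPGroup p (↥M ⧸ D') := by
          apply IsPGroup.of_card (n := k)
          rw [← hk]
          rfl
        haveI : Group.IsNilpotent (↥M ⧸ D') := hq.isNilpotent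
        haveI : Group.IsNilpotent ↥M :=
          Subgroup.isNilpotent_of_ker_le_center (QuotientGroup.mk' D')
            (by rw [QuotientGroup.ker_mk']; exact hD'c)
        let P : Sylow p ↥M := default
        haveI : (P : Subgroup ↥M).Normal := inferInstance
        haveI : (P : Subgroup ↥M).Characteristic := P.characteristic_of_normal inferInstance
        have hPn : ((P : Subgroup ↥M).map M.subtype).Normal :=
          ConjAct.normal_of_characteristic_of_normal
        have h3 := le_pCore hPn (P.2.map _)
        rw [hcore, le_bot_iff, map_eq_bot_iff_of_injective _ M.subtype_injective] at h3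
        rw [Nat.coprime_comm, Nat.Prime.coprime_iff_not_dvd hp.out]
        intro hdvd
        exact P.ne_bot_of_dvd_card hdvd h3
      · rw [← hcard]
        exact Nat.Coprime.mul_left hD (Nat.Coprime.of_dvd_left hrel hcop)
  have := main (Fin.last n)
  rwa [hlast, inf_top_eq] at this

end Cfsg.Agent.Lib.Helper48
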