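import Cfsg.Agent.Lib.Helper48.FF9
import Cfsg.Agent.Lib.Helper48.PSolvDual

/-!
Transfer of an action on a characteristic elementary abelian subgroup `V` of `K` to an ambient
FF-pair inside `Equiv.Perm V` (the holomorph of `V`).
-/

set_option autoImplicit false

namespace Cfsg.Agent.Lib.Helper48

open Subgroup

variable {K : Type*} [Group K] (V : Subgroup K) [V.Characteristic]

/-- automorphisms of `K` acting on `V` as permutations -/
def Th : MulAut K →* Equiv.Perm ↥V := (MulAut.toPerm ↥V).comp (MulAut.characteristic V)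

theorem Th_apply (α : MulAut K) (v : V) : ((Th V α v : V) : K) = α v := rfl

/-- conjugation action of `K` on `V` -/
def ps : K →* Equiv.Perm ↥V := (Th V).comp MulAut.conj

theorem ps_apply (k : K) (v : V) : ((ps V k v : V) : K) = k * v * k⁻¹ := rfl

/-- the regular representation of `V` -/
def la : ↥V →* Equiv.Perm ↥V := MulAction.toPermHom ↥V ↥V

theorem la_apply (v w : V) : la V v w = v * w := rfl

theorem la_injective : Function.Injective (la V) := by
  intro v w h
  have := congrArg (fun σ : Equiv.Perm V => σ 1) h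
  simpa [la_apply] using this

theorem Th_mul_la (α : MulAut K) (v : V) :
    Th V α * la V v = la V (MulAut.characteristic V α v) * Th V α := by
  ext w
  simp [Th_apply, la_apply]

theorem Th_conj_la (α : MulAut K) (v : V) :
    Th V α * la V v * (Th V α)⁻¹ = la V (MulAut.characteristic V α v) := by
  rw [Th_mul_la, mul_assoc, mul_inv_cancel, mul_one]

theorem Th_conj_ps (α : MulAut K) (k : K) :
    Th V α * ps V k * (Th V α)⁻¹ = ps V (α k) := by
  have h : α * MulAut.conj k * α⁻¹ = MulAut.conj (α k) := by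
    ext x
    simp [MulAut.mul_apply, MulAut.inv_def]
  change Th V α * Th V (MulAut.conj k) * (Th V α)⁻¹ = Th V (MulAut.conj (α k))
  rw [← h, map_mul, map_mul, map_inv]

theorem Th_eq_one_iff (α : MulAut K) : Th V α = 1 ↔ ∀ v ∈ V, α v = v := by
  constructor
  · intro h v hv
    have := congrArg (fun σ : Equiv.Perm V => ((σ ⟨v, hv⟩ : V) : K)) h
    simpa [Th_apply] using this
  · intro h
    ext v
    rw [Th_apply]
    exact h v v.2

theorem ps_eq_one_iff (k : K) : ps V k = 1 ↔ k ∈ centralizer (V : Set K) := by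
  change Th V (MulAut.conj k) = 1 ↔ _
  rw [Th_eq_one_iff, mem_centralizer_iff]
  constructor
  · intro h v hv
    have := h v hv
    rw [MulAut.conj_apply] at this
    calc v * k = (k * v * k⁻¹) * k := by rw [this]
      _ = k * v := by group
  · intro h v hv
    rw [MulAut.conj_apply, ← h v hv]
    group

theorem ps_ker : (ps V).ker = centralizer (V : Set K) := by
  ext k
  rw [MonoidHom.mem_ker, ps_eq_one_iff]

theorem isElementaryAbelian_range_la {p : ℕ} (hV : Cfsg.IsElementaryAbelian p V) :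
    Cfsg.IsElementaryAbelian p (la V).range := by
  have := hV.1
  refine ⟨⟨⟨?_⟩⟩, ?_⟩
  · rintro ⟨_, v, rfl⟩ ⟨_, w, rfl⟩
    apply Subtype.ext
    change la V v * la V w = la V w * la V v
    rw [← map_mul, ← map_mul, mul_comm' v w]
  · rintro _ ⟨v, rfl⟩
    rw [← map_pow]
    have : v ^ p = 1 := Subtype.ext (by simpa using hV.2 v v.2)
    rw [this, map_one]

theorem range_Th_le_normalizer : (Th V).range ≤ normalizer ((la V).range : Set (Equiv.Perm V)) := by
  rw [le_normalizer_iff]
  rintro _ ⟨α, rfl⟩ _ ⟨v, rfl⟩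
  rw [Th_conj_la]
  exact ⟨_, rfl⟩

theorem range_Th_inf_centralizer :
    (Th V).range ⊓ centralizer ((la V).range : Set (Equiv.Perm V)) = ⊥ := by
  rw [eq_bot_iff]
  rintro _ ⟨⟨α, rfl⟩, hc⟩
  rw [mem_bot, Th_eq_one_iff]
  intro v hv
  have h1 := mem_centralizer_iff.mp hc (la V ⟨v, hv⟩) ⟨_, rfl⟩
  rw [Th_mul_la] at h1
  have h2 := la_injective V (mul_right_cancel h1)
  exact (congrArg Subtype.val h2).symm

theorem map_ps_le_range_Th (A : Subgroup K) : A.map (ps V) ≤ (Th V).range := by
  rintro _ ⟨a, -, rfl⟩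
  exact ⟨MulAut.conj a, rfl⟩

/-- fixed points -/
theorem range_la_inf_centralizer (A : Subgroup K) :
    (la V).range ⊓ centralizer ((A.map (ps V) : Subgroup (Equiv.Perm V)) : Set (Equiv.Perm V)) =
      ((V ⊓ centralizer (A : Set K)).subgroupOf V).map (la V) := by
  ext σ
  constructor
  · rintro ⟨⟨v, rfl⟩, hc⟩
    refine ⟨v, ?_, rfl⟩
    rw [SetLike.mem_coe, mem_subgroupOf, mem_inf]
    refine ⟨v.2, ?_⟩
    rw [mem_centralizer_iff]
    intro a ha
    have h1 := mem_centralizer_iff.mp hc (ps V a) ⟨a, ha, rfl⟩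
    change Th V (MulAut.conj a) * la V v = la V v * Th V (MulAut.conj a) at h1
    rw [Th_mul_la] at h1
    have h2 := congrArg Subtype.val (la_injective V (mul_right_cancel h1))
    change a * v * a⁻¹ = v at h2
    calc a * (v : K) = (a * v * a⁻¹) * a := by group
      _ = v * a := by rw [h2]
  · rintro ⟨v, hv, rfl⟩
    rw [SetLike.mem_coe, mem_subgroupOf, mem_inf] at hv
    refine mem_inf.mpr ⟨⟨v, rfl⟩, ?_⟩
    rw [mem_centralizer_iff]
    rintro _ ⟨a, ha, rfl⟩
    change Th V (MulAut.conj a) * la V v = la V v * Th V (MulAut.conj a)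
    rw [Th_mul_la]
    congr 2
    apply Subtype.ext
    change a * v * a⁻¹ = v
    rw [mem_centralizer_iff.mp hv.2 a ha]
    group

theorem card_range_la_inf_centralizer (A : Subgroup K) :
    Nat.card ↥((la V).range ⊓
      centralizer ((A.map (ps V) : Subgroup (Equiv.Perm V)) : Set (Equiv.Perm V))) =
      Nat.card ↥(V ⊓ centralizer (A : Set K)) := by
  rw [range_la_inf_centralizer, card_map_of_injective (la_injective V)]
  exact Nat.card_congr (subgroupOfEquivOfLe inf_le_left).toEquiv

theorem card_map_ps (A : Subgroup K) :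
    Nat.card ↥(A ⊓ centralizer (V : Set K)) * Nat.card ↥(A.map (ps V)) = Nat.card A := by
  rw [← relIndex_ker, ps_ker, ← inf_relIndex_right, inf_comm A, ← relIndex_bot_left,
    ← relIndex_bot_left]
  exact relIndex_mul_relIndex ⊥ _ _ bot_le inf_le_right

theorem isBestOffenderOn_map_ps [Finite K] {p : ℕ} {A : Subgroup K}
    (hA : Cfsg.IsBestOffenderOn p V A) :
    Cfsg.IsBestOffenderOn p (la V).range (A.map (ps V)) := by
  obtain ⟨h1, h2, h3⟩ := hA
  refine ⟨?_, ?_, ?_⟩
  · intro B' hB'
    set B := A ⊓ B'.comap (ps V) with hB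
    have hBmap : B.map (ps V) = B' := by
      apply le_antisymm
      · rintro _ ⟨b, hb, rfl⟩
        exact (mem_inf.mp hb).2
      · intro σ hσ
        obtain ⟨a, ha, rfl⟩ := hB' hσ
        exact ⟨a, mem_inf.mpr ⟨ha, hσ⟩, rfl⟩
    have hBC : B ⊓ centralizer (V : Set K) = A ⊓ centralizer (V : Set K) := by
      apply le_antisymm (inf_le_inf_right _ inf_le_left)
      intro c hc
      obtain ⟨hc1, hc2⟩ := mem_inf.mp hc
      refine mem_inf.mpr ⟨mem_inf.mpr ⟨hc1, ?_⟩, hc2⟩
      rw [mem_comap, (ps_eq_one_iff V c).mpr hc2]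
      exact one_mem _
    have h4 := h1 B inf_le_left
    rw [← hBmap, card_range_la_inf_centralizer, card_range_la_inf_centralizer]
    rw [← card_map_ps V B, ← card_map_ps V A, hBC, mul_assoc, mul_assoc] at h4
    exact Nat.le_of_mul_le_mul_left h4 Nat.card_pos
  · rw [← map_commutator]
    rintro _ ⟨c, hc, rfl⟩
    rw [(ps_eq_one_iff V c).mpr (h2 hc)]
    exact one_mem _
  · rintro _ ⟨a, ha, rfl⟩
    rw [← map_pow, (ps_eq_one_iff V _).mpr (h3 a ha)]
    exact one_mem _

end Cfsg.Agent.Lib.Helper48
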