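import Cfsg.Agent.Lib.Helper48.FFT

/-!
From a `p`-solvable group `K`, a characteristic elementary abelian `V` with `O_p(K/C_K(V)) = 1` and a normal
subgroup `J` generated by best offenders, to an `FG`-pair in `Equiv.Perm V`.
-/

set_option autoImplicit false

namespace Cfsg.Agent.Lib.Helper48

open Subgroup
open Cfsg.Agent.Lib.Helper22 (conjS mem_conjS conjS_mem conjS_mul conjS_one conjS_eq_of_mem_normalizer)

variable {K : Type*} [Group K] (V : Subgroup K) [V.Characteristic]

theorem map_ps_le_normalizer {J : Subgroup K} (hJ : J.Normal) :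
    (ps V).range ≤ normalizer ((J.map (ps V) : Subgroup (Equiv.Perm V)) : Set (Equiv.Perm V)) := by
  rw [le_normalizer_iff]
  rintro _ ⟨k, rfl⟩ _ ⟨j, hj, rfl⟩
  rw [← map_inv, ← map_mul, ← map_mul]
  exact ⟨_, hJ.conj_mem j hj k, rfl⟩

theorem pCore_map_ps_eq_bot [Finite K] {p : ℕ} [hp : Fact p.Prime] {J : Subgroup K} (hJ : J.Normal)
    (hD : ∀ D : Subgroup K, D.Normal → centralizer (V : Set K) ≤ D →
      (∃ k : ℕ, (centralizer (V : Set K)).relIndex D = p ^ k) → D = centralizer (V : Set K)) :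
    Cfsg.pCore p ↥(J.map (ps V)) = ⊥ := by
  set H' := J.map (ps V) with hH'
  set O := Cfsg.pCoreOf p H' with hO
  have hOr : O ≤ (ps V).range :=
    (Cfsg.Agent.Lib.Helper49.pCoreOf_le p H').trans (map_le_range _ _)
  have hn : (ps V).range ≤ normalizer (O : Set (Equiv.Perm V)) :=
    (map_ps_le_normalizer V hJ).trans (Cfsg.Agent.Lib.Helper49.normalizer_le_normalizer_pCoreOf p H')
  have hDn : (O.comap (ps V)).Normal := by
    refine ⟨fun d hd k => ?_⟩
    rw [mem_comap] at hd ⊢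
    rw [map_mul, map_mul, map_inv]
    exact (mem_normalizer_iff.mp (hn ⟨k, rfl⟩) _).mp hd
  have hmap : (O.comap (ps V)).map (ps V) = O := by
    rw [map_comap_eq, inf_eq_right.mpr hOr]
  have h1 := hD (O.comap (ps V)) hDn (by rw [← ps_ker]; exact ker_le_comap _ _) (by
    obtain ⟨k, hk⟩ := (IsPGroup.iff_card).mp (Cfsg.Agent.Lib.Helper49.pCoreOf_isPGroup p H')
    refine ⟨k, ?_⟩
    rw [← ps_ker, relIndex_ker, hmap]
    exact hk)
  have h2 : O = ⊥ := by
    rw [← hmap, h1, ← ps_ker, eq_bot_iff]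
    rintro _ ⟨c, hc, rfl⟩
    exact hc
  exact (map_eq_bot_iff_of_injective _ H'.subtype_injective).mp h2

theorem fg_of_char [Finite K] {p : ℕ} [hp : Fact p.Prime] (hV : Cfsg.IsElementaryAbelian p V)
    (hsol : Cfsg.IsPSolvable p K) {J : Subgroup K} (hJ : J.Normal) (𝒜 : Set (Subgroup K))
    (hJA : J = sSup 𝒜) (h𝒜 : ∀ A ∈ 𝒜, Cfsg.IsBestOffenderOn p V A)
    (hD : ∀ D : Subgroup K, D.Normal → centralizer (V : Set K) ≤ D →
      (∃ k : ℕ, (centralizer (V : Set K)).relIndex D = p ^ k) → D = centralizer (V : Set K))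
    (hne : ¬ J ≤ centralizer (V : Set K)) :
    FG p (la V).range (J.map (ps V)) ∧ J.map (ps V) ≠ ⊥ := by
  have hH1 : J.map (ps V) ≠ ⊥ := by
    intro h
    apply hne
    rw [← ps_ker]
    exact (Subgroup.map_eq_bot_iff _).mp h
  refine ⟨?_, hH1⟩
  apply fg_of_hyp _ _ (isElementaryAbelian_range_la V hV)
    ((map_ps_le_range_Th V J).trans (range_Th_le_normalizer V))
  · rw [eq_bot_iff, ← range_Th_inf_centralizer V]
    exact inf_le_inf_right _ (map_ps_le_range_Th V J)
  · apply centralizer_pPrimeCore_le _ (pCore_map_ps_eq_bot V hJ hD)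
    exact Cfsg.Agent.Lib.Helper69.isPSolvable_of_surj ((ps V).subgroupMap J)
      ((ps V).subgroupMap_surjective J) (Cfsg.Agent.Lib.Helper69.isPSolvable_subgroup J hsol)
  · apply le_antisymm
    · rw [map_le_iff_le_comap, hJA]
      apply sSup_le
      intro A hA
      rw [← map_le_iff_le_comap, ← hJA]
      exact le_iSup (fun A' : {A' : Subgroup (Equiv.Perm V) // A' ≤ J.map (ps V) ∧
        Cfsg.IsBestOffenderOn p (la V).range A'} => (A' : Subgroup (Equiv.Perm V)))
        ⟨A.map (ps V), map_mono (hJA ▸ le_sSup hA), isBestOffenderOn_map_ps V (h𝒜 A hA)⟩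
    · exact iSup_le (fun A' => A'.2.1)
  · exact hH1

theorem exists_quotient_equiv {K L : Type*} [Group K] [Group L] (f : K →* L) (E' : Subgroup L)
    (hE' : E' ≤ f.range) (C : Subgroup K) (hC : C = f.ker) :
    ∃ _ : (C.subgroupOf (E'.comap f)).Normal,
      Nonempty (↥(E'.comap f) ⧸ C.subgroupOf (E'.comap f) ≃* ↥E') := by
  have hsurj : Function.Surjective (f.subgroupComap E') := by
    rintro ⟨e, he⟩
    obtain ⟨k, rfl⟩ := hE' he
    exact ⟨⟨k, he⟩, rfl⟩
  have hker : C.subgroupOf (E'.comap f) = (f.subgroupComap E').ker := by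
    ext x
    rw [mem_subgroupOf, hC, MonoidHom.mem_ker, MonoidHom.mem_ker]
    constructor
    · intro h
      exact Subtype.ext h
    · intro h
      exact congrArg Subtype.val h
  rw [hker]
  exact ⟨inferInstance, ⟨QuotientGroup.quotientKerEquivOfSurjective _ hsurj⟩⟩

end Cfsg.Agent.Lib.Helper48
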