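import Cfsg.Agent.Lib.Helper48.FFT2
import Cfsg.Agent.Lib.Helper51.ZJDTransport
import Cfsg.Agent.Lib.Helper11.Thompson
import Cfsg.Agent.Lib.Helper11.SylowNormal
import Cfsg.Agent.Lib.Helper76.PSolvable
import Cfsg.Agent.S0601
import Cfsg.Agent.S0602
import Cfsg.Agent.S0604
import Cfsg.Agent.S0606

/-!
Thompson factorization in `p`-solvable groups (Kurzweil-Stellmacher 9.3.8).
-/

set_option autoImplicit false

namespace Cfsg.Agent.Lib.Helper48

open Subgroup

variable {G : Type*} [Group G]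

/-- the normal closure of `Ω₁(Z(S))` -/
def VV (p : ℕ) (G : Type*) [Group G] : Subgroup G :=
  ⨆ S : Sylow p G, Cfsg.omegaOne p ((S : Subgroup G) ⊓ centralizer ((S : Subgroup G) : Set G))

theorem omegaOne_le_VV {p : ℕ} (S : Sylow p G) :
    Cfsg.omegaOne p ((S : Subgroup G) ⊓ centralizer ((S : Subgroup G) : Set G)) ≤ VV p G :=
  le_iSup (fun S : Sylow p G =>
    Cfsg.omegaOne p ((S : Subgroup G) ⊓ centralizer ((S : Subgroup G) : Set G))) S

instance VV_characteristic (p : ℕ) (G : Type*) [Group G] : (VV p G).Characteristic := by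
  rw [characteristic_iff_map_le]
  intro φ
  unfold VV
  rw [Subgroup.map_iSup]
  refine iSup_le fun S => ?_
  refine le_trans ?_ (omegaOne_le_VV ((φ : MulAut G) • S))
  unfold Cfsg.omegaOne
  rw [MonoidHom.map_closure]
  apply Subgroup.closure_mono
  rintro _ ⟨x, ⟨hx, hxp⟩, rfl⟩
  obtain ⟨hx1, hx2⟩ := mem_inf.mp hx
  refine ⟨mem_inf.mpr ⟨?_, ?_⟩, ?_⟩
  · exact ⟨x, hx1, rfl⟩
  · rw [mem_centralizer_iff]
    rintro _ ⟨y, hy, rfl⟩
    have := mem_centralizer_iff.mp hx2 y hy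
    change φ y * φ x = φ x * φ y
    rw [← map_mul, ← map_mul, this]
  · change (φ x) ^ p = 1
    rw [← map_pow, hxp, map_one]

theorem thompson_frattini [Finite G] {p : ℕ} [Fact p.Prime] (N : Subgroup G) [N.Normal]
    (S : Sylow p G) (h : Cfsg.thompsonSubgroupOf p (S : Subgroup G) ≤ N) :
    normalizer (Cfsg.thompsonSubgroupOf p (S : Subgroup G) : Set G) ⊔ N = ⊤ := by
  rw [eq_top_iff, ← Cfsg.Agent.Lib.Helper11.normalizer_sylow_inf_sup_eq_top S N]
  refine sup_le_sup_right ?_ N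
  have haut : ∀ (φ : MulAut G) (A : Subgroup G), Cfsg.IsElementaryAbelian p A →
      Cfsg.IsElementaryAbelian p (A.map φ.toMonoidHom) := fun φ A hA =>
    Cfsg.Agent.Lib.Helper10.IsEA.map hA _
  have h1 := Cfsg.Agent.Lib.Helper11.normalizer_le_normalizer_joinMax haut ((S : Subgroup G) ⊓ N)
  have hle : Cfsg.thompsonSubgroupOf p (S : Subgroup G) ≤ S := map_subtype_le _
  rw [Cfsg.Agent.Lib.Helper51.thompsonSubgroupOf_eq] at h hle ⊢
  have h2 := Cfsg.Agent.Lib.Helper11.joinMax_eq_of_le (Q := fun A : Subgroup G =>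
    Cfsg.IsElementaryAbelian p A) (S := (S : Subgroup G)) (T := (S : Subgroup G) ⊓ N) inf_le_left
    (le_inf hle h) (Cfsg.Agent.Lib.Helper11.exists_isMaxIn _ Cfsg.Agent.Lib.Helper10.isEA_bot _)
  rw [h2] at h1
  exact h1

theorem thompsonSubgroupOf_le_thompsonSubgroup [Finite G] {p : ℕ} [Fact p.Prime] (S : Sylow p G) :
    Cfsg.thompsonSubgroupOf p (S : Subgroup G) ≤ Cfsg.thompsonSubgroup p G := by
  rw [Cfsg.Agent.S0604.result (G := G) (p := p)]
  exact le_iSup (fun S : Sylow p G => Cfsg.thompsonSubgroupOf p (S : Subgroup G)) S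

theorem isThompsonFactorizable_of_le [Finite G] {p : ℕ} [Fact p.Prime]
    (h : Cfsg.thompsonSubgroup p G ≤ centralizer (VV p G : Set G)) :
    Cfsg.IsThompsonFactorizable p G := by
  intro S g
  have hn : (centralizer (VV p G : Set G)).Normal := by
    rw [← ps_ker]; infer_instance
  have h1 := thompson_frattini (centralizer (VV p G : Set G)) S
    ((thompsonSubgroupOf_le_thompsonSubgroup S).trans h)
  rw [sup_comm] at h1
  have h2 : g ∈ centralizer (VV p G : Set G) ⊔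
      normalizer (Cfsg.thompsonSubgroupOf p (S : Subgroup G) : Set G) := h1 ▸ mem_top g
  obtain ⟨c, hc, n, hn', rfl⟩ := (Cfsg.Agent.Lib.Helper22.mem_sup_of_le_normalizer
    (by rw [normalizer_eq_top_iff.mpr hn]; exact le_top)).mp h2
  exact ⟨1, one_mem _, c, centralizer_le (omegaOne_le_VV S) hc, n, hn', by rw [one_mul]⟩

theorem VV_facts [Finite G] {p : ℕ} [Fact p.Prime] (hsep : Cfsg.IsPSolvable p G)
    (hO : Cfsg.pPrimeCore p G = ⊥) :
    Cfsg.IsElementaryAbelian p (VV p G) ∧ ∀ D : Subgroup G, D.Normal →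
      centralizer (VV p G : Set G) ≤ D →
      (∃ k : ℕ, (centralizer (VV p G : Set G)).relIndex D = p ^ k) →
      D = centralizer (VV p G : Set G) :=
  (Cfsg.Agent.S0601.result (Cfsg.Agent.Lib.Helper76.centralizer_pCore_le hsep hO)).2

theorem fg_thompson [Finite G] {p : ℕ} [Fact p.Prime] (hsep : Cfsg.IsPSolvable p G)
    (hO : Cfsg.pPrimeCore p G = ⊥) (hnf : ¬ Cfsg.IsThompsonFactorizable p G) :
    FG p (la (VV p G)).range ((Cfsg.thompsonSubgroup p G).map (ps (VV p G))) ∧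
      (Cfsg.thompsonSubgroup p G).map (ps (VV p G)) ≠ ⊥ := by
  obtain ⟨hV, hD⟩ := VV_facts hsep hO
  haveI : (Cfsg.thompsonSubgroup p G).Characteristic := (Cfsg.Agent.S0602.result (G := G) (p := p)).1
  exact fg_of_char (VV p G) hV hsep inferInstance (Cfsg.maxElementaryAbelianSubgroups p G) rfl
    (fun A hA => Cfsg.Agent.S0606.result (VV p G) hV A hA) hD
    (fun h => hnf (isThompsonFactorizable_of_le h))

theorem FG.exists_mo {X : Type*} [Group X] {p : ℕ} {V H : Subgroup X} (h : FG p V H) (hH : H ≠ ⊥) :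
    ∃ A, MO p V H A := by
  by_contra hcon
  push Not at hcon
  apply hH
  rw [eq_bot_iff]
  exact h.gen ⊥ (fun B hB => absurd hB (hcon B))

theorem comap_le_sup_ker {K L : Type*} [Group K] [Group L] (f : K →* L) (J : Subgroup K)
    {E' : Subgroup L} (h : E' ≤ J.map f) : E'.comap f ≤ J ⊔ f.ker := by
  intro e he
  obtain ⟨j, hj, hje⟩ := h he
  have h1 : j⁻¹ * e ∈ f.ker := by
    rw [MonoidHom.mem_ker, map_mul, map_inv, hje, inv_mul_cancel]
  have h2 : e = j * (j⁻¹ * e) := by group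
  rw [h2]
  exact mul_mem (mem_sup_left hj) (mem_sup_right h1)

theorem le_normalizer_comap {K L : Type*} [Group K] [Group L] (f : K →* L) {M : Subgroup K}
    {E' : Subgroup L} (h : M.map f ≤ normalizer (E' : Set L)) :
    M ≤ normalizer ((E'.comap f : Subgroup K) : Set K) := by
  intro g hg
  rw [mem_normalizer_iff]
  intro x
  rw [mem_comap, mem_comap, map_mul, map_mul, map_inv]
  exact mem_normalizer_iff.mp (h ⟨g, hg, rfl⟩) (f x)

/-- Kurzweil-Stellmacher 9.3.8 -/
theorem thompson_structure [Finite G] {p : ℕ} [Fact p.Prime] (hsep : Cfsg.IsPSolvable p G)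
    (hO : Cfsg.pPrimeCore p G = ⊥) (hnf : ¬ Cfsg.IsThompsonFactorizable p G) :
    (p = 2 ∨ p = 3) ∧ ∃ E : Subgroup G, centralizer (VV p G : Set G) ≤ E ∧
      E ≤ Cfsg.thompsonSubgroup p G ⊔ centralizer (VV p G : Set G) ∧
      Cfsg.thompsonSubgroup p G ⊔ centralizer (VV p G : Set G) ≤ normalizer (E : Set G) ∧
      ∃ _ : ((centralizer (VV p G : Set G)).subgroupOf E).Normal,
        Nonempty ((↥E ⧸ (centralizer (VV p G : Set G)).subgroupOf E) ≃*
          Matrix.SpecialLinearGroup (Fin 2) (ZMod p)) := by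
  obtain ⟨hg, hH⟩ := fg_thompson hsep hO hnf
  obtain ⟨A, hA⟩ := hg.exists_mo hH
  refine ⟨hA.prime_cases, (EE p ((Cfsg.thompsonSubgroup p G).map (ps (VV p G))) A).comap (ps (VV p G)), ?_, ?_, ?_, ?_⟩
  · rw [← ps_ker]
    exact ker_le_comap _ _
  · rw [← ps_ker]
    exact comap_le_sup_ker _ _ hA.E_le
  · apply le_normalizer_comap
    rw [Subgroup.map_sup, ← ps_ker]
    refine sup_le (hA.H_le_normalizer_E hg) ?_
    rw [(Subgroup.map_eq_bot_iff _).mpr le_rfl]
    exact bot_le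
  · obtain ⟨hn, ⟨e⟩⟩ := exists_quotient_equiv (ps (VV p G)) (EE p ((Cfsg.thompsonSubgroup p G).map (ps (VV p G))) A)
      (hA.E_le.trans (map_le_range _ _)) (centralizer (VV p G : Set G)) (ps_ker _).symm
    obtain ⟨φ⟩ := hA.iso
    exact ⟨hn, ⟨e.trans φ⟩⟩

end Cfsg.Agent.Lib.Helper48
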