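import Cfsg.Agent.Lib.Helper48.FFT3
import Cfsg.Agent.Lib.Helper9.PPrimeCoreOf

/-!
Coprime operator groups on FF-pairs (towards Kurzweil-Stellmacher 9.3.9, 9.3.10): the trace element.
-/

set_option autoImplicit false

namespace Cfsg.Agent.Lib.Helper48

open Subgroup
open scoped commutatorElement
open Cfsg.Agent.S2909 (trivOn)
open Cfsg.Agent.Lib.Helper22 (conjS mem_conjS conjS_mem conjS_mul conjS_one conjS_eq_of_mem_normalizer)

variable {G : Type*} [Group G]

open scoped IsMulCommutative in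
/-- the product of the `X`-conjugates of `y` in an abelian `X`-invariant subgroup -/
theorem exists_trace {Y X F : Subgroup G} [Finite X] (hYc : IsMulCommutative Y)
    (hX : X ≤ normalizer (Y : Set G)) {y : G} (hy : y ∈ Y) (X₁ : Subgroup G)
    (h1 : ∀ x ∈ X, x ∈ X₁ → x * y * x⁻¹ = y) (h2 : ∀ x ∈ X, x ∉ X₁ → x * y * x⁻¹ ∈ F) :
    ∃ d ∈ Y, d ∈ centralizer (X : Set G) ∧
      ∃ f ∈ F, d = y ^ Nat.card ↥(X₁.subgroupOf X) * f := by
  classical
  have : Fintype X := Fintype.ofFinite _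
  let c : X → Y := fun n => Cfsg.Agent.Lib.Helper46.conjOn Y n (hX n.2) ⟨y, hy⟩
  have hc : ∀ n : X, ((c n : Y) : G) = n * y * (n : G)⁻¹ := fun n =>
    Cfsg.Agent.Lib.Helper46.conjOn_coe Y n (hX n.2) ⟨y, hy⟩
  refine ⟨((∏ n : X, c n : Y) : G), (∏ n : X, c n : Y).2, ?_, ?_⟩
  · rw [mem_centralizer_iff]
    intro m hm
    have h3 : Cfsg.Agent.Lib.Helper46.conjOn Y m (hX hm) (∏ n : X, c n) = ∏ n : X, c n := by
      rw [map_prod, ← Equiv.prod_comp (Equiv.mulLeft (⟨m, hm⟩ : X)) c]
      apply Finset.prod_congr rfl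
      intro n _
      apply Subtype.ext
      rw [Cfsg.Agent.Lib.Helper46.conjOn_coe, hc, hc]
      simp only [Equiv.coe_mulLeft, Subgroup.coe_mul]
      group
    have h4 := congrArg Subtype.val h3
    rw [Cfsg.Agent.Lib.Helper46.conjOn_coe] at h4
    calc m * ((∏ n : X, c n : Y) : G) = (m * ((∏ n : X, c n : Y) : G) * m⁻¹) * m := by group
      _ = ((∏ n : X, c n : Y) : G) * m := by rw [h4]
  · rw [← Finset.prod_filter_mul_prod_filter_not Finset.univ (fun n : X => (n : G) ∈ X₁)]
    refine ⟨((∏ n ∈ Finset.univ.filter (fun n : X => ¬ (n : G) ∈ X₁), c n : Y) : G), ?_, ?_⟩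
    · have : (∏ n ∈ Finset.univ.filter (fun n : X => ¬ (n : G) ∈ X₁), c n : Y) ∈ F.subgroupOf Y := by
        apply Subgroup.prod_mem
        intro n hn
        rw [mem_subgroupOf, hc]
        exact h2 n n.2 (Finset.mem_filter.mp hn).2
      exact mem_subgroupOf.mp this
    · rw [Subgroup.coe_mul]
      congr 1
      have h5 : (∏ n ∈ Finset.univ.filter (fun n : X => (n : G) ∈ X₁), c n : Y) =
          ∏ _n ∈ Finset.univ.filter (fun n : X => (n : G) ∈ X₁), (⟨y, hy⟩ : Y) := by
        apply Finset.prod_congr rfl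
        intro n hn
        apply Subtype.ext
        rw [hc]
        exact h1 n n.2 (Finset.mem_filter.mp hn).2
      rw [h5, Finset.prod_const, Subgroup.coe_pow]
      congr 1
      rw [Nat.card_eq_fintype_card, Fintype.card_subtype]
      rfl

end Cfsg.Agent.Lib.Helper48
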