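import Cfsg.Agent.Lib.Helper48.FFX1
import Cfsg.Agent.Lib.Helper2.NCLemma
import Cfsg.Agent.Lib.Helper48.PMinimal

/-!
Coprime operator groups on FF-pairs (towards Kurzweil-Stellmacher 9.3.9, 9.3.10).
-/

set_option autoImplicit false

namespace Cfsg.Agent.Lib.Helper48

open Subgroup
open scoped commutatorElement
open Cfsg.Agent.S2909 (trivOn)
open Cfsg.Agent.Lib.Helper22 (conjS mem_conjS conjS_mem conjS_mul conjS_one conjS_eq_of_mem_normalizer)

variable {G : Type*} [Group G]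

theorem normalizer_le_normalizer_ppc [Finite G] (p : ℕ) (H : Subgroup G) :
    normalizer (H : Set G) ≤ normalizer (ppc p H : Set G) :=
  Cfsg.Agent.Lib.Helper9.normalizer_le_normalizer_pPrimeCoreOf H

namespace MO

variable {p : ℕ} {V H A : Subgroup G}

theorem conj' (h : MO p V H A) {g : G} (hgV : g ∈ normalizer (V : Set G))
    (hgH : g ∈ normalizer (H : Set G)) : MO p V H (conjS g A) := by
  refine ⟨h.ff, ?_, ?_, ?_⟩
  · have := conjS_mono g h.hAH
    rwa [conjS_eq_of_mem_normalizer hgH] at this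
  · rw [← h.hAp]
    exact Subgroup.card_map_of_injective (MulAut.conj g).injective
  · rw [commutator_conjS hgV, ← h.hU]
    exact Subgroup.card_map_of_injective (MulAut.conj g).injective

theorem EE_conj' [Finite G] (_h : MO p V H A) {g : G} (hgH : g ∈ normalizer (H : Set G)) :
    EE p H (conjS g A) = conjS g (EE p H A) := by
  rw [EE, EE, conjS_sup, commutator_conjS (normalizer_le_normalizer_ppc p H hgH)]

theorem W_conj' [Finite G] (h : MO p V H A) {g : G} (hgV : g ∈ normalizer (V : Set G))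
    (hgH : g ∈ normalizer (H : Set G)) :
    ⁅V, EE p H (conjS g A)⁆ = conjS g ⁅V, EE p H A⁆ := by
  rw [h.EE_conj' hgH, commutator_conjS hgV]

theorem E_le_normalizer_W (h : MO p V H A) :
    EE p H A ≤ normalizer ((⁅V, EE p H A⁆ : Subgroup G) : Set G) :=
  le_normalizer_commutator (h.E_le.trans h.ff.hHV) le_normalizer

/-- a `q`-group normalizing `V` and `E`, `q` prime to `|E|`, centralizes `[V, E]` -/
theorem le_centralizer_W [Finite G] [hp : Fact p.Prime] {q : ℕ} [Fact q.Prime] (h : MO p V H A)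
    {P : Subgroup G} (hP : IsPGroup q P) (hq : ¬ q ∣ Nat.card H)
    (hPV : P ≤ normalizer (V : Set G)) (hPE : P ≤ normalizer ((EE p H A : Subgroup G) : Set G)) :
    P ≤ centralizer ((⁅V, EE p H A⁆ : Subgroup G) : Set G) := by
  have hqE : ¬ q ∣ p * (p ^ 2 - 1) := by
    rw [← h.card_E]
    exact fun hd => hq (hd.trans (Subgroup.card_dvd_of_le h.E_le))
  apply Cfsg.Agent.Lib.Helper2.le_centralizer_of_not_dvd_sub _ P h.card_W hP
    (le_normalizer_commutator hPV hPE)
  intro j hj hd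
  apply hqE
  have hp1 : 1 ≤ p := hp.out.one_le
  obtain ⟨m, rfl⟩ : ∃ m, p = m + 1 := ⟨p - 1, by omega⟩
  interval_cases j
  · rw [pow_zero] at hd
    exact hd.trans (dvd_mul_left _ _)
  · refine hd.trans ?_
    have h1 : (m + 1) ^ 2 - (m + 1) ^ 1 = (m + 1) * m := by
      have : (m + 1) ^ 2 = (m + 1) * m + (m + 1) ^ 1 := by ring
      omega
    have h2 : (m + 1) ^ 2 - 1 = m * (m + 2) := by
      have : (m + 1) ^ 2 = m * (m + 2) + 1 := by ring
      omega
    rw [h1, h2]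
    exact mul_dvd_mul_left _ (dvd_mul_right _ _)

/-- a `q`-group normalizing `V` and `E`, `q` prime to `|E|`, centralizes `E` -/
theorem le_centralizer_E [Finite G] [hp : Fact p.Prime] {q : ℕ} [Fact q.Prime] (h : MO p V H A)
    {P : Subgroup G} (hP : IsPGroup q P) (hq : ¬ q ∣ Nat.card H)
    (hPV : P ≤ normalizer (V : Set G)) (hPE : P ≤ normalizer ((EE p H A : Subgroup G) : Set G)) :
    P ≤ centralizer ((EE p H A : Subgroup G) : Set G) := by
  have hW := h.le_centralizer_W hP hq hPV hPE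
  intro x hx
  rw [mem_centralizer_iff]
  intro e he
  have h1 : x * e * x⁻¹ * e⁻¹ ∈ EE p H A ⊓ centralizer ((⁅V, EE p H A⁆ : Subgroup G) : Set G) := by
    refine mem_inf.mpr ⟨mul_mem ((mem_normalizer_iff.mp (hPE hx) e).mp he) (inv_mem he), ?_⟩
    have h2 := Cfsg.Agent.S2909.conj_mem_centralizer (h.E_le_normalizer_W he) (inv_mem (hW hx))
    have h3 := mul_mem (hW hx) h2
    have h4 : x * (e * x⁻¹ * e⁻¹) = x * e * x⁻¹ * e⁻¹ := by group
    rwa [h4] at h3
  rw [h.faithful, mem_bot] at h1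
  calc e * x = (x * e * x⁻¹ * e⁻¹)⁻¹ * (x * e) := by group
    _ = x * e := by rw [h1, inv_one, one_mul]

/-- the trace of an element of `E` under a coprime operator group -/
theorem exists_trace_E [Finite G] [hp : Fact p.Prime] {q : ℕ} [Fact q.Prime] (h : MO p V H A)
    (hg : FG p V H) {X : Subgroup G} (hX : IsPGroup q X) (hq : ¬ q ∣ Nat.card H)
    (hXV : X ≤ normalizer (V : Set G)) (hXH : X ≤ normalizer (H : Set G)) {e : G}
    (he : e ∈ EE p H A) :
    ∃ d ∈ H ⊓ centralizer (X : Set G),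
      ∃ f ∈ H ⊓ centralizer ((⁅V, EE p H A⁆ : Subgroup G) : Set G),
        d = e ^ Nat.card ↥((normalizer ((EE p H A : Subgroup G) : Set G)).subgroupOf X) * f := by
  have K1 : ∀ x ∈ X, x ∈ normalizer ((EE p H A : Subgroup G) : Set G) → x * e * x⁻¹ = e := by
    intro x hx hxN
    have h1 := h.le_centralizer_E (P := X ⊓ normalizer ((EE p H A : Subgroup G) : Set G))
      (hX.to_le inf_le_left) hq (inf_le_left.trans hXV) inf_le_right (mem_inf.mpr ⟨hx, hxN⟩)
    rw [← mem_centralizer_iff.mp h1 e he]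
    group
  have K2 : ∀ x ∈ X, x ∉ normalizer ((EE p H A : Subgroup G) : Set G) →
      x * e * x⁻¹ ∈ H ⊓ centralizer ((⁅V, EE p H A⁆ : Subgroup G) : Set G) := by
    intro x hx hxN
    have h' := h.conj' (hXV hx) (hXH hx)
    have hne : EE p H (conjS x A) ≠ EE p H A := by
      rw [h.EE_conj' (hXH hx)]
      intro heq
      exact hxN (Cfsg.Agent.Lib.Helper50.mem_normalizer_iff_map_conj.mpr heq)
    have hmem : x * e * x⁻¹ ∈ EE p H (conjS x A) := by
      rw [h.EE_conj' (hXH hx)]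
      exact conjS_mem he
    exact mem_inf.mpr ⟨h'.E_le hmem, h.E_le_cent h' hg hne hmem⟩
  have hEF : EE p H A ≤ centralizer
      ((H ⊓ centralizer ((⁅V, EE p H A⁆ : Subgroup G) : Set G) : Subgroup G) : Set G) :=
    commutator_eq_bot_iff_le_centralizer.mp (h.comm_E_F hg)
  have K3 : ∀ z ∈ X, e * (z * e * z⁻¹) = (z * e * z⁻¹) * e := by
    intro z hz
    by_cases hzN : z ∈ normalizer ((EE p H A : Subgroup G) : Set G)
    · rw [K1 z hz hzN]
    · exact (mem_centralizer_iff.mp (hEF he) _ (K2 z hz hzN)).symm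
  have hYc : IsMulCommutative ↥(closure {g | ∃ x ∈ X, g = x * e * x⁻¹}) := by
    apply Subgroup.isMulCommutative_closure
    rintro _ ⟨x, hx, rfl⟩ _ ⟨x', hx', rfl⟩
    have h1 := K3 (x⁻¹ * x') (mul_mem (inv_mem hx) hx')
    have h2 : x * e * x⁻¹ * (x' * e * x'⁻¹) = x * (e * ((x⁻¹ * x') * e * (x⁻¹ * x')⁻¹)) * x⁻¹ := by
      group
    have h3 : x' * e * x'⁻¹ * (x * e * x⁻¹) = x * (((x⁻¹ * x') * e * (x⁻¹ * x')⁻¹) * e) * x⁻¹ := by
      group
    rw [h2, h3, h1]
  have hXY : X ≤ normalizer ((closure {g | ∃ x ∈ X, g = x * e * x⁻¹} : Subgroup G) : Set G) := by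
    intro z hz
    apply mem_normalizer_closure
    · rintro _ ⟨x, hx, rfl⟩
      exact ⟨z * x, mul_mem hz hx, by group⟩
    · rintro _ ⟨x, hx, rfl⟩
      exact ⟨z⁻¹ * x, mul_mem (inv_mem hz) hx, by group⟩
  have hYH : closure {g | ∃ x ∈ X, g = x * e * x⁻¹} ≤ H := by
    rw [closure_le]
    rintro _ ⟨x, hx, rfl⟩
    exact (mem_normalizer_iff.mp (hXH hx) e).mp (h.E_le he)
  obtain ⟨d, hdY, hdC, f, hf, hdf⟩ := exists_trace hYc hXY
    (subset_closure ⟨1, one_mem _, by group⟩ : e ∈ closure {g | ∃ x ∈ X, g = x * e * x⁻¹})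
    (normalizer ((EE p H A : Subgroup G) : Set G)) K1 K2
  exact ⟨d, mem_inf.mpr ⟨hYH hdY, hdC⟩, f, hf, hdf⟩

end MO

theorem coprime_card_subgroupOf [Finite G] {q : ℕ} [hq' : Fact q.Prime] {X H : Subgroup G}
    (hX : IsPGroup q X) (hq : ¬ q ∣ Nat.card H) (N : Subgroup G) :
    (Nat.card H).Coprime (Nat.card ↥(N.subgroupOf X)) := by
  obtain ⟨n, hn⟩ := (IsPGroup.iff_card).mp (hX.to_subgroup (N.subgroupOf X))
  rw [hn]
  apply Nat.Coprime.pow_right
  rw [Nat.coprime_comm, Nat.Prime.coprime_iff_not_dvd hq'.out]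
  exact hq

/-- Kurzweil-Stellmacher 9.3.9 in an FF-pair -/
theorem FG.le_of_coprime [Finite G] {p : ℕ} [hp : Fact p.Prime] {q : ℕ} [Fact q.Prime]
    {V H X M T : Subgroup G} (hg : FG p V H) (hX : IsPGroup q X) (hq : ¬ q ∣ Nat.card H)
    (hXV : X ≤ normalizer (V : Set G)) (hXH : X ≤ normalizer (H : Set G))
    (hT : Cfsg.Agent.Lib.Helper22.IsSylowIn p T H) (hTM : T ≤ M)
    (hC : H ⊓ centralizer (X : Set G) ≤ M) : H ≤ M := by
  apply hg.gen
  intro B hB
  obtain ⟨T', hT', hBT'⟩ := Cfsg.Agent.Lib.Helper22.exists_isSylowIn_ge hB.isPGroup_A hB.hAH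
  obtain ⟨k, hk, hkT⟩ := hT'.exists_conj hT
  have hA := hB.conj hk
  have hAT : conjS k B ≤ T := hkT ▸ conjS_mono k hBT'
  have hEE : EE p H (conjS k B) = EE p H B := by
    rw [hB.EE_conj hk]
    exact conjS_eq_of_mem_normalizer (hB.H_le_normalizer_E hg hk)
  refine (le_sup_right : B ≤ EE p H B).trans ?_
  change EE p H B ≤ M
  rw [← hEE]
  generalize conjS k B = A at hA hAT
  have hAM : A ≤ M := hAT.trans hTM
  refine sup_le ?_ hAM
  rw [← Cfsg.Agent.Lib.Helper22.commutator_commutator_eq A (ppc p H) hA.isPGroup_A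
    (not_dvd_card_ppc p H) hA.hAQ, commutator_le]
  intro r' hr' a ha
  have hcop : (Nat.card ↥⁅ppc p H, A⁆).Coprime
      (Nat.card ↥((normalizer ((EE p H A : Subgroup G) : Set G)).subgroupOf X)) :=
    Nat.Coprime.coprime_dvd_left (Subgroup.card_dvd_of_le (hA.R_le.trans (ppc_le p H)))
      (coprime_card_subgroupOf hX hq _)
  obtain ⟨r, hr⟩ := (powCoprime hcop).surjective ⟨r', hr'⟩
  have hr2 : (r : G) ^ Nat.card ↥((normalizer ((EE p H A : Subgroup G) : Set G)).subgroupOf X) = r' :=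
    congrArg Subtype.val hr
  obtain ⟨d, hd, f, hf, hdf⟩ := hA.exists_trace_E hg hX hq hXV hXH
    ((le_sup_left : ⁅ppc p H, A⁆ ≤ EE p H A) r.2)
  rw [hr2] at hdf
  have hEF : EE p H A ≤ centralizer
      ((H ⊓ centralizer ((⁅V, EE p H A⁆ : Subgroup G) : Set G) : Subgroup G) : Set G) :=
    commutator_eq_bot_iff_le_centralizer.mp (hA.comm_E_F hg)
  have hfa : f * a = a * f :=
    mem_centralizer_iff.mp (hEF ((le_sup_right : A ≤ EE p H A) ha)) f hf
  have h1 : ⁅d, a⁆ ∈ M := by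
    rw [commutatorElement_def]
    exact mul_mem (mul_mem (mul_mem (hC hd) (hAM ha)) (inv_mem (hC hd))) (inv_mem (hAM ha))
  have h2 : ⁅d, a⁆ = ⁅r', a⁆ := by
    rw [commutatorElement_def, commutatorElement_def, hdf]
    calc r' * f * a * (r' * f)⁻¹ * a⁻¹ = r' * (f * a) * f⁻¹ * r'⁻¹ * a⁻¹ := by group
      _ = r' * a * r'⁻¹ * a⁻¹ := by rw [hfa]; group
  rwa [h2] at h1

end Cfsg.Agent.Lib.Helper48
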