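import Cfsg.Agent.Lib.Helper48.FFX2
import Cfsg.Agent.S0022

/-!
Coprime operator groups and Thompson factorization (Kurzweil-Stellmacher 9.3.9): transfer to the
holomorph model.
-/

set_option autoImplicit false

namespace Cfsg.Agent.Lib.Helper48

open Subgroup

theorem isSylowIn_map {K L : Type*} [Group K] [Group L] [Finite K] {p : ℕ} [Fact p.Prime]
    (f : K →* L) (S : Sylow p K) (J : Subgroup K) [J.Normal] :
    Cfsg.Agent.Lib.Helper22.IsSylowIn p (((S : Subgroup K) ⊓ J).map f) (J.map f) := by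
  refine ⟨(Cfsg.Agent.Lib.Helper11.sylowInfNormal S J).mapSurjective
    (f.subgroupMap_surjective J), ?_⟩
  rw [Sylow.coe_mapSurjective, Subgroup.map_map]
  have h : (J.map f).subtype.comp (f.subgroupMap J) = f.comp J.subtype := rfl
  rw [h, ← Subgroup.map_map, Cfsg.Agent.Lib.Helper11.sylowInfNormal_map]

variable {G : Type*} [Group G] {K X : Subgroup G} (hXK : X ≤ normalizer (K : Set G))

/-- the action of the operator group `X` on `K` -/
def xi : ↥X →* MulAut ↥K := (K.normalizerMonoidHom).comp (inclusion hXK)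

theorem xi_apply (x : X) (k : K) : ((xi hXK x k : K) : G) = x * k * (x : G)⁻¹ := rfl

variable (V : Subgroup ↥K) [V.Characteristic]

/-- the image of the operator group in the model -/
def Xb : Subgroup (Equiv.Perm ↥V) := ((Th V).comp (xi hXK)).range

theorem Xb_le_range_Th : Xb hXK V ≤ (Th V).range := by
  rintro _ ⟨x, rfl⟩
  exact ⟨xi hXK x, rfl⟩

theorem Xb_le_normalizer_range_la :
    Xb hXK V ≤ normalizer ((la V).range : Set (Equiv.Perm V)) :=
  (Xb_le_range_Th hXK V).trans (range_Th_le_normalizer V)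

theorem Xb_le_normalizer_map_ps (J : Subgroup ↥K) [J.Characteristic] :
    Xb hXK V ≤ normalizer ((J.map (ps V) : Subgroup (Equiv.Perm V)) : Set (Equiv.Perm V)) := by
  rw [le_normalizer_iff]
  rintro _ ⟨x, rfl⟩ _ ⟨j, hj, rfl⟩
  change Th V (xi hXK x) * ps V j * (Th V (xi hXK x))⁻¹ ∈ _
  rw [Th_conj_ps]
  refine ⟨_, ?_, rfl⟩
  have h1 := Subgroup.characteristic_iff_map_le.mp (inferInstance : J.Characteristic) (xi hXK x)
  exact h1 ⟨j, hj, rfl⟩

theorem isPGroup_Xb {q : ℕ} (hX : IsPGroup q X) : IsPGroup q (Xb hXK V) :=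
  hX.of_surjective _ (MonoidHom.rangeRestrict_surjective _)

theorem ps_xi (x : X) (k : K) :
    ps V (xi hXK x k) = Th V (xi hXK x) * ps V k * (Th V (xi hXK x))⁻¹ := (Th_conj_ps V _ k).symm

/-- fixed points of `X` in the model lift to fixed points in `K` -/
theorem exists_lift_fixed [Finite G] (hcop : (Nat.card X).Coprime (Nat.card K))
    (hsolv : Group.IsSolvable X ∨ Group.IsSolvable K) {k : K}
    (hk : ps V k ∈ centralizer (Xb hXK V : Set (Equiv.Perm V))) :
    ∃ c : K, (c : G) ∈ centralizer (X : Set G) ∧ ps V c = ps V k := by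
  have hmem : ∀ g : K, ps V g = 1 → (g : G) ∈ (centralizer (V : Set K)).map K.subtype := by
    intro g hg
    exact ⟨g, (ps_eq_one_iff V g).mp hg, rfl⟩
  obtain ⟨c, hc, hcN⟩ := Cfsg.Agent.S0022.result X K hXK hcop hsolv
    ((centralizer (V : Set K)).map K.subtype) (map_subtype_le _)
    (by
      rw [le_normalizer_iff]
      rintro g hg _ ⟨n, hn, rfl⟩
      have := hmem (⟨g, hg⟩ * n * ⟨g, hg⟩⁻¹) (by
        rw [map_mul, map_mul, (ps_eq_one_iff V n).mpr hn, map_inv, mul_one, mul_inv_cancel])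
      exact this)
    (by
      rw [le_normalizer_iff]
      rintro x hx _ ⟨n, hn, rfl⟩
      have := hmem (xi hXK ⟨x, hx⟩ n) (by
        rw [ps_xi, (ps_eq_one_iff V n).mpr hn, mul_one, mul_inv_cancel])
      exact this)
    k k.2
    (by
      intro x hx
      have := hmem (xi hXK ⟨x, hx⟩ k * k⁻¹) (by
        rw [map_mul, ps_xi, map_inv]
        have h1 := mem_centralizer_iff.mp hk (Th V (xi hXK ⟨x, hx⟩)) ⟨⟨x, hx⟩, rfl⟩
        rw [h1, mul_assoc (ps V k), mul_inv_cancel, mul_one, mul_inv_cancel])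
      exact this)
  obtain ⟨hcK, hcC⟩ := mem_inf.mp hc
  refine ⟨⟨c, hcK⟩, hcC, ?_⟩
  obtain ⟨n, hn, hnc⟩ := hcN
  have h1 : n = k⁻¹ * ⟨c, hcK⟩ := Subtype.ext hnc
  have h2 := (ps_eq_one_iff V n).mpr hn
  rw [h1, map_mul, map_inv, inv_mul_eq_one] at h2
  exact h2.symm

end Cfsg.Agent.Lib.Helper48
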