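import Cfsg.Agent.Lib.Helper48.FFX3

/-!
Coprime operator groups on FF-pairs (Kurzweil-Stellmacher 9.3.10): the diagonal plane.
-/

set_option autoImplicit false

namespace Cfsg.Agent.Lib.Helper48

open Subgroup
open scoped commutatorElement
open Cfsg.Agent.S2909 (trivOn)
open Cfsg.Agent.Lib.Helper22 (conjS mem_conjS conjS_mem conjS_mul conjS_one conjS_eq_of_mem_normalizer)
open Cfsg.Agent.Lib.Helper46 (conjOn conjOn_coe)

variable {G : Type*} [Group G]

open scoped IsMulCommutative in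
/-- the trace homomorphism of an abelian `X`-invariant subgroup -/
theorem exists_trHom {Y X : Subgroup G} [Finite X] (hYc : IsMulCommutative Y)
    (hX : X ≤ normalizer (Y : Set G)) :
    ∃ τ : Y →* Y, (∀ y, (τ y : G) ∈ centralizer (X : Set G)) ∧
      (∀ (d : G) (hd : d ∈ normalizer (Y : Set G)), d ∈ centralizer (X : Set G) →
        ∀ y, τ (conjOn Y d hd y) = conjOn Y d hd (τ y)) ∧
      (∀ (y : Y) (X₁ F : Subgroup G), (∀ x ∈ X, x ∈ X₁ → x * y * x⁻¹ = y) →
        (∀ x ∈ X, x ∉ X₁ → x * y * x⁻¹ ∈ F) →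
        ∃ f ∈ F, (τ y : G) = (y : G) ^ Nat.card ↥(X₁.subgroupOf X) * f) := by
  classical
  have : Fintype X := Fintype.ofFinite _
  let τ : Y →* Y :=
    { toFun := fun y => ∏ n : X, conjOn Y n (hX n.2) y
      map_one' := by simp
      map_mul' := by
        intro a b
        simp only [map_mul]
        exact Finset.prod_mul_distrib }
  have hτ : ∀ y, τ y = ∏ n : X, conjOn Y n (hX n.2) y := fun y => rfl
  refine ⟨τ, ?_, ?_, ?_⟩
  · intro y
    rw [mem_centralizer_iff]
    intro m hm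
    have h3 : conjOn Y m (hX hm) (τ y) = τ y := by
      rw [hτ, map_prod, ← Equiv.prod_comp (Equiv.mulLeft (⟨m, hm⟩ : X))
        (fun n : X => conjOn Y n (hX n.2) y)]
      apply Finset.prod_congr rfl
      intro n _
      apply Subtype.ext
      rw [conjOn_coe, conjOn_coe, conjOn_coe]
      simp only [Equiv.coe_mulLeft, Subgroup.coe_mul]
      group
    have h4 := congrArg Subtype.val h3
    rw [conjOn_coe] at h4
    calc m * (τ y : G) = (m * (τ y : G) * m⁻¹) * m := by group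
      _ = (τ y : G) * m := by rw [h4]
  · intro d hd hdC y
    rw [hτ, hτ, map_prod]
    apply Finset.prod_congr rfl
    intro n _
    apply Subtype.ext
    rw [conjOn_coe, conjOn_coe, conjOn_coe, conjOn_coe]
    have h1 : (n : G) * d = d * n := mem_centralizer_iff.mp hdC n n.2
    calc (n : G) * (d * y * d⁻¹) * (n : G)⁻¹ = ((n : G) * d) * y * ((n : G) * d)⁻¹ := by group
      _ = d * (n * y * (n : G)⁻¹) * d⁻¹ := by rw [h1]; group
  · intro y X₁ F h1 h2
    rw [hτ, ← Finset.prod_filter_mul_prod_filter_not Finset.univ (fun n : X => (n : G) ∈ X₁)]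
    refine ⟨((∏ n ∈ Finset.univ.filter (fun n : X => ¬ (n : G) ∈ X₁),
      conjOn Y n (hX n.2) y : Y) : G), ?_, ?_⟩
    · have : (∏ n ∈ Finset.univ.filter (fun n : X => ¬ (n : G) ∈ X₁),
          conjOn Y n (hX n.2) y : Y) ∈ F.subgroupOf Y := by
        apply Subgroup.prod_mem
        intro n hn
        rw [mem_subgroupOf, conjOn_coe]
        exact h2 n n.2 (Finset.mem_filter.mp hn).2
      exact mem_subgroupOf.mp this
    · rw [Subgroup.coe_mul]
      congr 1
      have h5 : (∏ n ∈ Finset.univ.filter (fun n : X => (n : G) ∈ X₁), conjOn Y n (hX n.2) y : Y) =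
          ∏ _n ∈ Finset.univ.filter (fun n : X => (n : G) ∈ X₁), y := by
        apply Finset.prod_congr rfl
        intro n hn
        apply Subtype.ext
        rw [conjOn_coe]
        exact h1 n n.2 (Finset.mem_filter.mp hn).2
      rw [h5, Finset.prod_const, Subgroup.coe_pow]
      congr 1
      rw [Nat.card_eq_fintype_card, Fintype.card_subtype]
      rfl

/-- the diagonal plane in `C_V(X)` -/
theorem MO.exists_diag [Finite G] {p : ℕ} [hp : Fact p.Prime] {q : ℕ} [Fact q.Prime]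
    {V H A X : Subgroup G} (h : MO p V H A) (hg : FG p V H) (hX : IsPGroup q X)
    (hq : ¬ q ∣ Nat.card H) (hXV : X ≤ normalizer (V : Set G)) (hXH : X ≤ normalizer (H : Set G)) :
    ∃ Ws : Subgroup G, Ws ≤ V ⊓ centralizer (X : Set G) ∧ Nat.card Ws = p ^ 2 ∧
      H ⊓ centralizer (X : Set G) ≤ normalizer (Ws : Set G) ∧
      (∀ d ∈ H ⊓ centralizer (X : Set G), d ∈ centralizer (Ws : Set G) ↔
        d ∈ centralizer ((⁅V, EE p H A⁆ : Subgroup G) : Set G)) ∧
      (∀ e ∈ EE p H A, ∃ f ∈ H ⊓ centralizer ((⁅V, EE p H A⁆ : Subgroup G) : Set G),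
        ∃ d ∈ H ⊓ centralizer (X : Set G), e = f * d) := by
  obtain ⟨τ, hτ1, hτ2, hτ3⟩ := exists_trHom h.ff.hV.1 hXV
  have hk : p.Coprime
      (Nat.card ↥((normalizer ((EE p H A : Subgroup G) : Set G)).subgroupOf X)) := by
    refine Nat.Coprime.coprime_dvd_left ?_ (coprime_card_subgroupOf hX hq _)
    rw [← h.hAp]
    exact Subgroup.card_dvd_of_le h.hAH
  let θ : ↥⁅V, EE p H A⁆ →* G := V.subtype.comp (τ.comp (inclusion h.W_le))
  have hθ : ∀ w : ↥⁅V, EE p H A⁆, θ w = (τ ⟨w, h.W_le w.2⟩ : G) := fun w => rfl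
  have M1 : ∀ w : ↥⁅V, EE p H A⁆, ∃ u ∈ V ⊓ centralizer ((EE p H A : Subgroup G) : Set G),
      θ w = (w : G) ^
        Nat.card ↥((normalizer ((EE p H A : Subgroup G) : Set G)).subgroupOf X) * u := by
    intro w
    apply hτ3 ⟨w, h.W_le w.2⟩ (normalizer ((EE p H A : Subgroup G) : Set G))
    · intro x hx hxN
      have h1 := h.le_centralizer_W (P := X ⊓ normalizer ((EE p H A : Subgroup G) : Set G))
        (hX.to_le inf_le_left) hq (inf_le_left.trans hXV) inf_le_right (mem_inf.mpr ⟨hx, hxN⟩)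
      change x * (w : G) * x⁻¹ = w
      rw [← mem_centralizer_iff.mp h1 w w.2]
      group
    · intro x hx hxN
      change x * (w : G) * x⁻¹ ∈ _
      have h' := h.conj' (hXV hx) (hXH hx)
      have hne : EE p H A ≠ EE p H (conjS x A) := by
        rw [h.EE_conj' (hXH hx)]
        intro heq
        exact hxN (Cfsg.Agent.Lib.Helper50.mem_normalizer_iff_map_conj.mpr heq.symm)
      have hmem : x * (w : G) * x⁻¹ ∈ ⁅V, EE p H (conjS x A)⁆ := by
        rw [h.W_conj' (hXV hx) (hXH hx)]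
        exact conjS_mem w.2
      exact mem_inf.mpr ⟨h'.W_le hmem, le_centralizer_iff.mp (h'.E_le_cent h hg hne) hmem⟩
  have M2 : Function.Injective θ := by
    rw [injective_iff_map_eq_one]
    intro w hw
    obtain ⟨u, hu, hwu⟩ := M1 w
    rw [hw] at hwu
    have h1 : (w : G) ^
        Nat.card ↥((normalizer ((EE p H A : Subgroup G) : Set G)).subgroupOf X) = u⁻¹ :=
      eq_inv_of_mul_eq_one_left hwu.symm
    have h2 : (w : G) ^
        Nat.card ↥((normalizer ((EE p H A : Subgroup G) : Set G)).subgroupOf X) ∈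
        ⁅V, EE p H A⁆ ⊓ (V ⊓ centralizer ((EE p H A : Subgroup G) : Set G)) :=
      mem_inf.mpr ⟨pow_mem w.2 _, h1 ▸ inv_mem hu⟩
    rw [h.W_inf_cent, mem_bot] at h2
    have h3 : orderOf (w : G) ∣ p := orderOf_dvd_of_pow_eq_one (h.ff.hV.2 w (h.W_le w.2))
    have h4 := Nat.dvd_gcd h3 (orderOf_dvd_of_pow_eq_one h2)
    rw [hk.gcd_eq_one, Nat.dvd_one, orderOf_eq_one_iff] at h4
    exact Subtype.ext h4
  have hHW := h.H_le_normalizer_W hg
  have M5 : ∀ d (hd : d ∈ H ⊓ centralizer (X : Set G)) (w : ↥⁅V, EE p H A⁆),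
      d * θ w * d⁻¹ = θ ⟨d * w * d⁻¹, (mem_normalizer_iff.mp (hHW hd.1) w).mp w.2⟩ := by
    intro d hd w
    have h1 := congrArg Subtype.val (hτ2 d (h.ff.hHV hd.1) hd.2 ⟨w, h.W_le w.2⟩)
    rw [conjOn_coe] at h1
    exact h1.symm
  refine ⟨θ.range, ?_, ?_, ?_, ?_, ?_⟩
  · rintro _ ⟨w, rfl⟩
    exact mem_inf.mpr ⟨(τ _).2, hτ1 _⟩
  · rw [← h.card_W]
    exact Nat.card_congr (MonoidHom.ofInjective M2).toEquiv.symm
  · rw [le_normalizer_iff]
    rintro d hd _ ⟨w, rfl⟩
    rw [M5 d hd w]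
    exact ⟨_, rfl⟩
  · intro d hd
    constructor
    · intro hc
      rw [mem_centralizer_iff]
      intro w hw
      have h1 := mem_centralizer_iff.mp hc (θ ⟨w, hw⟩) ⟨_, rfl⟩
      have h2 : d * θ ⟨w, hw⟩ * d⁻¹ = θ ⟨w, hw⟩ := by rw [← h1]; group
      rw [M5 d hd] at h2
      have h3 : d * w * d⁻¹ = w := congrArg Subtype.val (M2 h2)
      calc w * d = (d * w * d⁻¹) * d := by rw [h3]
        _ = d * w := by group
    · intro hc
      rw [mem_centralizer_iff]
      rintro _ ⟨w, rfl⟩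
      have h1 := mem_centralizer_iff.mp hc w w.2
      have h2 : (⟨d * w * d⁻¹, (mem_normalizer_iff.mp (hHW hd.1) w).mp w.2⟩ : ↥⁅V, EE p H A⁆) = w := by
        apply Subtype.ext
        change d * (w : G) * d⁻¹ = w
        rw [← h1]
        group
      have h3 := M5 d hd w
      rw [h2] at h3
      calc θ w * d = (d * θ w * d⁻¹) * d := by rw [h3]
        _ = d * θ w := by group
  · have hle : EE p H A ≤ (H ⊓ centralizer ((⁅V, EE p H A⁆ : Subgroup G) : Set G)) ⊔
        (H ⊓ centralizer (X : Set G)) := by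
      conv_lhs => rw [EE, h.E_eq_closure]
      rw [closure_le]
      rintro _ ⟨x, hx, α, hα, rfl⟩
      have hgE : x * α * x⁻¹ ∈ EE p H A := h.conj_mem_E hx hα
      have hgp : (x * α * x⁻¹) ^ p = 1 := by
        rw [conj_pow, pow_eq_one_of_card h.hAp hα]
        group
      have hc : (Nat.card ↥(zpowers (x * α * x⁻¹))).Coprime
          (Nat.card ↥((normalizer ((EE p H A : Subgroup G) : Set G)).subgroupOf X)) := by
        rw [Nat.card_zpowers]
        exact Nat.Coprime.coprime_dvd_left (orderOf_dvd_of_pow_eq_one hgp) hk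
      obtain ⟨g', hg'⟩ := (powCoprime hc).surjective ⟨x * α * x⁻¹, mem_zpowers _⟩
      have hg2 : (g' : G) ^
          Nat.card ↥((normalizer ((EE p H A : Subgroup G) : Set G)).subgroupOf X) = x * α * x⁻¹ :=
        congrArg Subtype.val hg'
      obtain ⟨d, hd, f, hf, hdf⟩ := h.exists_trace_E hg hX hq hXV hXH
        ((zpowers_le.mpr hgE) g'.2)
      rw [hg2] at hdf
      have h1 : x * α * x⁻¹ = d * f⁻¹ := by rw [hdf]; group
      change x * α * x⁻¹ ∈ _
      rw [h1]
      exact mul_mem (mem_sup_right hd) (mem_sup_left (inv_mem hf))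
    intro e he
    obtain ⟨f, hf, d, hd, hfd⟩ := (Cfsg.Agent.Lib.Helper22.mem_sup_of_le_normalizer
      (inf_le_left.trans (h.H_le_normalizer_F hg))).mp (hle he)
    exact ⟨f, hf, d, hd, hfd.symm⟩

end Cfsg.Agent.Lib.Helper48
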