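import Cfsg.Agent.Lib.Helper48.FFX4

/-!
Coprime operator groups and Thompson factorization (Kurzweil-Stellmacher 9.3.10): pulling the
diagonal plane back.
-/

set_option autoImplicit false

namespace Cfsg.Agent.Lib.Helper48

open Subgroup

theorem exists_quotient_equiv_of_range_eq {D E M S : Type*} [Group D] [Group E] [Group M] [Group S]
    (Φ : D →* M) (α : E →* M) (hinj : Function.Injective α) (hr : Φ.range = α.range)
    (N : Subgroup D) (hN : N = Φ.ker) (φ : E ≃* S) :
    ∃ _ : N.Normal, Nonempty (D ⧸ N ≃* S) := by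
  subst hN
  exact ⟨inferInstance, ⟨(QuotientGroup.quotientKerEquivRange Φ).trans
    ((MulEquiv.subgroupCongr hr).trans ((MonoidHom.ofInjective hinj).symm.trans φ))⟩⟩

section

variable {K : Type*} [Group K] (V : Subgroup K) [V.Characteristic]

theorem Th_comm_la_iff (α : MulAut K) (v : V) :
    Th V α * la V v = la V v * Th V α ↔ α v = v := by
  rw [Th_mul_la, mul_left_inj]
  constructor
  · intro h
    exact congrArg Subtype.val (la_injective V h)
  · intro h
    congr 1
    exact Subtype.ext h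

theorem ps_comm_la_iff (c : K) (v : V) :
    ps V c * la V v = la V v * ps V c ↔ c * v = v * c := by
  change Th V (MulAut.conj c) * la V v = la V v * Th V (MulAut.conj c) ↔ _
  rw [Th_comm_la_iff, MulAut.conj_apply, mul_inv_eq_iff_eq_mul]

theorem ps_conj_la (c : K) (v : V) :
    ps V c * la V v * (ps V c)⁻¹ = la V (MulAut.characteristic V (MulAut.conj c) v) :=
  Th_conj_la V (MulAut.conj c) v

end

open scoped commutatorElement in
theorem exists_pullback {G : Type*} [Group G] [Finite G] {K X : Subgroup G}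
    (hXK : X ≤ normalizer (K : Set G)) (V : Subgroup ↥K) [V.Characteristic] {p : ℕ}
    [hp : Fact p.Prime] (hV : Cfsg.IsElementaryAbelian p V) (J : Subgroup ↥K)
    (hcop : (Nat.card X).Coprime (Nat.card K))
    (hsolv : Group.IsSolvable X ∨ Group.IsSolvable K) (A : Subgroup (Equiv.Perm ↥V))
    (hA : MO p (la V).range (J.map (ps V)) A) (hg : FG p (la V).range (J.map (ps V)))
    (Ws : Subgroup (Equiv.Perm ↥V))
    (hWs1 : Ws ≤ (la V).range ⊓ centralizer (Xb hXK V : Set (Equiv.Perm ↥V)))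
    (hWs2 : Nat.card Ws = p ^ 2)
    (hWs3 : J.map (ps V) ⊓ centralizer (Xb hXK V : Set (Equiv.Perm ↥V)) ≤
      normalizer (Ws : Set (Equiv.Perm ↥V)))
    (hWs4 : ∀ d ∈ J.map (ps V) ⊓ centralizer (Xb hXK V : Set (Equiv.Perm ↥V)),
      d ∈ centralizer (Ws : Set (Equiv.Perm ↥V)) ↔
        d ∈ centralizer ((⁅(la V).range, EE p (J.map (ps V)) A⁆ : Subgroup (Equiv.Perm ↥V)) :
          Set (Equiv.Perm ↥V)))
    (hWs5 : ∀ e ∈ EE p (J.map (ps V)) A, ∃ f ∈ J.map (ps V) ⊓
        centralizer ((⁅(la V).range, EE p (J.map (ps V)) A⁆ : Subgroup (Equiv.Perm ↥V)) :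
          Set (Equiv.Perm ↥V)),
        ∃ d ∈ J.map (ps V) ⊓ centralizer (Xb hXK V : Set (Equiv.Perm ↥V)), e = f * d) :
    ∃ W D : Subgroup G, W ≤ K ⊓ centralizer (X : Set G) ∧ D ≤ K ⊓ centralizer (X : Set G) ∧
      Cfsg.IsElementaryAbelian p W ∧ Nat.card W = p ^ 2 ∧ D ≤ normalizer (W : Set G) ∧
      ∃ _ : ((centralizer (W : Set G)).subgroupOf D).Normal,
        Nonempty ((↥D ⧸ (centralizer (W : Set G)).subgroupOf D) ≃*
          Matrix.SpecialLinearGroup (Fin 2) (ZMod p)) := by
  classical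
  let lam : ↥V →* G := K.subtype.comp V.subtype
  have hlam : Function.Injective lam := K.subtype_injective.comp V.subtype_injective
  have hDps : ∀ c : ↥K, c ∈ ((J.map (ps V)).comap (ps V)) ⊓ (centralizer (X : Set G)).subgroupOf K →
      ps V c ∈ J.map (ps V) ⊓ centralizer (Xb hXK V : Set (Equiv.Perm ↥V)) := by
    intro c hc
    obtain ⟨hc1, hc2⟩ := mem_inf.mp hc
    refine mem_inf.mpr ⟨hc1, ?_⟩
    rw [mem_centralizer_iff]
    rintro _ ⟨x, rfl⟩
    change Th V (xi hXK x) * ps V c = ps V c * Th V (xi hXK x)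
    have h1 : xi hXK x c = c := by
      apply Subtype.ext
      rw [xi_apply]
      have := mem_centralizer_iff.mp (mem_subgroupOf.mp hc2) x x.2
      rw [this]
      group
    have h2 := ps_xi hXK V x c
    rw [h1] at h2
    calc Th V (xi hXK x) * ps V c
        = (Th V (xi hXK x) * ps V c * (Th V (xi hXK x))⁻¹) * Th V (xi hXK x) := by group
      _ = ps V c * Th V (xi hXK x) := by rw [← h2]
  have hDK : (((J.map (ps V)).comap (ps V)) ⊓ (centralizer (X : Set G)).subgroupOf K).map K.subtype ≤ K :=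
    map_subtype_le _
  refine ⟨(Ws.comap (la V)).map lam,
    (((J.map (ps V)).comap (ps V)) ⊓ (centralizer (X : Set G)).subgroupOf K).map K.subtype,
    ?_, ?_, ?_, ?_, ?_, ?_⟩
  · rintro _ ⟨v, hv, rfl⟩
    refine mem_inf.mpr ⟨(v : ↥K).2, ?_⟩
    rw [mem_centralizer_iff]
    intro x hx
    have h1 := mem_centralizer_iff.mp (hWs1 hv).2 (Th V (xi hXK ⟨x, hx⟩)) ⟨⟨x, hx⟩, rfl⟩
    have h2 := congrArg Subtype.val ((Th_comm_la_iff V _ v).mp h1)
    rw [xi_apply] at h2
    change x * ((v : ↥K) : G) = ((v : ↥K) : G) * x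
    change x * ((v : ↥K) : G) * x⁻¹ = ((v : ↥K) : G) at h2
    calc x * ((v : ↥K) : G) = (x * ((v : ↥K) : G) * x⁻¹) * x := by group
      _ = ((v : ↥K) : G) * x := by rw [h2]
  · rintro _ ⟨c, hc, rfl⟩
    exact mem_inf.mpr ⟨c.2, mem_subgroupOf.mp (mem_inf.mp hc).2⟩
  · refine ⟨⟨⟨?_⟩⟩, ?_⟩
    · rintro ⟨_, v, hv, rfl⟩ ⟨_, w, hw, rfl⟩
      apply Subtype.ext
      change lam v * lam w = lam w * lam v
      have := hV.1
      rw [← map_mul, ← map_mul, mul_comm' v w]
    · rintro _ ⟨v, hv, rfl⟩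
      rw [← map_pow]
      have h1 : v ^ p = 1 := Subtype.ext (by simpa using hV.2 v v.2)
      rw [h1, map_one]
  · rw [card_map_of_injective hlam, ← hWs2]
    conv_rhs => rw [← Subgroup.map_comap_eq_self (hWs1.trans inf_le_left)]
    rw [card_map_of_injective (la_injective V)]
  · rw [le_normalizer_iff]
    rintro _ ⟨c, hc, rfl⟩ _ ⟨v, hv, rfl⟩
    refine ⟨MulAut.characteristic V (MulAut.conj c) v, ?_, rfl⟩
    change la V _ ∈ Ws
    rw [← ps_conj_la]
    exact (mem_normalizer_iff.mp (hWs3 (hDps c hc)) _).mp hv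
  · have hHW := hA.H_le_normalizer_W hg
    let ψ : ↥((((J.map (ps V)).comap (ps V)) ⊓
        (centralizer (X : Set G)).subgroupOf K).map K.subtype) →* Equiv.Perm ↥V :=
      (ps V).comp (inclusion hDK)
    have hψ : ∀ c, ψ c ∈ J.map (ps V) ⊓ centralizer (Xb hXK V : Set (Equiv.Perm ↥V)) := by
      rintro ⟨_, c', hc', rfl⟩
      exact hDps c' hc'
    let Φ := (⁅(la V).range, EE p (J.map (ps V)) A⁆).normalizerMonoidHom.comp
      (ψ.codRestrict (normalizer ((⁅(la V).range, EE p (J.map (ps V)) A⁆ :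
        Subgroup (Equiv.Perm ↥V)) : Set (Equiv.Perm ↥V))) (fun c => hHW (hψ c).1))
    have hΦ : ∀ c (w : ↥⁅(la V).range, EE p (J.map (ps V)) A⁆),
        ((Φ c w : ↥⁅(la V).range, EE p (J.map (ps V)) A⁆) : Equiv.Perm ↥V) =
          ψ c * w * (ψ c)⁻¹ := fun _ _ => rfl
    let α := (⁅(la V).range, EE p (J.map (ps V)) A⁆).normalizerMonoidHom.comp
      (inclusion hA.E_le_normalizer_W)
    have hα : ∀ (e : ↥(EE p (J.map (ps V)) A)) (w : ↥⁅(la V).range, EE p (J.map (ps V)) A⁆),
        ((α e w : ↥⁅(la V).range, EE p (J.map (ps V)) A⁆) : Equiv.Perm ↥V) =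
          e * w * (e : Equiv.Perm ↥V)⁻¹ := fun _ _ => rfl
    have hinj : Function.Injective α := by
      rw [injective_iff_map_eq_one]
      intro e he
      have h1 : (e : Equiv.Perm ↥V) ∈ EE p (J.map (ps V)) A ⊓
          centralizer ((⁅(la V).range, EE p (J.map (ps V)) A⁆ : Subgroup (Equiv.Perm ↥V)) :
            Set (Equiv.Perm ↥V)) := by
        refine mem_inf.mpr ⟨e.2, ?_⟩
        rw [mem_centralizer_iff]
        intro w hw
        have h2 := hα e ⟨w, hw⟩
        rw [he] at h2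
        change w = (e : Equiv.Perm ↥V) * w * (e : Equiv.Perm ↥V)⁻¹ at h2
        calc w * (e : Equiv.Perm ↥V)
            = ((e : Equiv.Perm ↥V) * w * (e : Equiv.Perm ↥V)⁻¹) * e := by rw [← h2]
          _ = e * w := by group
      rw [hA.faithful, mem_bot] at h1
      exact Subtype.ext h1
    have hr : Φ.range = α.range := by
      ext σ
      constructor
      · rintro ⟨c, rfl⟩
        have h1 : ψ c ∈ EE p (J.map (ps V)) A ⊔ (J.map (ps V) ⊓
            centralizer ((⁅(la V).range, EE p (J.map (ps V)) A⁆ : Subgroup (Equiv.Perm ↥V)) :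
              Set (Equiv.Perm ↥V))) := (hA.E_sup_F hg).symm.le (hψ c).1
        obtain ⟨e, he, f, hf, hef⟩ := (Cfsg.Agent.Lib.Helper22.mem_sup_of_le_normalizer
          (inf_le_left.trans (hA.H_le_normalizer_E hg))).mp h1
        refine ⟨⟨e, he⟩, ?_⟩
        ext w : 1
        apply Subtype.ext
        rw [hα, hΦ, ← hef]
        have h2 := mem_centralizer_iff.mp (mem_inf.mp hf).2 w w.2
        calc e * (w : Equiv.Perm ↥V) * e⁻¹ = e * ((w : Equiv.Perm ↥V) * f) * f⁻¹ * e⁻¹ := by group
          _ = e * f * w * (e * f)⁻¹ := by rw [h2]; group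
      · rintro ⟨⟨e, he⟩, rfl⟩
        obtain ⟨f, hf, d, hd, rfl⟩ := hWs5 e he
        obtain ⟨hd1, hd2⟩ := mem_inf.mp hd
        obtain ⟨j, hj, rfl⟩ := hd1
        obtain ⟨c, hc1, hc2⟩ := exists_lift_fixed hXK V hcop hsolv hd2
        have hcD : c ∈ ((J.map (ps V)).comap (ps V)) ⊓ (centralizer (X : Set G)).subgroupOf K := by
          refine mem_inf.mpr ⟨?_, mem_subgroupOf.mpr hc1⟩
          rw [mem_comap, hc2]
          exact ⟨j, hj, rfl⟩
        refine ⟨⟨(c : G), c, hcD, rfl⟩, ?_⟩
        ext w : 1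
        apply Subtype.ext
        rw [hα, hΦ]
        change ps V c * (w : Equiv.Perm ↥V) * (ps V c)⁻¹ =
          f * ps V j * (w : Equiv.Perm ↥V) * (f * ps V j)⁻¹
        rw [hc2]
        have h3 : ps V j * (w : Equiv.Perm ↥V) * (ps V j)⁻¹ ∈
            ⁅(la V).range, EE p (J.map (ps V)) A⁆ :=
          (mem_normalizer_iff.mp (hHW ⟨j, hj, rfl⟩) w).mp w.2
        have h2 := mem_centralizer_iff.mp (mem_inf.mp hf).2 _ h3
        calc ps V j * (w : Equiv.Perm ↥V) * (ps V j)⁻¹
            = (ps V j * (w : Equiv.Perm ↥V) * (ps V j)⁻¹ * f) * f⁻¹ := by group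
          _ = f * ps V j * (w : Equiv.Perm ↥V) * (f * ps V j)⁻¹ := by rw [h2]; group
    have hker : (centralizer (((Ws.comap (la V)).map lam : Subgroup G) : Set G)).subgroupOf
        ((((J.map (ps V)).comap (ps V)) ⊓ (centralizer (X : Set G)).subgroupOf K).map K.subtype) =
        Φ.ker := by
      ext c
      rw [mem_subgroupOf, MonoidHom.mem_ker]
      have s1 : (c : G) ∈ centralizer (((Ws.comap (la V)).map lam : Subgroup G) : Set G) ↔
          ψ c ∈ centralizer (Ws : Set (Equiv.Perm ↥V)) := by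
        constructor
        · intro h
          rw [mem_centralizer_iff]
          intro σ hσ
          obtain ⟨v, rfl⟩ := (hWs1 hσ).1
          have h1 := mem_centralizer_iff.mp h (lam v) ⟨v, hσ, rfl⟩
          refine ((ps_comm_la_iff V (inclusion hDK c) v).mpr ?_).symm
          apply Subtype.ext
          exact h1.symm
        · intro h
          rw [mem_centralizer_iff]
          rintro _ ⟨v, hv, rfl⟩
          have h1 := mem_centralizer_iff.mp h (la V v) hv
          have h2 := (ps_comm_la_iff V (inclusion hDK c) v).mp h1.symm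
          exact (congrArg Subtype.val h2).symm
      have s2 : ψ c ∈ centralizer ((⁅(la V).range, EE p (J.map (ps V)) A⁆ :
          Subgroup (Equiv.Perm ↥V)) : Set (Equiv.Perm ↥V)) ↔ Φ c = 1 := by
        constructor
        · intro h
          ext w : 1
          apply Subtype.ext
          rw [hΦ]
          have h2 := mem_centralizer_iff.mp h w w.2
          change ψ c * (w : Equiv.Perm ↥V) * (ψ c)⁻¹ = w
          rw [← h2]
          group
        · intro h
          rw [mem_centralizer_iff]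
          intro w hw
          have h2 := hΦ c ⟨w, hw⟩
          rw [h] at h2
          change w = ψ c * w * (ψ c)⁻¹ at h2
          calc w * ψ c = (ψ c * w * (ψ c)⁻¹) * ψ c := by rw [← h2]
            _ = ψ c * w := by group
      rw [s1, hWs4 _ (hψ c), s2]
    obtain ⟨φ⟩ := hA.iso
    exact exists_quotient_equiv_of_range_eq Φ α hinj hr _ hker φ

end Cfsg.Agent.Lib.Helper48
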