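import Cfsg.Agent.Lib.Helper10.Thompson
import Cfsg.Prelude.Def_PLocal

/-!
Images of `J(P)` and `Ω₁(Z(P))` under a homomorphism that is injective on `P`.
-/

set_option autoImplicit false

namespace Cfsg.Agent.Lib.Helper48

open Subgroup

universe u

variable {G G' : Type u} [Group G] [Group G'] {p : ℕ}

theorem thompsonSubgroup_map_equiv_le (φ : G ≃* G') :
    (Cfsg.thompsonSubgroup p G).map φ.toMonoidHom ≤ Cfsg.thompsonSubgroup p G' := by
  rw [Subgroup.map_le_iff_le_comap]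
  conv_lhs => unfold Cfsg.thompsonSubgroup
  apply sSup_le
  intro A hA
  rw [← Subgroup.map_le_iff_le_comap]
  exact Cfsg.Agent.Lib.Helper10.le_thompson (Cfsg.Agent.Lib.Helper10.maxEA_map_equiv φ hA)

theorem thompsonSubgroup_map_equiv (φ : G ≃* G') :
    (Cfsg.thompsonSubgroup p G).map φ.toMonoidHom = Cfsg.thompsonSubgroup p G' := by
  apply le_antisymm (thompsonSubgroup_map_equiv_le φ)
  have h := Subgroup.map_mono (f := φ.toMonoidHom) (thompsonSubgroup_map_equiv_le (p := p) φ.symm)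
  rw [Subgroup.map_map] at h
  have h2 : φ.toMonoidHom.comp φ.symm.toMonoidHom = MonoidHom.id G' := by
    ext x
    simp
  rwa [h2, Subgroup.map_id] at h

theorem thompsonSubgroupOf_map (f : G →* G') (P : Subgroup G) (hP : P ⊓ f.ker = ⊥) :
    Cfsg.thompsonSubgroupOf p (P.map f) = (Cfsg.thompsonSubgroupOf p P).map f := by
  have hinj : Function.Injective (f.subgroupMap P) := by
    rw [injective_iff_map_eq_one]
    intro x hx
    have h1 : (x : G) ∈ P ⊓ f.ker := mem_inf.mpr ⟨x.2, congrArg Subtype.val hx⟩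
    rw [hP, mem_bot] at h1
    exact Subtype.ext h1
  let e : ↥P ≃* ↥(P.map f) := MulEquiv.ofBijective (f.subgroupMap P)
    ⟨hinj, f.subgroupMap_surjective P⟩
  unfold Cfsg.thompsonSubgroupOf
  rw [← thompsonSubgroup_map_equiv e, Subgroup.map_map, Subgroup.map_map]
  rfl

theorem omegaOne_center_map (f : G →* G') (P : Subgroup G) (hP : P ⊓ f.ker = ⊥) :
    Cfsg.omegaOne p (P.map f ⊓ centralizer ((P.map f : Subgroup G') : Set G')) =
      (Cfsg.omegaOne p (P ⊓ centralizer (P : Set G))).map f := by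
  have key : ∀ x ∈ P, f x = 1 → x = 1 := by
    intro x hx hfx
    have h1 : x ∈ P ⊓ f.ker := mem_inf.mpr ⟨hx, hfx⟩
    rwa [hP, mem_bot] at h1
  unfold Cfsg.omegaOne
  rw [MonoidHom.map_closure]
  congr 1
  ext y
  constructor
  · rintro ⟨hy, hyp⟩
    obtain ⟨⟨x, hx, rfl⟩, hyC⟩ := mem_inf.mp hy
    refine ⟨x, ⟨mem_inf.mpr ⟨hx, ?_⟩, ?_⟩, rfl⟩
    · rw [mem_centralizer_iff]
      intro s hs
      have h1 := mem_centralizer_iff.mp hyC (f s) ⟨s, hs, rfl⟩
      have h2 := key (s * x * s⁻¹ * x⁻¹) (mul_mem (mul_mem (mul_mem hs hx) (inv_mem hs)) (inv_mem hx))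
        (by
          rw [map_mul, map_mul, map_mul, h1, map_inv, map_inv]
          group)
      calc s * x = (s * x * s⁻¹ * x⁻¹) * (x * s) := by group
        _ = x * s := by rw [h2, one_mul]
    · exact key _ (pow_mem hx p) (by rw [map_pow]; exact hyp)
  · rintro ⟨x, ⟨hx, hxp⟩, rfl⟩
    obtain ⟨hx1, hx2⟩ := mem_inf.mp hx
    refine ⟨mem_inf.mpr ⟨⟨x, hx1, rfl⟩, ?_⟩, ?_⟩
    · rw [mem_centralizer_iff]
      rintro _ ⟨s, hs, rfl⟩
      rw [← map_mul, ← map_mul, mem_centralizer_iff.mp hx2 s hs]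
    · change f x ^ p = 1
      rw [← map_pow, hxp, map_one]

end Cfsg.Agent.Lib.Helper48
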