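import Cfsg.Agent.Lib.Helper48.FFX5
import Cfsg.Agent.Lib.Helper48.ThompsonMap
import Cfsg.Agent.Lib.Helper49.CharP
import Cfsg.Agent.Lib.Helper11.Solv
import Cfsg.Prelude.Def_JComponents

/-!
`J(T)`-components (Kurzweil-Stellmacher, chapter 12): general lemmas.
-/

set_option autoImplicit false

namespace Cfsg.Agent.Lib.Helper48

open Subgroup
open scoped commutatorElement
open Cfsg.Agent.Lib.Helper22 (conjS mem_conjS conjS_mem conjS_mul conjS_one conjS_eq_of_mem_normalizer)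

variable {G : Type*} [Group G]

theorem le_of_odd_gen {K M : Subgroup G} (hK : closure {g : G | g ∈ K ∧ Odd (orderOf g)} = K)
    (h : ∀ g ∈ K, Odd (orderOf g) → g ∈ M) : K ≤ M := by
  rw [← hK, closure_le]
  rintro g ⟨hg, hodd⟩
  exact h g hg hodd

theorem odd_gen_conjS {K : Subgroup G} (hK : closure {g : G | g ∈ K ∧ Odd (orderOf g)} = K) (c : G) :
    closure {g : G | g ∈ conjS c K ∧ Odd (orderOf g)} = conjS c K := by
  apply le_antisymm
  · rw [closure_le]
    rintro g ⟨hg, -⟩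
    exact hg
  · conv_lhs => rw [← hK]
    rw [conjS, MonoidHom.map_closure, closure_le]
    rintro _ ⟨g, ⟨hg, hodd⟩, rfl⟩
    apply Subgroup.subset_closure
    refine ⟨⟨g, hg, rfl⟩, ?_⟩
    have : orderOf ((MulAut.conj c).toMonoidHom g) = orderOf g :=
      orderOf_injective _ (MulAut.conj c).injective g
    rw [this]
    exact hodd

/-- powers of `n * r` modulo a subgroup normalized by `r` -/
theorem exists_mul_pow_eq {N : Subgroup G} {n r : G} (hn : n ∈ N) (hr : r ∈ normalizer (N : Set G))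
    (m : ℕ) : ∃ n' ∈ N, (n * r) ^ m = n' * r ^ m := by
  induction m with
  | zero => exact ⟨1, one_mem _, by simp⟩
  | succ m ih =>
    obtain ⟨n', hn', h⟩ := ih
    refine ⟨n' * (r ^ m * n * (r ^ m)⁻¹),
      mul_mem hn' ((mem_normalizer_iff.mp (pow_mem hr m) n).mp hn), ?_⟩
    rw [pow_succ, h, pow_succ]
    group

/-- an element of odd order of `N R`, `R` a `2`-group normalizing `N`, lies in `N` -/
theorem mem_of_odd_of_mem_sup {N R : Subgroup G} (hR : IsPGroup 2 R)
    (hRN : R ≤ normalizer (N : Set G)) {g : G} (hg : g ∈ N ⊔ R) (hodd : Odd (orderOf g)) :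
    g ∈ N := by
  obtain ⟨n, hn, r, hr, rfl⟩ := (Cfsg.Agent.Lib.Helper22.mem_sup_of_le_normalizer hRN).mp hg
  obtain ⟨k, hk⟩ := hR ⟨r, hr⟩
  have hk' : r ^ 2 ^ k = 1 := congrArg Subtype.val hk
  obtain ⟨n', hn', h⟩ := exists_mul_pow_eq hn (hRN hr) (2 ^ k)
  rw [hk', mul_one] at h
  have hcop : (2 ^ k).Coprime (orderOf (n * r)) := by
    apply Nat.Coprime.pow_left
    exact Nat.coprime_two_left.mpr hodd
  obtain ⟨m, hm⟩ := exists_pow_eq_self_of_coprime hcop
  rw [← hm, h]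
  exact pow_mem hn' m

theorem le_normalizer_of_commutator_eq [Finite G] {K J : Subgroup G} (h : ⁅K, J⁆ = K) :
    J ≤ normalizer (K : Set G) := by
  have h1 := le_normalizer_commutator_left J K
  rwa [commutator_comm, h] at h1

/-- the normalizer trick: `K = [K, J]`, `[C, J]` normalizes `K` -/
theorem commutator_le_normalizer_of [Finite G] {K J C : Subgroup G} (hKJ : ⁅K, J⁆ = K)
    (hKC : K ≤ normalizer (C : Set G)) (h : ⁅C, J⁆ ≤ normalizer (K : Set G)) :
    ⁅C, K⁆ ≤ normalizer (K : Set G) := by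
  have hJK := le_normalizer_of_commutator_eq hKJ
  let 𝒢 : Subgroup G :=
    { carrier := {g | g ∈ normalizer (K : Set G) ∧ ∀ c ∈ C, ⁅c, g⁆ ∈ normalizer (K : Set G)}
      one_mem' := ⟨one_mem _, fun c _ => by
        rw [commutatorElement_one_right]
        exact one_mem _⟩
      mul_mem' := by
        rintro g g' ⟨hg, hg2⟩ ⟨hg', hg2'⟩
        refine ⟨mul_mem hg hg', fun c hc => ?_⟩
        have e : ⁅c, g * g'⁆ = ⁅c, g⁆ * (g * ⁅c, g'⁆ * g⁻¹) := by
          simp only [commutatorElement_def]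
          group
        rw [e]
        exact mul_mem (hg2 c hc) (mul_mem (mul_mem hg (hg2' c hc)) (inv_mem hg))
      inv_mem' := by
        rintro g ⟨hg, hg2⟩
        refine ⟨inv_mem hg, fun c hc => ?_⟩
        have e : ⁅c, g⁻¹⁆ = g⁻¹ * ⁅c, g⁆⁻¹ * g := by
          simp only [commutatorElement_def]
          group
        rw [e]
        exact mul_mem (mul_mem (inv_mem hg) (inv_mem (hg2 c hc))) hg }
  have hJ𝒢 : ∀ j ∈ J, j ∈ 𝒢 := fun j hj =>
    ⟨hJK hj, fun c hc => h (commutator_mem_commutator hc hj)⟩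
  have hK𝒢 : K ≤ 𝒢 := by
    conv_lhs => rw [← hKJ]
    rw [commutator_le]
    intro k hk j hj
    have e : ⁅k, j⁆ = (k * j * k⁻¹) * j⁻¹ := by rw [commutatorElement_def]
    rw [e]
    refine mul_mem ?_ (inv_mem (hJ𝒢 j hj))
    have hkN : k ∈ normalizer (K : Set G) := le_normalizer hk
    refine ⟨mul_mem (mul_mem hkN (hJK hj)) (inv_mem hkN), fun c hc => ?_⟩
    have e2 : ⁅c, k * j * k⁻¹⁆ = k * ⁅k⁻¹ * c * k⁻¹⁻¹, j⁆ * k⁻¹ := by
      simp only [commutatorElement_def]
      group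
    rw [e2]
    have hc' : k⁻¹ * c * k⁻¹⁻¹ ∈ C := (mem_normalizer_iff.mp (hKC (inv_mem hk)) c).mp hc
    exact mul_mem (mul_mem hkN (h (commutator_mem_commutator hc' hj))) (inv_mem hkN)
  rw [commutator_le]
  intro c hc k hk
  exact (hK𝒢 hk).2 c hc

/-- a group `C` normalizing the `2`-group `J` and normalized by `K = [K, J] = O^2(K)` and `J`
normalizes `K` -/
theorem le_normalizer_of_trick [Finite G] {K J C : Subgroup G}
    (hgen : closure {g : G | g ∈ K ∧ Odd (orderOf g)} = K) (hKJ : ⁅K, J⁆ = K)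
    (hJ2 : IsPGroup 2 J) (hKC : K ≤ normalizer (C : Set G)) (hJC : J ≤ normalizer (C : Set G))
    (hCJ : C ≤ normalizer (J : Set G)) : C ≤ normalizer (K : Set G) := by
  have hJK := le_normalizer_of_commutator_eq hKJ
  have hCJ' : ⁅C, J⁆ ≤ J ⊓ C := by
    refine le_inf ?_ (le_normalizer_iff_commutator_le_left.mp hJC)
    rw [commutator_comm]
    exact le_normalizer_iff_commutator_le_left.mp hCJ
  have hM : ⁅C, K⁆ ≤ normalizer (K : Set G) :=
    commutator_le_normalizer_of hKJ hKC (hCJ'.trans (inf_le_left.trans hJK))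
  have hMC : ⁅C, K⁆ ≤ C := le_normalizer_iff_commutator_le_left.mp hKC
  have hX : J ⊓ C ≤ normalizer (K : Set G) := inf_le_left.trans hJK
  have h3 : ⁅K ⊔ ⁅C, K⁆, J⁆ ≤ K ⊔ (J ⊓ C) := by
    rw [commutator_le]
    intro g hg j hj
    obtain ⟨k, hk, m, hm, rfl⟩ := (Cfsg.Agent.Lib.Helper22.mem_sup_of_le_normalizer hM).mp hg
    have e : ⁅k * m, j⁆ = ⁅m, j⁆ * (⁅m, j⁆⁻¹ * k * ⁅m, j⁆⁻¹⁻¹) * k⁻¹ * ⁅k, j⁆ := by
      simp only [commutatorElement_def]
      group
    have hx : ⁅m, j⁆ ∈ J ⊓ C := hCJ' (commutator_mem_commutator (hMC hm) hj)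
    rw [e]
    refine mul_mem (mul_mem (mul_mem (mem_sup_right hx) (mem_sup_left ?_))
      (mem_sup_left (inv_mem hk))) (mem_sup_left ?_)
    · exact (mem_normalizer_iff.mp (hX (inv_mem hx)) k).mp hk
    · rw [← hKJ]
      exact commutator_mem_commutator hk hj
  intro c hc
  apply Cfsg.Agent.Lib.Helper50.mem_normalizer_of_map_conj_le
  change conjS c K ≤ K
  have h1 : conjS c K ≤ K ⊔ ⁅C, K⁆ := by
    rintro _ ⟨k, hk, rfl⟩
    have e : (MulAut.conj c).toMonoidHom k = ⁅c, k⁆ * k := by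
      simp only [MulEquiv.coe_toMonoidHom, MulAut.conj_apply, commutatorElement_def]
      group
    rw [e]
    exact mul_mem (mem_sup_right (commutator_mem_commutator hc hk)) (mem_sup_left hk)
  have h2 : ⁅conjS c K, J⁆ = conjS c K := by
    conv_rhs => rw [← hKJ]
    change _ = map _ _
    rw [Subgroup.map_commutator]
    change _ = ⁅conjS c K, conjS c J⁆
    rw [conjS_eq_of_mem_normalizer (hCJ hc)]
  have h4 : conjS c K ≤ K ⊔ (J ⊓ C) := by
    rw [← h2]
    exact (commutator_mono h1 le_rfl).trans h3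
  apply le_of_odd_gen (odd_gen_conjS hgen c)
  intro g hg hodd
  exact mem_of_odd_of_mem_sup (hJ2.to_le inf_le_left) hX (h4 hg) hodd

end Cfsg.Agent.Lib.Helper48
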