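import Cfsg.Agent.Lib.Helper48.JC9
import Cfsg.Agent.Lib.Helper10.Card

/-!
`J(T)`-components: the group `K J(T)`.
-/

set_option autoImplicit false

namespace Cfsg.Agent.Lib.Helper48

open Subgroup
open scoped commutatorElement
open Cfsg.Agent.Lib.Helper22 (conjS mem_conjS conjS_mem conjS_mul conjS_one conjS_eq_of_mem_normalizer)
open Cfsg.Agent.Lib.Helper47 (IsSylowIn)
open Cfsg.Agent.Lib.Helper11 (IsMaxIn)

universe u

variable {G : Type u} [Group G]

theorem MEA.card_mul_le [Finite G] {S A A' Y : Subgroup G} (hA : MEA S A) (hA' : A' ≤ A)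
    (hYS : Y ≤ S) (hY : Cfsg.IsElementaryAbelian 2 Y) (hc : A' ≤ centralizer (Y : Set G)) :
    Nat.card A' * Nat.card Y ≤ Nat.card A * Nat.card (A' ⊓ Y : Subgroup G) := by
  have h1 : Cfsg.IsElementaryAbelian 2 (A' ⊔ Y) :=
    Cfsg.Agent.Lib.Helper10.IsEA.sup (Cfsg.Agent.Lib.Helper10.IsEA.mono hA.2.1 hA') hY
      (fun a ha b hb => (mem_centralizer_iff.mp (hc ha) b hb).symm)
  have h2 := hA.2.2 _ (sup_le (hA'.trans hA.1) hYS) h1
  rw [← Cfsg.Agent.Lib.Helper10.card_sup_mul_card_inf A' Y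
    (hc.trans (centralizer_le_normalizer _))]
  exact Nat.mul_le_mul_right _ h2

theorem MEA.mem_of_commute [Finite G] {S A : Subgroup G} (hA : MEA S A) {u : G} (huS : u ∈ S)
    (hu2 : u ^ 2 = 1) (huA : u ∈ centralizer (A : Set G)) : u ∈ A := by
  have h1 : Cfsg.IsElementaryAbelian 2 (A ⊔ zpowers u) :=
    Cfsg.Agent.Lib.Helper10.IsEA.sup hA.2.1 (Cfsg.Agent.Lib.Helper10.isEA_zpowers hu2) (by
      intro a ha b hb
      have h3 : zpowers u ≤ centralizer (A : Set G) := zpowers_le.mpr huA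
      exact mem_centralizer_iff.mp (h3 hb) a ha)
  have h2 := hA.2.2 _ (sup_le hA.1 (zpowers_le.mpr huS)) h1
  have h3 : A = A ⊔ zpowers u := eq_of_le_of_card_ge le_sup_left h2
  rw [h3]
  exact mem_sup_right (mem_zpowers u)

/-- `a ↦ [x, a]` is a homomorphism into a central subgroup -/
theorem card_le_mul_card_centralizer [Finite G] {A Z : Subgroup G} {x : G}
    (h1 : ∀ a ∈ A, ⁅x, a⁆ ∈ Z) (h2 : A ≤ centralizer (Z : Set G)) :
    Nat.card A ≤ Nat.card Z * Nat.card (A ⊓ centralizer ({x} : Set G) : Subgroup G) := by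
  let f : A →* Z :=
    { toFun := fun a => ⟨⁅x, (a : G)⁆, h1 a a.2⟩
      map_one' := by
        apply Subtype.ext
        simp
      map_mul' := by
        intro a a'
        apply Subtype.ext
        have h3 := mem_centralizer_iff.mp (h2 a.2) _ (h1 a' a'.2)
        change ⁅x, (a : G) * a'⁆ = ⁅x, (a : G)⁆ * ⁅x, (a' : G)⁆
        have e : ⁅x, (a : G) * a'⁆ = ⁅x, (a : G)⁆ * ((a : G) * ⁅x, (a' : G)⁆) * (a : G)⁻¹ := by
          simp only [commutatorElement_def]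
          group
        rw [e, ← h3]
        group }
  have hker : f.ker = (A ⊓ centralizer ({x} : Set G)).subgroupOf A := by
    ext a
    rw [MonoidHom.mem_ker, mem_subgroupOf, mem_inf, mem_centralizer_singleton_iff]
    constructor
    · intro h
      have h3 : ⁅x, (a : G)⁆ = 1 := congrArg Subtype.val h
      exact ⟨a.2, (commutatorElement_eq_one_iff_mul_comm.mp h3).symm⟩
    · rintro ⟨-, h⟩
      apply Subtype.ext
      exact commutatorElement_eq_one_iff_mul_comm.mpr h.symm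
  have h3 := f.ker.card_mul_index
  rw [index_ker, hker] at h3
  have h4 : Nat.card ↥((A ⊓ centralizer ({x} : Set G)).subgroupOf A) =
      Nat.card (A ⊓ centralizer ({x} : Set G) : Subgroup G) :=
    Nat.card_congr (subgroupOfEquivOfLe inf_le_left).toEquiv
  rw [h4] at h3
  rw [← h3, mul_comm]
  exact Nat.mul_le_mul_right _ (card_le_card_group _)

/-- context: a component `K`, a Sylow `2`-subgroup `S` of `K J(T)` over `O_2(K) J(T)` -/
structure JS (T K S : Subgroup G) (d : G) : Prop where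
  hT : IsPGroup 2 T
  hK : Cfsg.IsJComponent T K
  hd : JD K d
  hS : IsSylowIn 2 S (K ⊔ Cfsg.thompsonSubgroupOf 2 T)
  hle : Cfsg.pCoreOf 2 K ⊔ Cfsg.thompsonSubgroupOf 2 T ≤ S

theorem exists_js [Finite G] {T K : Subgroup G} (hT : IsPGroup 2 T) (hK : Cfsg.IsJComponent T K) :
    ∃ S d, JS T K S d := by
  obtain ⟨d, hd⟩ := exists_jd hK
  have h1 : IsPGroup 2 (Cfsg.pCoreOf 2 K ⊔ Cfsg.thompsonSubgroupOf 2 T : Subgroup G) :=
    Cfsg.Agent.Lib.Helper22.isPGroup_sup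
      ((J_le_normalizer hK).trans (Cfsg.Agent.Lib.Helper49.normalizer_le_normalizer_pCoreOf 2 K))
      (Cfsg.Agent.Lib.Helper49.pCoreOf_isPGroup 2 K) (hT.to_le (thompsonSubgroupOf_le' 2 T))
  obtain ⟨S, hS, hle⟩ := Cfsg.Agent.Lib.Helper47.exists_isSylowIn_ge h1
    (sup_le_sup_right (Cfsg.Agent.Lib.Helper49.pCoreOf_le 2 K) _)
  exact ⟨S, d, hT, hK, hd, hS, hle⟩

namespace JS

variable [Finite G] {T K S : Subgroup G} {d : G}

theorem isPGroup_J (h : JS T K S d) : IsPGroup 2 (Cfsg.thompsonSubgroupOf 2 T) :=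
  h.hT.to_le (thompsonSubgroupOf_le' 2 T)

theorem H_le (h : JS T K S d) : K ⊔ Cfsg.thompsonSubgroupOf 2 T ≤ normalizer (K : Set G) :=
  sup_le le_normalizer (J_le_normalizer h.hK)

theorem H_le_W (h : JS T K S d) :
    K ⊔ Cfsg.thompsonSubgroupOf 2 T ≤ normalizer (Cfsg.wOf K : Set G) :=
  h.H_le.trans (normalizer_le_normalizer_wOf K)

theorem H_le_P (h : JS T K S d) :
    K ⊔ Cfsg.thompsonSubgroupOf 2 T ≤ normalizer (Cfsg.pCoreOf 2 K : Set G) :=
  h.H_le.trans (Cfsg.Agent.Lib.Helper49.normalizer_le_normalizer_pCoreOf 2 K)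

theorem J_le_S (h : JS T K S d) : Cfsg.thompsonSubgroupOf 2 T ≤ S := le_sup_right.trans h.hle

theorem P_le_S (h : JS T K S d) : Cfsg.pCoreOf 2 K ≤ S := le_sup_left.trans h.hle

theorem J_eq (h : JS T K S d) : Cfsg.thompsonSubgroupOf 2 S = Cfsg.thompsonSubgroupOf 2 T :=
  h.hK.2.2.2.1 S (isSylowTwoIn_of h.hS) h.J_le_S

theorem mea_S (h : JS T K S d) {A : Subgroup G} (hA : MEA T A) : MEA S A := hA.of_J_eq h.J_eq.symm

theorem mea_T (h : JS T K S d) {A : Subgroup G} (hA : MEA S A) : MEA T A := hA.of_J_eq h.J_eq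

theorem W_le_P (K : Subgroup G) : Cfsg.wOf K ≤ Cfsg.pCoreOf 2 K :=
  (JD.wOf_le K).trans ((omegaCenterOf_le _).trans inf_le_left)

theorem P_le_cent (K : Subgroup G) : Cfsg.pCoreOf 2 K ≤ centralizer (Cfsg.wOf K : Set G) :=
  le_centralizer_iff.mp ((JD.wOf_le K).trans ((omegaCenterOf_le _).trans inf_le_right))

theorem d_not_mem (h : JS T K S d) : d ∉ centralizer (Cfsg.wOf K : Set G) := by
  intro hd
  apply wOf_ne_bot h.hK
  rw [eq_bot_iff, ← h.hd.wOf_inf_centralizer]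
  exact le_inf le_rfl (le_centralizer_iff.mp (zpowers_le.mpr hd))

theorem K_inf_cent (h : JS T K S d) :
    K ⊓ centralizer (Cfsg.wOf K : Set G) ≤ Cfsg.pCoreOf 2 K := by
  have h1 : Cfsg.pCoreOf 2 K ≤ K ⊓ centralizer (Cfsg.wOf K : Set G) :=
    le_inf (Cfsg.Agent.Lib.Helper49.pCoreOf_le 2 K) (P_le_cent K)
  have h2 := relIndex_mul_relIndex (Cfsg.pCoreOf 2 K) _ K h1 inf_le_left
  rw [h.hK.2.2.1] at h2
  have h3 : (K ⊓ centralizer (Cfsg.wOf K : Set G)).relIndex K ≠ 1 := by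
    intro h4
    rw [relIndex_eq_one] at h4
    exact h.d_not_mem ((h4 h.hd.hdK).2)
  have h4 : (K ⊓ centralizer (Cfsg.wOf K : Set G)).relIndex K = 3 :=
    ((Nat.dvd_prime Nat.prime_three).mp (Dvd.intro_left _ h2)).resolve_left h3
  rw [h4] at h2
  have h5 : (Cfsg.pCoreOf 2 K).relIndex (K ⊓ centralizer (Cfsg.wOf K : Set G)) = 1 := by omega
  exact relIndex_eq_one.mp h5

theorem isPGroup_QH (h : JS T K S d) :
    IsPGroup 2 ((K ⊔ Cfsg.thompsonSubgroupOf 2 T) ⊓ centralizer (Cfsg.wOf K : Set G) :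
      Subgroup G) := by
  rintro ⟨g, hg⟩
  obtain ⟨hgH, hgC⟩ := mem_inf.mp hg
  have hJK := J_le_normalizer h.hK
  obtain ⟨k, hk, j, hj, rfl⟩ := (Cfsg.Agent.Lib.Helper22.mem_sup_of_le_normalizer hJK).mp hgH
  obtain ⟨m, hm⟩ := h.isPGroup_J ⟨j, hj⟩
  have hm' : j ^ 2 ^ m = 1 := congrArg Subtype.val hm
  obtain ⟨k', hk', he⟩ := exists_mul_pow_eq hk (hJK hj) (2 ^ m)
  rw [hm', mul_one] at he
  have hk'P : k' ∈ Cfsg.pCoreOf 2 K := h.K_inf_cent (mem_inf.mpr ⟨hk', he ▸ pow_mem hgC _⟩)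
  obtain ⟨m', hm2⟩ := (Cfsg.Agent.Lib.Helper49.pCoreOf_isPGroup 2 K) ⟨k', hk'P⟩
  have hm2' : k' ^ 2 ^ m' = 1 := congrArg Subtype.val hm2
  refine ⟨m + m', Subtype.ext ?_⟩
  change (k * j) ^ 2 ^ (m + m') = 1
  rw [pow_add, pow_mul, he, hm2']

theorem H_le_QH (h : JS T K S d) : K ⊔ Cfsg.thompsonSubgroupOf 2 T ≤
    normalizer (((K ⊔ Cfsg.thompsonSubgroupOf 2 T) ⊓ centralizer (Cfsg.wOf K : Set G) :
      Subgroup G) : Set G) := by
  apply Cfsg.Agent.Lib.Helper62.le_normalizer_inf le_normalizer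
  intro g hg
  exact mem_normalizer_centralizer (h.H_le_W hg)

theorem QH_le_S (h : JS T K S d) :
    (K ⊔ Cfsg.thompsonSubgroupOf 2 T) ⊓ centralizer (Cfsg.wOf K : Set G) ≤ S :=
  (Cfsg.Agent.Lib.Helper49.le_pCoreOf inf_le_left h.H_le_QH h.isPGroup_QH).trans
    (Cfsg.Agent.Lib.Helper47.pCoreOf_le_of_isSylowIn h.hS)

theorem J_not_le (h : JS T K S d) :
    ¬ Cfsg.thompsonSubgroupOf 2 T ≤ centralizer (Cfsg.wOf K : Set G) := by
  intro hle
  apply not_isPGroup_of_isJComponent h.hK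
  apply h.isPGroup_QH.to_le
  conv_lhs => rw [← h.hK.2.1]
  rw [commutator_comm]
  have h1 : Cfsg.thompsonSubgroupOf 2 T ≤
      (K ⊔ Cfsg.thompsonSubgroupOf 2 T) ⊓ centralizer (Cfsg.wOf K : Set G) :=
    le_inf le_sup_right hle
  have h2 : K ≤ K ⊔ Cfsg.thompsonSubgroupOf 2 T := le_sup_left
  exact (commutator_mono h1 h2).trans (le_normalizer_iff_commutator_le_left.mp h.H_le_QH)

theorem card_inf_cent_of (h : JS T K S d) {R : Subgroup G} (hR : IsPGroup 2 R)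
    (hRW : R ≤ normalizer (Cfsg.wOf K : Set G)) (hn : ¬ R ≤ centralizer (Cfsg.wOf K : Set G)) :
    Nat.card (Cfsg.wOf K ⊓ centralizer (R : Set G) : Subgroup G) = 2 := by
  have h1 := Cfsg.Agent.Lib.Helper10.card_modEq_card_centralizer R (Cfsg.wOf K) hR hRW
  have hW4 := h.hK.2.2.2.2.1
  rw [hW4] at h1
  have hdvd : Nat.card (Cfsg.wOf K ⊓ centralizer (R : Set G) : Subgroup G) ∣ 4 :=
    hW4 ▸ card_dvd_of_le inf_le_left
  have hle : Nat.card (Cfsg.wOf K ⊓ centralizer (R : Set G) : Subgroup G) ≤ 4 :=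
    Nat.le_of_dvd (by norm_num) hdvd
  have hne4 : Nat.card (Cfsg.wOf K ⊓ centralizer (R : Set G) : Subgroup G) ≠ 4 := by
    intro h4
    apply hn
    have h5 : Cfsg.wOf K ⊓ centralizer (R : Set G) = Cfsg.wOf K :=
      eq_of_le_of_card_ge inf_le_left (by rw [hW4, h4])
    exact le_centralizer_iff.mp (inf_eq_left.mp h5)
  unfold Nat.ModEq at h1
  interval_cases hc : Nat.card (Cfsg.wOf K ⊓ centralizer (R : Set G) : Subgroup G) <;> simp_all

end JS

end Cfsg.Agent.Lib.Helper48
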