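import Cfsg.Agent.Lib.Helper48.JC10

/-!
`J(T)`-components: a largest elementary abelian subgroup acting on `W_K`.
-/

set_option autoImplicit false

namespace Cfsg.Agent.Lib.Helper48

open Subgroup
open scoped commutatorElement
open Cfsg.Agent.Lib.Helper22 (conjS mem_conjS conjS_mem conjS_mul conjS_one conjS_eq_of_mem_normalizer)
open Cfsg.Agent.Lib.Helper47 (IsSylowIn)
open Cfsg.Agent.Lib.Helper11 (IsMaxIn)

universe u

variable {G : Type u} [Group G]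

structure JA (T K S : Subgroup G) (d : G) (A : Subgroup G) (a₁ : G) : Prop where
  js : JS T K S d
  hA : MEA T A
  ha : a₁ ∈ A
  haW : a₁ ∉ centralizer (Cfsg.wOf K : Set G)

variable [Finite G] {T K S A : Subgroup G} {d a₁ : G}

theorem JS.exists_ja (h : JS T K S d) : ∃ A a₁, JA T K S d A a₁ := by
  by_contra hcon
  push Not at hcon
  apply h.J_not_le
  rw [J_le_iff]
  intro A hA a ha
  by_contra haW
  exact hcon A a ⟨h, hA, ha, haW⟩

namespace JA

theorem A_le_J (h : JA T K S d A a₁) : A ≤ Cfsg.thompsonSubgroupOf 2 T := h.hA.le_J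

theorem A_le_H (h : JA T K S d A a₁) : A ≤ K ⊔ Cfsg.thompsonSubgroupOf 2 T :=
  h.A_le_J.trans le_sup_right

theorem A_le_W (h : JA T K S d A a₁) : A ≤ normalizer (Cfsg.wOf K : Set G) :=
  h.A_le_H.trans h.js.H_le_W

theorem isPGroup_A (h : JA T K S d A a₁) : IsPGroup 2 A := h.js.isPGroup_J.to_le h.A_le_J

theorem comm_A (h : JA T K S d A a₁) : ∀ x ∈ A, ∀ y ∈ A, x * y = y * x :=
  (Cfsg.Agent.Lib.Helper10.isEA_iff.mp h.hA.2.1).1

theorem A_le_cent (h : JA T K S d A a₁) : A ≤ centralizer (A : Set G) := by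
  intro x hx
  rw [mem_centralizer_iff]
  intro y hy
  exact h.comm_A y hy x hx

theorem card_Z1 (h : JA T K S d A a₁) :
    Nat.card (Cfsg.wOf K ⊓ centralizer (A : Set G) : Subgroup G) = 2 :=
  h.js.card_inf_cent_of h.isPGroup_A h.A_le_W (fun hle => h.haW (hle h.ha))

theorem isEA_W (h : JA T K S d A a₁) : Cfsg.IsElementaryAbelian 2 (Cfsg.wOf K) := by
  rw [Cfsg.Agent.Lib.Helper10.isEA_iff]
  refine ⟨?_, fun w hw => by rw [pow_two]; exact h.js.hK.2.2.2.2.2 w hw⟩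
  intro x hx y hy
  exact (mem_centralizer_iff.mp (JS.P_le_cent K (JS.W_le_P K hx)) y hy).symm

theorem card_A_le (h : JA T K S d A a₁) :
    Nat.card A ≤ 2 * Nat.card (A ⊓ centralizer (Cfsg.wOf K : Set G) : Subgroup G) := by
  set Z₁ := Cfsg.wOf K ⊓ centralizer (A : Set G) with hZ₁
  have hW4 := h.js.hK.2.2.2.2.1
  have hZ2 : Nat.card Z₁ = 2 := h.card_Z1
  have hex : ∃ w₁ ∈ Cfsg.wOf K, w₁ ∉ Z₁ := by
    by_contra hcon
    push Not at hcon
    have : Cfsg.wOf K ≤ Z₁ := hcon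
    have h2 := card_le_of_le this
    omega
  obtain ⟨w₁, hw₁, hw₁Z⟩ := hex
  have hidx : (Z₁.subgroupOf (Cfsg.wOf K)).index = 2 := by
    have h1 := relIndex_mul_relIndex ⊥ Z₁ (Cfsg.wOf K) bot_le inf_le_left
    rw [relIndex_bot_left, relIndex_bot_left, hZ2, hW4] at h1
    change Z₁.relIndex (Cfsg.wOf K) = 2
    omega
  have hcomm : ∀ a ∈ A, ⁅w₁, a⁆ ∈ Z₁ := by
    intro a ha
    have haN := h.A_le_W ha
    have hy : a * w₁⁻¹ * a⁻¹ ∈ Cfsg.wOf K := (mem_normalizer_iff.mp haN _).mp (inv_mem hw₁)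
    have hyZ : a * w₁⁻¹ * a⁻¹ ∉ Z₁ := by
      intro hyZ
      apply hw₁Z
      have h3 := mem_centralizer_iff.mp (mem_inf.mp hyZ).2 a ha
      have h4 : a * w₁⁻¹ * a⁻¹ = w₁⁻¹ := by
        have : a * (a * w₁⁻¹ * a⁻¹) = a * w₁⁻¹ := by rw [h3]; group
        exact mul_left_cancel this
      rw [h4] at hyZ
      exact (inv_mem_iff (H := Z₁)).mp hyZ
    have h5 := (mul_mem_iff_of_index_two hidx (a := ⟨w₁, hw₁⟩) (b := ⟨a * w₁⁻¹ * a⁻¹, hy⟩)).mpr
      (by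
        constructor
        · intro h6; exact absurd (mem_subgroupOf.mp h6) hw₁Z
        · intro h6; exact absurd (mem_subgroupOf.mp h6) hyZ)
    have h6 : w₁ * (a * w₁⁻¹ * a⁻¹) ∈ Z₁ := mem_subgroupOf.mp h5
    have e : ⁅w₁, a⁆ = w₁ * (a * w₁⁻¹ * a⁻¹) := by rw [commutatorElement_def]; group
    rwa [e]
  have h1 := card_le_mul_card_centralizer hcomm (le_centralizer_iff.mp inf_le_right)
  rw [hZ2] at h1
  refine h1.trans (Nat.mul_le_mul_left _ (card_le_of_le ?_))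
  have hsup : Z₁ ⊔ zpowers w₁ = Cfsg.wOf K := by
    have hle : Z₁ ⊔ zpowers w₁ ≤ Cfsg.wOf K := sup_le inf_le_left (zpowers_le.mpr hw₁)
    have hdvd1 : Nat.card Z₁ ∣ Nat.card (Z₁ ⊔ zpowers w₁ : Subgroup G) := card_dvd_of_le le_sup_left
    have hdvd2 : Nat.card (Z₁ ⊔ zpowers w₁ : Subgroup G) ∣ 4 := hW4 ▸ card_dvd_of_le hle
    have hne : Nat.card (Z₁ ⊔ zpowers w₁ : Subgroup G) ≠ 2 := by
      intro h2
      apply hw₁Z
      have : Z₁ = Z₁ ⊔ zpowers w₁ := eq_of_le_of_card_ge le_sup_left (by rw [h2, hZ2])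
      rw [this]
      exact mem_sup_right (mem_zpowers _)
    apply eq_of_le_of_card_ge hle
    rw [hW4]
    rw [hZ2] at hdvd1
    have hle4 : Nat.card (Z₁ ⊔ zpowers w₁ : Subgroup G) ≤ 4 := Nat.le_of_dvd (by norm_num) hdvd2
    interval_cases hc : Nat.card (Z₁ ⊔ zpowers w₁ : Subgroup G) <;> simp_all
  intro a ha
  obtain ⟨haA, haw⟩ := mem_inf.mp ha
  refine mem_inf.mpr ⟨haA, ?_⟩
  rw [← hsup]
  apply mem_centralizer_sup
  · exact le_centralizer_iff.mp inf_le_right haA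
  · rw [centralizer_zpowers_eq']
    exact haw

/-- `B' = C_A(W) W` -/
abbrev Bp (K A : Subgroup G) : Subgroup G := (A ⊓ centralizer (Cfsg.wOf K : Set G)) ⊔ Cfsg.wOf K

theorem isEA_Bp (h : JA T K S d A a₁) : Cfsg.IsElementaryAbelian 2 (Bp K A) :=
  Cfsg.Agent.Lib.Helper10.IsEA.sup (Cfsg.Agent.Lib.Helper10.IsEA.mono h.hA.2.1 inf_le_left) h.isEA_W
    (fun a ha b hb => (mem_centralizer_iff.mp (mem_inf.mp ha).2 b hb).symm)

theorem Bp_le_QH (h : JA T K S d A a₁) :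
    Bp K A ≤ (K ⊔ Cfsg.thompsonSubgroupOf 2 T) ⊓ centralizer (Cfsg.wOf K : Set G) := by
  apply sup_le
  · exact inf_le_inf_right _ h.A_le_H
  · exact le_inf ((JS.W_le_P K).trans ((Cfsg.Agent.Lib.Helper49.pCoreOf_le 2 K).trans le_sup_left))
      ((JS.W_le_P K).trans (JS.P_le_cent K))

theorem card_Bp (h : JA T K S d A a₁) : Nat.card A ≤ Nat.card (Bp K A) := by
  have h1 := Cfsg.Agent.Lib.Helper10.card_sup_mul_card_inf
    (A ⊓ centralizer (Cfsg.wOf K : Set G)) (Cfsg.wOf K)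
    (inf_le_right.trans (centralizer_le_normalizer _))
  rw [h.js.hK.2.2.2.2.1] at h1
  have h2 : Nat.card ((A ⊓ centralizer (Cfsg.wOf K : Set G)) ⊓ Cfsg.wOf K : Subgroup G) ≤ 2 := by
    rw [← h.card_Z1]
    apply card_le_of_le
    exact le_inf inf_le_right ((inf_le_left.trans inf_le_left).trans h.A_le_cent)
  have h3 := h.card_A_le
  have h4 : Nat.card (Bp K A) * Nat.card ((A ⊓ centralizer (Cfsg.wOf K : Set G)) ⊓ Cfsg.wOf K :
      Subgroup G) ≤ Nat.card (Bp K A) * 2 := Nat.mul_le_mul_left _ h2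
  change Nat.card (Bp K A) * _ = _ at h1
  omega

theorem mea_conj_Bp (h : JA T K S d A a₁) {g : G} (hg : g ∈ K ⊔ Cfsg.thompsonSubgroupOf 2 T) :
    MEA T (conjS g (Bp K A)) := by
  apply h.js.mea_T
  refine ⟨?_, Cfsg.Agent.Lib.Helper10.IsEA.map h.isEA_Bp _, ?_⟩
  · refine LE.le.trans ?_ h.js.QH_le_S
    have h1 := map_mono (f := (MulAut.conj g).toMonoidHom) h.Bp_le_QH
    change conjS g _ ≤ conjS g _ at h1
    rwa [conjS_eq_of_mem_normalizer (h.js.H_le_QH hg)] at h1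
  · intro C hC hC'
    rw [card_conjS]
    exact ((h.js.mea_S h.hA).2.2 C hC hC').trans h.card_Bp

end JA

end Cfsg.Agent.Lib.Helper48
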