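import Cfsg.Agent.Lib.Helper48.JC11

/-!
`J(T)`-components: the normal elementary abelian subgroup `N` of `K J(T)` and `[N, K] ≤ W_K`.
-/

set_option autoImplicit false

namespace Cfsg.Agent.Lib.Helper48

open Subgroup
open scoped commutatorElement
open Cfsg.Agent.S2909 (trivOn conj_mem_trivOn)
open Cfsg.Agent.Lib.Helper22 (conjS mem_conjS conjS_mem conjS_mul conjS_one conjS_eq_of_mem_normalizer)
open Cfsg.Agent.Lib.Helper47 (IsSylowIn)
open Cfsg.Agent.Lib.Helper11 (IsMaxIn)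

universe u

variable {G : Type u} [Group G]

theorem omegaCenterOf_J_le [Finite G] {T A : Subgroup G} (hA : MEA T A) :
    Cfsg.omegaCenterOf (Cfsg.thompsonSubgroupOf 2 T) ≤ A := by
  have h1 := Cfsg.Agent.Lib.Helper51.omegaOne_centerThompsonOf_eq 2 T
  change Cfsg.omegaOne 2 (Cfsg.centerThompsonOf 2 T) ≤ A
  rw [h1]
  exact Cfsg.Agent.Lib.Helper11.interMax_le_of_isMaxIn hA

/-- the core of `B'` in `K J(T)` -/
def NN (T K A : Subgroup G) : Subgroup G :=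
  ⨅ g : ↥(K ⊔ Cfsg.thompsonSubgroupOf 2 T), conjS (g : G) (JA.Bp K A)

theorem NN_le_Bp (T K A : Subgroup G) : NN T K A ≤ JA.Bp K A := by
  have h1 := iInf_le (fun g : ↥(K ⊔ Cfsg.thompsonSubgroupOf 2 T) => conjS (g : G) (JA.Bp K A)) 1
  simp only [OneMemClass.coe_one, conjS_one] at h1
  exact h1

theorem H_le_normalizer_NN [Finite G] (T K A : Subgroup G) :
    K ⊔ Cfsg.thompsonSubgroupOf 2 T ≤ normalizer (NN T K A : Set G) := by
  intro h hh
  apply Cfsg.Agent.Lib.Helper50.mem_normalizer_of_map_conj_le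
  rintro _ ⟨x, hx, rfl⟩
  unfold NN
  rw [mem_iInf]
  intro g
  have h1 : x ∈ conjS (h⁻¹ * g) (JA.Bp K A) :=
    (mem_iInf.mp hx) ⟨h⁻¹ * g, mul_mem (inv_mem hh) g.2⟩
  have h2 : h * x * h⁻¹ ∈ conjS h (conjS (h⁻¹ * g) (JA.Bp K A)) := conjS_mem h1
  rw [← conjS_mul, mul_inv_cancel_left] at h2
  exact h2

variable [Finite G] {T K S A : Subgroup G} {d a₁ : G}

namespace JA

theorem Z0_le_NN (h : JA T K S d A a₁) :
    Cfsg.omegaCenterOf (Cfsg.thompsonSubgroupOf 2 T) ≤ NN T K A :=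
  le_iInf (fun g => omegaCenterOf_J_le (h.mea_conj_Bp g.2))

theorem W_le_NN (h : JA T K S d A a₁) : Cfsg.wOf K ≤ NN T K A := by
  apply le_iInf
  intro g
  have h1 : conjS (g : G) (Cfsg.wOf K) ≤ conjS (g : G) (Bp K A) := map_mono le_sup_right
  rwa [conjS_eq_of_mem_normalizer (h.js.H_le_W g.2)] at h1

theorem isEA_NN (h : JA T K S d A a₁) : Cfsg.IsElementaryAbelian 2 (NN T K A) :=
  Cfsg.Agent.Lib.Helper10.IsEA.mono h.isEA_Bp (NN_le_Bp T K A)

theorem comm_Bp (h : JA T K S d A a₁) : ∀ x ∈ Bp K A, ∀ y ∈ Bp K A, x * y = y * x :=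
  (Cfsg.Agent.Lib.Helper10.isEA_iff.mp h.isEA_Bp).1

theorem NN_le_J (h : JA T K S d A a₁) : NN T K A ≤ Cfsg.thompsonSubgroupOf 2 T := by
  refine (NN_le_Bp T K A).trans ?_
  have h1 := (h.mea_conj_Bp (one_mem _)).le_J
  rwa [conjS_one] at h1

theorem card_NN_le (h : JA T K S d A a₁) :
    Nat.card (NN T K A) ≤ 2 * Nat.card (NN T K A ⊓ centralizer ({a₁} : Set G) : Subgroup G) := by
  have hc : A ⊓ centralizer (Cfsg.wOf K : Set G) ≤ centralizer (NN T K A : Set G) := by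
    intro a ha
    rw [mem_centralizer_iff]
    intro n hn
    exact h.comm_Bp n (NN_le_Bp T K A hn) a (mem_sup_left ha)
  have h1 := (h.js.mea_S h.hA).card_mul_le (A' := A ⊓ centralizer (Cfsg.wOf K : Set G))
    inf_le_left (h.NN_le_J.trans h.js.J_le_S) h.isEA_NN hc
  have h2 := h.card_A_le
  have h3 : Nat.card ((A ⊓ centralizer (Cfsg.wOf K : Set G)) ⊓ NN T K A : Subgroup G) ≤
      Nat.card (NN T K A ⊓ centralizer ({a₁} : Set G) : Subgroup G) := by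
    apply card_le_of_le
    refine le_inf inf_le_right ?_
    intro x hx
    rw [mem_centralizer_singleton_iff]
    exact h.comm_A x (mem_inf.mp (mem_inf.mp hx).1).1 a₁ h.ha
  have hpos : 0 < Nat.card (A ⊓ centralizer (Cfsg.wOf K : Set G) : Subgroup G) := Nat.card_pos
  have h4 : Nat.card (A ⊓ centralizer (Cfsg.wOf K : Set G) : Subgroup G) * Nat.card (NN T K A) ≤
      Nat.card (A ⊓ centralizer (Cfsg.wOf K : Set G) : Subgroup G) *
        (2 * Nat.card (NN T K A ⊓ centralizer ({a₁} : Set G) : Subgroup G)) := by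
    calc _ ≤ Nat.card A * Nat.card ((A ⊓ centralizer (Cfsg.wOf K : Set G)) ⊓ NN T K A :
          Subgroup G) := h1
      _ ≤ (2 * Nat.card (A ⊓ centralizer (Cfsg.wOf K : Set G) : Subgroup G)) *
          Nat.card (NN T K A ⊓ centralizer ({a₁} : Set G) : Subgroup G) := Nat.mul_le_mul h2 h3
      _ = _ := by ring
  exact Nat.le_of_mul_le_mul_left h4 hpos

theorem NN_eq_sup (h : JA T K S d A a₁) :
    (NN T K A ⊓ centralizer ({a₁} : Set G)) ⊔ Cfsg.wOf K = NN T K A := by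
  have hle : (NN T K A ⊓ centralizer ({a₁} : Set G)) ⊔ Cfsg.wOf K ≤ NN T K A :=
    sup_le inf_le_left h.W_le_NN
  apply eq_of_le_of_card_ge hle
  refine h.card_NN_le.trans ?_
  obtain ⟨k, hk⟩ := card_dvd_of_le (le_sup_left :
    NN T K A ⊓ centralizer ({a₁} : Set G) ≤ (NN T K A ⊓ centralizer ({a₁} : Set G)) ⊔ Cfsg.wOf K)
  rw [hk, mul_comm]
  apply Nat.mul_le_mul_left
  have hpos : 0 < Nat.card ((NN T K A ⊓ centralizer ({a₁} : Set G)) ⊔ Cfsg.wOf K : Subgroup G) :=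
    Nat.card_pos
  rcases k with _ | _ | k
  · rw [mul_zero] at hk; omega
  · exfalso
    rw [zero_add, mul_one] at hk
    have h1 : NN T K A ⊓ centralizer ({a₁} : Set G) =
        (NN T K A ⊓ centralizer ({a₁} : Set G)) ⊔ Cfsg.wOf K :=
      eq_of_le_of_card_ge le_sup_left hk.le
    apply h.haW
    have h2 : Cfsg.wOf K ≤ centralizer ({a₁} : Set G) := by
      have h3 : Cfsg.wOf K ≤ NN T K A ⊓ centralizer ({a₁} : Set G) := by
        rw [h1]; exact le_sup_right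
      exact h3.trans inf_le_right
    rw [mem_centralizer_iff]
    intro w hw
    exact (mem_centralizer_singleton_iff.mp (h2 hw))
  · omega

theorem a_mem_trivOn (h : JA T K S d A a₁) : a₁ ∈ trivOn (NN T K A) (Cfsg.wOf K) := by
  have haN := h.A_le_W h.ha
  refine ⟨haN, ?_⟩
  intro n hn
  rw [← h.NN_eq_sup] at hn
  have hcomm := (Cfsg.Agent.Lib.Helper10.isEA_iff.mp h.isEA_NN).1
  have hWN : Cfsg.wOf K ≤ normalizer ((NN T K A ⊓ centralizer ({a₁} : Set G) : Subgroup G) : Set G) := by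
    refine LE.le.trans ?_ (centralizer_le_normalizer _)
    intro w hw
    rw [mem_centralizer_iff]
    intro x hx
    exact hcomm x (mem_inf.mp hx).1 w (h.W_le_NN hw)
  obtain ⟨n₁, hn₁, w, hw, rfl⟩ := (Cfsg.Agent.Lib.Helper22.mem_sup_of_le_normalizer hWN).mp hn
  obtain ⟨hn₁N, hn₁c⟩ := mem_inf.mp hn₁
  rw [mem_centralizer_singleton_iff] at hn₁c
  have hv : a₁ * w * a₁⁻¹ * w⁻¹ ∈ Cfsg.wOf K :=
    mul_mem ((mem_normalizer_iff.mp haN w).mp hw) (inv_mem hw)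
  have e : a₁ * (n₁ * w) * a₁⁻¹ * (n₁ * w)⁻¹ = n₁ * (a₁ * w * a₁⁻¹ * w⁻¹) * n₁⁻¹ := by
    calc a₁ * (n₁ * w) * a₁⁻¹ * (n₁ * w)⁻¹ = (a₁ * n₁) * w * a₁⁻¹ * w⁻¹ * n₁⁻¹ := by group
      _ = (n₁ * a₁) * w * a₁⁻¹ * w⁻¹ * n₁⁻¹ := by rw [hn₁c]
      _ = _ := by group
  rw [e, hcomm n₁ hn₁N _ (h.W_le_NN hv), mul_inv_cancel_right]
  exact hv

/-- `[d, a₁] ∉ O_2(K)` -/
theorem comm_not_mem (h : JA T K S d A a₁) : ⁅d, a₁⁆ ∉ Cfsg.pCoreOf 2 K := by
  intro hg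
  have hgC := JS.P_le_cent K hg
  apply h.haW
  have haN := h.A_le_W h.ha
  have hdN : d ∈ normalizer (Cfsg.wOf K : Set G) := h.js.H_le_W (mem_sup_left h.js.hd.hdK)
  set Y := Cfsg.wOf K ⊓ centralizer ({a₁} : Set G) with hY
  have hY1 : Y ≠ ⊥ := by
    intro hbot
    have h1 := h.card_Z1
    have h2 : Cfsg.wOf K ⊓ centralizer (A : Set G) ≤ Y := by
      apply inf_le_inf_left
      apply centralizer_le
      intro x hx
      rw [Set.mem_singleton_iff.mp hx]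
      exact h.ha
    rw [hbot, le_bot_iff] at h2
    rw [h2, card_bot] at h1
    norm_num at h1
  have hdY : d ∈ normalizer (Y : Set G) := by
    apply Cfsg.Agent.Lib.Helper50.mem_normalizer_of_map_conj_le
    rintro _ ⟨w, hw, rfl⟩
    obtain ⟨hwW, hwc⟩ := mem_inf.mp hw
    rw [mem_centralizer_singleton_iff] at hwc
    have hdw : d * w * d⁻¹ ∈ Cfsg.wOf K := (mem_normalizer_iff.mp hdN w).mp hwW
    refine mem_inf.mpr ⟨hdw, ?_⟩
    rw [mem_centralizer_singleton_iff]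
    change d * w * d⁻¹ * a₁ = a₁ * (d * w * d⁻¹)
    have h3 := mem_centralizer_iff.mp hgC _ hdw
    -- `d a₁ d⁻¹ = g a₁`
    have e1 : a₁ * (d * w * d⁻¹) * a₁⁻¹ = ⁅d, a₁⁆⁻¹ * (d * (a₁ * w * a₁⁻¹) * d⁻¹) * ⁅d, a₁⁆ := by
      simp only [commutatorElement_def]
      group
    have e2 : a₁ * w * a₁⁻¹ = w := by rw [← hwc]; group
    rw [e2] at e1
    have e3 : ⁅d, a₁⁆⁻¹ * (d * w * d⁻¹) * ⁅d, a₁⁆ = d * w * d⁻¹ := by
      rw [mul_assoc, h3]; group
    rw [e3] at e1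
    conv_lhs => rw [← e1]
    group
  have h4 := h.js.hd.eq_wOf_of_le h.js.hK.2.2.2.2.1 inf_le_left hY1 hdY
  rw [mem_centralizer_iff]
  intro w hw
  have h5 : w ∈ Y := by rw [hY, h4]; exact hw
  exact mem_centralizer_singleton_iff.mp (mem_inf.mp h5).2

theorem K_le_trivOn (h : JA T K S d A a₁) : K ≤ trivOn (NN T K A) (Cfsg.wOf K) := by
  set TW := trivOn (NN T K A) (Cfsg.wOf K) with hTW
  have hconj : ∀ g ∈ K ⊔ Cfsg.thompsonSubgroupOf 2 T, ∀ t ∈ TW, g * t * g⁻¹ ∈ TW := fun g hg t ht =>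
    conj_mem_trivOn (H_le_normalizer_NN T K A hg) (h.js.H_le_W hg) ht
  have hdH : d ∈ K ⊔ Cfsg.thompsonSubgroupOf 2 T := mem_sup_left h.js.hd.hdK
  have hgT : ⁅d, a₁⁆ ∈ TW := by
    rw [commutatorElement_def]
    exact mul_mem (hconj d hdH a₁ h.a_mem_trivOn) (inv_mem h.a_mem_trivOn)
  have hgK : ⁅d, a₁⁆ ∈ K := by
    have h1 := (mem_normalizer_iff.mp (h.js.H_le (h.A_le_H h.ha)) d⁻¹).mp (inv_mem h.js.hd.hdK)
    have e : ⁅d, a₁⁆ = d * (a₁ * d⁻¹ * a₁⁻¹) := by rw [commutatorElement_def]; group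
    rw [e]
    exact mul_mem h.js.hd.hdK h1
  set P := Cfsg.pCoreOf 2 K with hP
  have hPK : P ≤ K := Cfsg.Agent.Lib.Helper49.pCoreOf_le 2 K
  have hsup : P ⊔ zpowers ⁅d, a₁⁆ = K := by
    have hle : P ⊔ zpowers ⁅d, a₁⁆ ≤ K := sup_le hPK (zpowers_le.mpr hgK)
    have h2 := relIndex_mul_relIndex P _ K le_sup_left hle
    rw [h.js.hK.2.2.1] at h2
    have h5 : P.relIndex (P ⊔ zpowers ⁅d, a₁⁆) ≠ 1 := by
      intro h6
      exact h.comm_not_mem (relIndex_eq_one.mp h6 (mem_sup_right (mem_zpowers _)))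
    have h6 : P.relIndex (P ⊔ zpowers ⁅d, a₁⁆) = 3 :=
      ((Nat.dvd_prime Nat.prime_three).mp (Dvd.intro _ h2)).resolve_left h5
    rw [h6] at h2
    have h7 : (P ⊔ zpowers ⁅d, a₁⁆).relIndex K = 1 := by omega
    exact le_antisymm hle (relIndex_eq_one.mp h7)
  have hKn : K ≤ normalizer ((K ⊓ TW : Subgroup G) : Set G) := by
    intro k hk
    apply Cfsg.Agent.Lib.Helper50.mem_normalizer_of_map_conj_le
    rintro _ ⟨x, hx, rfl⟩
    obtain ⟨hxK, hxT⟩ := mem_inf.mp hx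
    exact mem_inf.mpr ⟨mul_mem (mul_mem hk hxK) (inv_mem hk), hconj k (mem_sup_left hk) x hxT⟩
  have hK2 : K ≤ (K ⊓ TW) ⊔ P := by
    conv_lhs => rw [← hsup]
    exact sup_le le_sup_right ((zpowers_le.mpr (mem_inf.mpr ⟨hgK, hgT⟩)).trans le_sup_left)
  refine LE.le.trans ?_ (inf_le_right : K ⊓ TW ≤ TW)
  apply le_of_odd_gen h.js.hK.1
  intro g hg hodd
  exact mem_of_odd_of_mem_sup (Cfsg.Agent.Lib.Helper49.pCoreOf_isPGroup 2 K) (hPK.trans hKn)
    (hK2 hg) hodd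

theorem comm_NN_K (h : JA T K S d A a₁) : ⁅NN T K A, K⁆ ≤ Cfsg.wOf K :=
  commutator_le_of_le_trivOn h.K_le_trivOn

end JA

end Cfsg.Agent.Lib.Helper48
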