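import Cfsg.Agent.Lib.Helper48.JC13

/-!
An `S_3`-module argument: a largest elementary abelian subgroup and a module without fixed points.
-/

set_option autoImplicit false

namespace Cfsg.Agent.Lib.Helper48

open Subgroup
open scoped commutatorElement
open Cfsg.Agent.S2909 (trivOn)
open Cfsg.Agent.Lib.Helper22 (conjS mem_conjS conjS_mem conjS_mul conjS_one conjS_eq_of_mem_normalizer)
open Cfsg.Agent.Lib.Helper11 (IsMaxIn)

universe u

variable {G : Type u} [Group G]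

/-- the elements whose action on `U` commutes with the action of `d` -/
def commOn (U : Subgroup G) (d : G) : Subgroup G where
  carrier := {g | g ∈ normalizer (U : Set G) ∧
    ∀ u ∈ U, g * (d * u * d⁻¹) * g⁻¹ = d * (g * u * g⁻¹) * d⁻¹}
  one_mem' := ⟨one_mem _, fun u _ => by simp⟩
  mul_mem' := by
    rintro g g' ⟨hg, hg2⟩ ⟨hg', hg2'⟩
    refine ⟨mul_mem hg hg', fun u hu => ?_⟩
    have h1 : g' * u * g'⁻¹ ∈ U := (mem_normalizer_iff.mp hg' u).mp hu
    calc g * g' * (d * u * d⁻¹) * (g * g')⁻¹ = g * (g' * (d * u * d⁻¹) * g'⁻¹) * g⁻¹ := by group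
      _ = g * (d * (g' * u * g'⁻¹) * d⁻¹) * g⁻¹ := by rw [hg2' u hu]
      _ = d * (g * (g' * u * g'⁻¹) * g⁻¹) * d⁻¹ := hg2 _ h1
      _ = _ := by group
  inv_mem' := by
    rintro g ⟨hg, hg2⟩
    refine ⟨inv_mem hg, fun u hu => ?_⟩
    have h1 : g⁻¹ * u * g⁻¹⁻¹ ∈ U := (mem_normalizer_iff.mp (inv_mem hg) u).mp hu
    have h2 := hg2 _ h1
    have e : g * (g⁻¹ * u * g⁻¹⁻¹) * g⁻¹ = u := by group
    rw [e] at h2
    rw [← h2]
    group

theorem two_mul_card_le_of_lt [Finite G] {H K : Subgroup G} (h : H < K) :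
    2 * Nat.card H ≤ Nat.card K := by
  obtain ⟨k, hk⟩ := card_dvd_of_le h.le
  have hpos : 0 < Nat.card K := Nat.card_pos
  rcases k with _ | _ | k
  · rw [mul_zero] at hk
    exact absurd hk hpos.ne'
  · exfalso
    rw [zero_add, mul_one] at hk
    exact absurd (eq_of_le_of_card_ge h.le hk.le) h.ne
  · rw [hk, mul_comm]
    exact Nat.mul_le_mul_left _ (by omega)

/-- the pairing lemma -/
theorem card_pairing_aux [Finite G] {A X Z : Subgroup G} (h1 : ∀ x ∈ X, ∀ a ∈ A, ⁅x, a⁆ ∈ Z)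
    (h2 : A ≤ centralizer (Z : Set G)) (hZ : Nat.card Z ≤ 2) :
    ∀ (n : ℕ) (X' : Subgroup G), X' ≤ X → Nat.card X - Nat.card X' ≤ n →
      Nat.card (A ⊓ centralizer (X' : Set G) : Subgroup G) * Nat.card X' ≤
        Nat.card (A ⊓ centralizer (X : Set G) : Subgroup G) * Nat.card X := by
  intro n
  induction n with
  | zero =>
    intro X' hX' hn
    have h3 : X' = X := eq_of_le_of_card_ge hX' (by omega)
    rw [h3]
  | succ n ih =>
    intro X' hX' hn
    by_cases hXX : X ≤ X'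
    · rw [le_antisymm hX' hXX]
    obtain ⟨x, hx, hxX'⟩ := SetLike.not_le_iff_exists.mp hXX
    set X'' := X' ⊔ zpowers x with hX''
    have hle : X'' ≤ X := sup_le hX' (zpowers_le.mpr hx)
    have hcard : 2 * Nat.card X' ≤ Nat.card X'' := by
      apply two_mul_card_le_of_lt
      refine lt_of_le_of_ne le_sup_left ?_
      intro h4
      exact hxX' (h4 ▸ mem_sup_right (mem_zpowers x))
    have hpos' : 0 < Nat.card X' := Nat.card_pos
    have hlecard : Nat.card X'' ≤ Nat.card X := card_le_of_le hle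
    have ih' := ih X'' hle (by omega)
    have h5 := card_le_mul_card_centralizer (A := A ⊓ centralizer (X' : Set G)) (Z := Z) (x := x)
      (fun a ha => h1 x hx a (mem_inf.mp ha).1) (inf_le_left.trans h2)
    have h6 : (A ⊓ centralizer (X' : Set G)) ⊓ centralizer ({x} : Set G) ≤
        A ⊓ centralizer (X'' : Set G) := by
      intro a ha
      obtain ⟨ha1, ha2⟩ := mem_inf.mp ha
      obtain ⟨ha3, ha4⟩ := mem_inf.mp ha1
      refine mem_inf.mpr ⟨ha3, mem_centralizer_sup ha4 ?_⟩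
      rw [centralizer_zpowers_eq']
      exact ha2
    have h7 := card_le_of_le h6
    calc Nat.card (A ⊓ centralizer (X' : Set G) : Subgroup G) * Nat.card X'
        ≤ (Nat.card Z * Nat.card ((A ⊓ centralizer (X' : Set G)) ⊓ centralizer ({x} : Set G) :
            Subgroup G)) * Nat.card X' := Nat.mul_le_mul_right _ h5
      _ ≤ (2 * Nat.card (A ⊓ centralizer (X'' : Set G) : Subgroup G)) * Nat.card X' :=
          Nat.mul_le_mul_right _ (Nat.mul_le_mul hZ h7)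
      _ = Nat.card (A ⊓ centralizer (X'' : Set G) : Subgroup G) * (2 * Nat.card X') := by ring
      _ ≤ Nat.card (A ⊓ centralizer (X'' : Set G) : Subgroup G) * Nat.card X'' :=
          Nat.mul_le_mul_left _ hcard
      _ ≤ _ := ih'

theorem card_pairing [Finite G] {A X Z : Subgroup G} (h1 : ∀ x ∈ X, ∀ a ∈ A, ⁅x, a⁆ ∈ Z)
    (h2 : A ≤ centralizer (Z : Set G)) (hZ : Nat.card Z ≤ 2) :
    Nat.card A * Nat.card (X ⊓ centralizer (A : Set G) : Subgroup G) ≤
      Nat.card (A ⊓ centralizer (X : Set G) : Subgroup G) * Nat.card X := by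
  have h3 := card_pairing_aux h1 h2 hZ (Nat.card X) (X ⊓ centralizer (A : Set G)) inf_le_left
    (Nat.sub_le _ _)
  have h4 : A ⊓ centralizer ((X ⊓ centralizer (A : Set G) : Subgroup G) : Set G) = A :=
    inf_eq_left.mpr (le_centralizer_iff.mp inf_le_right)
  rwa [h4] at h3

/-- the hypotheses of the `S_3`-module argument -/
structure W4 (S A U : Subgroup G) (d b : G) : Prop where
  hA : MEA S A
  hU : Cfsg.IsElementaryAbelian 2 U
  hUS : U ≤ S
  hdU : d ∈ normalizer (U : Set G)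
  hd3 : d ^ 3 = 1
  hfix : U ⊓ centralizer ({d} : Set G) = ⊥
  hAU : A ≤ normalizer (U : Set G)
  hb : b ∈ A
  hbd : b * d * b⁻¹ = d⁻¹
  hAd : ∀ a ∈ A, a ∈ commOn U d ∨ ∀ u ∈ U, a * (d * u * d⁻¹) * a⁻¹ = d⁻¹ * (a * u * a⁻¹) * d

namespace W4

variable [Finite G] {S A U : Subgroup G} {d b : G}

theorem commU (h : W4 S A U d b) : ∀ x ∈ U, ∀ y ∈ U, x * y = y * x :=
  (Cfsg.Agent.Lib.Helper10.isEA_iff.mp h.hU).1

theorem commA (h : W4 S A U d b) : ∀ x ∈ A, ∀ y ∈ A, x * y = y * x :=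
  (Cfsg.Agent.Lib.Helper10.isEA_iff.mp h.hA.2.1).1

theorem inv_eq (h : W4 S A U d b) {u : G} (hu : u ∈ U) : u⁻¹ = u := by
  have h1 := h.hU.2 u hu
  rw [pow_two] at h1
  exact inv_eq_of_mul_eq_one_left h1

theorem b_inv (h : W4 S A U d b) : b⁻¹ = b := by
  have h1 := h.hA.2.1.2 b h.hb
  rw [pow_two] at h1
  exact inv_eq_of_mul_eq_one_left h1

theorem card_sq_aux (h : W4 S A U d b) {Y : Subgroup G} (hYU : Y ≤ U)
    (hdY : d ∈ normalizer (Y : Set G)) (hbY : b ∈ normalizer (Y : Set G)) :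
    Nat.card Y ≤ Nat.card (Y ⊓ centralizer ({b} : Set G) : Subgroup G) ^ 2 ∧
    Nat.card ((Y ⊓ centralizer ({b} : Set G)) ⊔ conjS d (Y ⊓ centralizer ({b} : Set G)) :
      Subgroup G) = Nat.card (Y ⊓ centralizer ({b} : Set G) : Subgroup G) ^ 2 ∧
    (Y ⊓ centralizer ({b} : Set G)) ⊔ conjS d (Y ⊓ centralizer ({b} : Set G)) ≤ Y := by
  set X := Y ⊓ centralizer ({b} : Set G) with hX
  refine ⟨?_, ?_⟩
  · rw [pow_two]
    apply card_le_mul_card_centralizer (A := Y) (Z := X) (x := b)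
    · intro y hy
      have hy' : b * y * b⁻¹ ∈ Y := (mem_normalizer_iff.mp hbY y).mp hy
      have hv : ⁅b, y⁆ ∈ Y := by
        rw [commutatorElement_def]
        exact mul_mem hy' (inv_mem hy)
      refine mem_inf.mpr ⟨hv, ?_⟩
      rw [mem_centralizer_singleton_iff]
      have e1 : b * ⁅b, y⁆ * b⁻¹ = ⁅b, y⁆⁻¹ := by
        have hb' := h.b_inv
        have e2 : b * ⁅b, y⁆ * b⁻¹ = (b * b) * y * (b⁻¹ * b⁻¹) * (b * y⁻¹ * b⁻¹) := by
          rw [commutatorElement_def]; group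
        have e3 : b * b = 1 := by
          have := h.hA.2.1.2 b h.hb
          rwa [pow_two] at this
        have e4 : b⁻¹ * b⁻¹ = 1 := by rw [hb', e3]
        rw [e2, e3, e4, commutatorElement_def]
        group
      rw [h.inv_eq (hYU hv), mul_inv_eq_iff_eq_mul] at e1
      exact e1.symm
    · intro y hy
      rw [mem_centralizer_iff]
      intro z hz
      exact h.commU z (hYU (mem_inf.mp hz).1) y (hYU hy)
  · have hX' : conjS d X ≤ Y := by
      have h1 : conjS d X ≤ conjS d Y := map_mono inf_le_left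
      rwa [conjS_eq_of_mem_normalizer hdY] at h1
    have hdisj : X ⊓ conjS d X = ⊥ := by
      rw [eq_bot_iff]
      intro u hu
      obtain ⟨hu1, ⟨x, hx, hxu⟩⟩ := mem_inf.mp hu
      obtain ⟨hxY, hxb⟩ := mem_inf.mp hx
      obtain ⟨huY, hub⟩ := mem_inf.mp hu1
      rw [mem_centralizer_singleton_iff] at hxb hub
      have hxu' : d * x * d⁻¹ = u := hxu
      have e1 : b * u * b⁻¹ = u := by rw [← hub]; group
      have e2 : b * x * b⁻¹ = x := by rw [← hxb]; group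
      have e3 : b * u * b⁻¹ = d⁻¹ * x * d := by
        calc b * u * b⁻¹ = (b * d * b⁻¹) * (b * x * b⁻¹) * (b * d * b⁻¹)⁻¹ := by
              rw [← hxu']; group
          _ = d⁻¹ * x * d := by rw [h.hbd, e2, inv_inv]
      have e4 : d * x * d⁻¹ = d⁻¹ * x * d := by rw [hxu', ← e3, e1]
      have hd3' : d * d * d = 1 := by
        have := h.hd3
        rwa [pow_succ, pow_succ, pow_one] at this
      have e6 : x * d = d * x := by
        have e7 : d * (d * x * d⁻¹) * d = d * (d⁻¹ * x * d) * d := by rw [e4]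
        have e8 : d * d * x = x * d * d := by
          calc d * d * x = d * (d * x * d⁻¹) * d := by group
            _ = d * (d⁻¹ * x * d) * d := e7
            _ = x * d * d := by group
        have e9 : d * (d * d * x) = (x * d * d) * d := by
          calc d * (d * d * x) = (d * d * d) * x := by group
            _ = x * (d * d * d) := by rw [hd3', one_mul, mul_one]
            _ = (x * d * d) * d := by group
        rw [e8] at e9
        have e10 : d * x * (d * d) = x * d * (d * d) := by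
          calc d * x * (d * d) = d * (x * d * d) := by group
            _ = x * d * d * d := e9
            _ = _ := by group
        exact (mul_right_cancel e10).symm
      have hx1 : x ∈ U ⊓ centralizer ({d} : Set G) :=
        mem_inf.mpr ⟨hYU hxY, mem_centralizer_singleton_iff.mpr e6⟩
      rw [h.hfix, mem_bot] at hx1
      rw [mem_bot, ← hxu', hx1]
      group
    have hn : X ≤ normalizer ((conjS d X : Subgroup G) : Set G) := by
      refine LE.le.trans ?_ (centralizer_le_normalizer _)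
      intro x hx
      rw [mem_centralizer_iff]
      intro z hz
      exact h.commU z (hYU (hX' hz)) x (hYU (mem_inf.mp hx).1)
    have h1 := Cfsg.Agent.Lib.Helper10.card_sup_mul_card_inf X (conjS d X) hn
    rw [hdisj, card_bot, mul_one, card_conjS] at h1
    rw [pow_two]
    exact ⟨h1, sup_le inf_le_left hX'⟩

theorem card_sq (h : W4 S A U d b) {Y : Subgroup G} (hYU : Y ≤ U)
    (hdY : d ∈ normalizer (Y : Set G)) (hbY : b ∈ normalizer (Y : Set G)) :
    Nat.card Y = Nat.card (Y ⊓ centralizer ({b} : Set G) : Subgroup G) ^ 2 := by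
  obtain ⟨h1, h2, h3⟩ := h.card_sq_aux hYU hdY hbY
  exact le_antisymm h1 (h2 ▸ card_le_of_le h3)

theorem sup_conj_eq (h : W4 S A U d b) {Y : Subgroup G} (hYU : Y ≤ U)
    (hdY : d ∈ normalizer (Y : Set G)) (hbY : b ∈ normalizer (Y : Set G)) :
    (Y ⊓ centralizer ({b} : Set G)) ⊔ conjS d (Y ⊓ centralizer ({b} : Set G)) = Y := by
  obtain ⟨h1, h2, h3⟩ := h.card_sq_aux hYU hdY hbY
  exact eq_of_le_of_card_ge h3 (h2 ▸ h1)

/-- `A₀` -/
abbrev A0 (A U : Subgroup G) (d : G) : Subgroup G := A ⊓ commOn U d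

theorem card_A_le (h : W4 S A U d b) : Nat.card A ≤ 2 * Nat.card (A0 A U d) := by
  have hbU := h.hAU h.hb
  have h1 : A ≤ A0 A U d ⊔ zpowers b := by
    intro a ha
    rcases h.hAd a ha with h2 | h2
    · exact mem_sup_left (mem_inf.mpr ⟨ha, h2⟩)
    · have h3 : a * b ∈ A0 A U d := by
        refine mem_inf.mpr ⟨mul_mem ha h.hb, mul_mem (h.hAU ha) hbU, ?_⟩
        intro u hu
        have hbu : b * u * b⁻¹ ∈ U := (mem_normalizer_iff.mp hbU u).mp hu
        have hdu : d⁻¹ * (b * u * b⁻¹) * d⁻¹⁻¹ ∈ U :=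
          (mem_normalizer_iff.mp (inv_mem h.hdU) _).mp hbu
        have h4 := h2 _ hdu
        have e1 : d * (d⁻¹ * (b * u * b⁻¹) * d⁻¹⁻¹) * d⁻¹ = b * u * b⁻¹ := by group
        rw [e1] at h4
        have e2 : b * (d * u * d⁻¹) * b⁻¹ = d⁻¹ * (b * u * b⁻¹) * d⁻¹⁻¹ := by
          calc b * (d * u * d⁻¹) * b⁻¹ = (b * d * b⁻¹) * (b * u * b⁻¹) * (b * d * b⁻¹)⁻¹ := by group
            _ = _ := by rw [h.hbd]
        calc a * b * (d * u * d⁻¹) * (a * b)⁻¹ = a * (b * (d * u * d⁻¹) * b⁻¹) * a⁻¹ := by group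
          _ = a * (d⁻¹ * (b * u * b⁻¹) * d⁻¹⁻¹) * a⁻¹ := by rw [e2]
          _ = d * (d⁻¹ * (a * (d⁻¹ * (b * u * b⁻¹) * d⁻¹⁻¹) * a⁻¹) * d) * d⁻¹ := by group
          _ = d * (a * (b * u * b⁻¹) * a⁻¹) * d⁻¹ := by rw [← h4]
          _ = _ := by group
      have e : a = (a * b) * b⁻¹ := by group
      rw [e]
      exact mul_mem (mem_sup_left h3) (mem_sup_right (inv_mem (mem_zpowers b)))
  have hn : zpowers b ≤ normalizer ((A0 A U d : Subgroup G) : Set G) := by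
    refine LE.le.trans ?_ (centralizer_le_normalizer _)
    rw [zpowers_le, mem_centralizer_iff]
    intro x hx
    exact h.commA x (mem_inf.mp hx).1 b h.hb
  have h2 := Cfsg.Agent.Lib.Helper10.card_sup_mul_card_inf' (A0 A U d) (zpowers b) hn
  have h3 : Nat.card (zpowers b) ≤ 2 := by
    rw [Nat.card_zpowers]
    exact orderOf_le_of_pow_eq_one (by norm_num) (h.hA.2.1.2 b h.hb)
  have h4 : 0 < Nat.card (A0 A U d ⊓ zpowers b : Subgroup G) := Nat.card_pos
  calc Nat.card A ≤ Nat.card (A0 A U d ⊔ zpowers b : Subgroup G) := card_le_of_le h1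
    _ ≤ Nat.card (A0 A U d ⊔ zpowers b : Subgroup G) *
        Nat.card (A0 A U d ⊓ zpowers b : Subgroup G) := Nat.le_mul_of_pos_right _ h4
    _ = Nat.card (A0 A U d) * Nat.card (zpowers b) := h2
    _ ≤ Nat.card (A0 A U d) * 2 := Nat.mul_le_mul_left _ h3
    _ = _ := mul_comm _ _

/-- `Y₀ = C_U(A₀)` -/
abbrev Y0 (A U : Subgroup G) (d : G) : Subgroup G := U ⊓ centralizer (A0 A U d : Set G)

theorem d_mem_normalizer_Y0 (h : W4 S A U d b) : d ∈ normalizer (Y0 A U d : Set G) := by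
  apply Cfsg.Agent.Lib.Helper50.mem_normalizer_of_map_conj_le
  rintro _ ⟨y, hy, rfl⟩
  obtain ⟨hyU, hyC⟩ := mem_inf.mp hy
  refine mem_inf.mpr ⟨(mem_normalizer_iff.mp h.hdU y).mp hyU, ?_⟩
  rw [mem_centralizer_iff]
  intro a ha
  have h1 := (mem_inf.mp ha).2.2 y hyU
  have h2 : a * y * a⁻¹ = y := by rw [mem_centralizer_iff.mp hyC a ha]; group
  rw [h2, mul_inv_eq_iff_eq_mul] at h1
  exact h1

theorem b_mem_normalizer_Y0 (h : W4 S A U d b) : b ∈ normalizer (Y0 A U d : Set G) := by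
  apply Cfsg.Agent.Lib.Helper50.mem_normalizer_of_map_conj_le
  rintro _ ⟨y, hy, rfl⟩
  obtain ⟨hyU, hyC⟩ := mem_inf.mp hy
  refine mem_inf.mpr ⟨(mem_normalizer_iff.mp (h.hAU h.hb) y).mp hyU, ?_⟩
  rw [mem_centralizer_iff]
  intro a ha
  have h1 := h.commA a (mem_inf.mp ha).1 b h.hb
  have h2 := mem_centralizer_iff.mp hyC a ha
  change a * (b * y * b⁻¹) = b * y * b⁻¹ * a
  calc a * (b * y * b⁻¹) = (a * b) * y * b⁻¹ := by group
    _ = b * (a * y) * b⁻¹ := by rw [h1]; group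
    _ = b * y * (a * b⁻¹) := by rw [h2]; group
    _ = b * y * (b⁻¹ * (b * a) * b⁻¹) := by group
    _ = b * y * (b⁻¹ * (a * b) * b⁻¹) := by rw [h1]
    _ = _ := by group

theorem card_X0_le (h : W4 S A U d b) :
    Nat.card (Y0 A U d ⊓ centralizer ({b} : Set G) : Subgroup G) ≤ 2 := by
  have h1 := h.hA.card_mul_le (A' := A0 A U d) (Y := Y0 A U d) inf_le_left
    (inf_le_left.trans h.hUS) (Cfsg.Agent.Lib.Helper10.IsEA.mono h.hU inf_le_left)
    (le_centralizer_iff.mp inf_le_right)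
  have h2 := h.card_A_le
  have h3 : Nat.card (A0 A U d ⊓ Y0 A U d : Subgroup G) ≤
      Nat.card (Y0 A U d ⊓ centralizer ({b} : Set G) : Subgroup G) := by
    apply card_le_of_le
    refine le_inf inf_le_right ?_
    intro x hx
    rw [mem_centralizer_singleton_iff]
    exact h.commA x (mem_inf.mp (mem_inf.mp hx).1).1 b h.hb
  have h4 := h.card_sq (Y := Y0 A U d) inf_le_left h.d_mem_normalizer_Y0 h.b_mem_normalizer_Y0
  set x := Nat.card (Y0 A U d ⊓ centralizer ({b} : Set G) : Subgroup G) with hx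
  have hpos : 0 < Nat.card (A0 A U d) := Nat.card_pos
  have hxpos : 0 < x := Nat.card_pos
  rw [h4] at h1
  have h5 : Nat.card (A0 A U d) * x ^ 2 ≤ Nat.card (A0 A U d) * (2 * x) := by
    calc _ ≤ Nat.card A * Nat.card (A0 A U d ⊓ Y0 A U d : Subgroup G) := h1
      _ ≤ (2 * Nat.card (A0 A U d)) * x := Nat.mul_le_mul h2 h3
      _ = _ := by ring
  have h6 := Nat.le_of_mul_le_mul_left h5 hpos
  rw [pow_two] at h6
  exact Nat.le_of_mul_le_mul_right h6 hxpos

theorem card_le (h : W4 S A U d b) : Nat.card U ≤ 4 := by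
  by_cases hU1 : U = ⊥
  · rw [hU1, card_bot]; norm_num
  set A₀ := A0 A U d with hA₀
  set Y₀ := Y0 A U d with hY₀
  set X₀ := Y₀ ⊓ centralizer ({b} : Set G) with hX₀
  have hA₀A : A₀ ≤ A := inf_le_left
  have hA₀U : A₀ ≤ normalizer (U : Set G) := hA₀A.trans h.hAU
  have hA₀2 : IsPGroup 2 A₀ :=
    Cfsg.Agent.Lib.Helper10.IsEA.isPGroup (Cfsg.Agent.Lib.Helper10.IsEA.mono h.hA.2.1 hA₀A)
  have hU2 : IsPGroup 2 U := Cfsg.Agent.Lib.Helper10.IsEA.isPGroup h.hU
  have hY₀ne : Y₀ ≠ ⊥ := by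
    intro hbot
    have h1 := Cfsg.Agent.Lib.Helper10.card_modEq_card_centralizer A₀ U hA₀2 hA₀U
    change _ ≡ Nat.card Y₀ [MOD 2] at h1
    rw [hbot, card_bot] at h1
    obtain ⟨k, hk⟩ := IsPGroup.iff_card.mp hU2
    rcases k with _ | k
    · rw [pow_zero] at hk
      exact hU1 (card_eq_one.mp hk)
    · rw [hk, pow_succ] at h1
      unfold Nat.ModEq at h1
      omega
  have hx₀ : Nat.card X₀ ≤ 2 := h.card_X0_le
  have hY₀sq : Nat.card Y₀ = Nat.card X₀ ^ 2 :=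
    h.card_sq inf_le_left h.d_mem_normalizer_Y0 h.b_mem_normalizer_Y0
  by_contra hgt
  have hY₀U : Y₀ ≤ U := inf_le_left
  have hA₀Y₀ : A₀ ≤ centralizer (Y₀ : Set G) := le_centralizer_iff.mp inf_le_right
  have hSgU : ∀ u ∈ U, u ∈ Y₀ ⊔ A₀ → u ∈ Y₀ := by
    intro u hu huSg
    obtain ⟨y, hy, a, ha, rfl⟩ := (Cfsg.Agent.Lib.Helper22.mem_sup_of_le_normalizer
      (hA₀Y₀.trans (centralizer_le_normalizer _))).mp huSg
    have haU : a ∈ U := by
      have := mul_mem (inv_mem (hY₀U hy)) hu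
      rwa [inv_mul_cancel_left] at this
    refine mul_mem hy (mem_inf.mpr ⟨haU, ?_⟩)
    rw [mem_centralizer_iff]
    intro e he
    exact h.commA e (hA₀A he) a (hA₀A ha)
  have hUY : ¬ U ≤ Y₀ := by
    intro hle
    have h1 := card_le_of_le hle
    rw [hY₀sq] at h1
    have : Nat.card X₀ ^ 2 ≤ 2 ^ 2 := Nat.pow_le_pow_left hx₀ 2
    omega
  have hlt : Y₀ ⊔ A₀ < U ⊔ A₀ := by
    refine lt_of_le_of_ne (sup_le_sup_right hY₀U _) ?_
    intro heq
    apply hUY
    intro u hu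
    exact hSgU u hu (heq ▸ mem_sup_left hu)
  have hPi2 : IsPGroup 2 (U ⊔ A₀ : Subgroup G) :=
    Cfsg.Agent.Lib.Helper22.isPGroup_sup hA₀U hU2 hA₀2
  obtain ⟨g, hgPi, hgN, hgSg⟩ := Cfsg.Agent.Lib.Helper22.exists_mem_normalizer_not_mem hPi2 hlt
  obtain ⟨u, hu, a, ha, rfl⟩ := (Cfsg.Agent.Lib.Helper22.mem_sup_of_le_normalizer hA₀U).mp hgPi
  have haSg : a ∈ Y₀ ⊔ A₀ := mem_sup_right ha
  have huN : u ∈ normalizer ((Y₀ ⊔ A₀ : Subgroup G) : Set G) := by
    have := mul_mem hgN (inv_mem (le_normalizer haSg))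
    rwa [mul_inv_cancel_right] at this
  have huSg : u ∉ Y₀ ⊔ A₀ := fun hc => hgSg (mul_mem hc haSg)
  have huY : u ∉ Y₀ := fun hc => huSg (mem_sup_left hc)
  have hUnY : U ≤ normalizer (Y₀ : Set G) := by
    refine LE.le.trans ?_ (centralizer_le_normalizer _)
    intro x hx
    rw [mem_centralizer_iff]
    intro y hy
    exact h.commU y (hY₀U hy) x hx
  set U₃ := U ⊓ trivOn A₀ Y₀ with hU₃
  have huU₃ : u ∈ U₃ := by
    refine mem_inf.mpr ⟨hu, hUnY hu, ?_⟩
    intro e he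
    apply hSgU
    · have h1 := (mem_normalizer_iff.mp (hA₀U he) u⁻¹).mp (inv_mem hu)
      have e1 : u * e * u⁻¹ * e⁻¹ = u * (e * u⁻¹ * e⁻¹) := by group
      rw [e1]
      exact mul_mem hu h1
    · exact mul_mem ((mem_normalizer_iff.mp huN e).mp (mem_sup_right he))
        (inv_mem (mem_sup_right he))
  have hY₀U₃ : Y₀ ≤ U₃ := by
    intro y hy
    refine mem_inf.mpr ⟨hY₀U hy, hUnY (hY₀U hy), ?_⟩
    intro e he
    have h1 := mem_centralizer_iff.mp (hA₀Y₀ he) y hy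
    have e1 : y * e * y⁻¹ * e⁻¹ = 1 := by rw [h1]; group
    rw [e1]
    exact one_mem _
  have hdU₃ : d ∈ normalizer (U₃ : Set G) := by
    apply Cfsg.Agent.Lib.Helper50.mem_normalizer_of_map_conj_le
    rintro _ ⟨x, hx, rfl⟩
    obtain ⟨hxU, -, hx2⟩ := mem_inf.mp hx
    have hdx : d * x * d⁻¹ ∈ U := (mem_normalizer_iff.mp h.hdU x).mp hxU
    refine mem_inf.mpr ⟨hdx, hUnY hdx, ?_⟩
    intro e he
    have h1 := (mem_inf.mp he).2.2 x⁻¹ (inv_mem hxU)
    have e1 : d * x * d⁻¹ * e * (d * x * d⁻¹)⁻¹ * e⁻¹ =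
        d * x * d⁻¹ * (e * (d * x⁻¹ * d⁻¹) * e⁻¹) := by group
    have e2 : d * x * d⁻¹ * (d * (e * x⁻¹ * e⁻¹) * d⁻¹) = d * (x * e * x⁻¹ * e⁻¹) * d⁻¹ := by group
    change d * x * d⁻¹ * e * (d * x * d⁻¹)⁻¹ * e⁻¹ ∈ Y₀
    rw [e1, h1, e2]
    exact (mem_normalizer_iff.mp h.d_mem_normalizer_Y0 _).mp (hx2 e he)
  have hbU₃ : b ∈ normalizer (U₃ : Set G) := by
    apply Cfsg.Agent.Lib.Helper50.mem_normalizer_of_map_conj_le
    rintro _ ⟨x, hx, rfl⟩
    obtain ⟨hxU, -, hx2⟩ := mem_inf.mp hx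
    have hbx : b * x * b⁻¹ ∈ U := (mem_normalizer_iff.mp (h.hAU h.hb) x).mp hxU
    refine mem_inf.mpr ⟨hbx, hUnY hbx, ?_⟩
    intro e he
    have h1 := h.commA e (hA₀A he) b h.hb
    have h2 : b⁻¹ * e * b = e := by rw [mul_assoc, h1]; group
    have e1 : b * x * b⁻¹ * e * (b * x * b⁻¹)⁻¹ * e⁻¹ =
        b * (x * (b⁻¹ * e * b) * x⁻¹ * (b⁻¹ * e * b)⁻¹) * b⁻¹ := by group
    change b * x * b⁻¹ * e * (b * x * b⁻¹)⁻¹ * e⁻¹ ∈ Y₀
    rw [e1, h2]
    exact (mem_normalizer_iff.mp h.b_mem_normalizer_Y0 _).mp (hx2 e he)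
  have hU₃U : U₃ ≤ U := inf_le_left
  set X₃ := U₃ ⊓ centralizer ({b} : Set G) with hX₃
  have hsq : Nat.card U₃ = Nat.card X₃ ^ 2 := h.card_sq hU₃U hdU₃ hbU₃
  have hsup : X₃ ⊔ conjS d X₃ = U₃ := h.sup_conj_eq hU₃U hdU₃ hbU₃
  have hpair := card_pairing (A := A₀) (X := X₃) (Z := X₀) (by
      intro x hx e he
      obtain ⟨hxU₃, hxb⟩ := mem_inf.mp hx
      rw [mem_centralizer_singleton_iff] at hxb
      have h1 := (mem_inf.mp hxU₃).2.2 e he
      rw [← commutatorElement_def] at h1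
      refine mem_inf.mpr ⟨h1, ?_⟩
      rw [mem_centralizer_singleton_iff]
      have h2 := h.commA e (hA₀A he) b h.hb
      have e1 : b * ⁅x, e⁆ * b⁻¹ = ⁅b * x * b⁻¹, b * e * b⁻¹⁆ := by
        simp only [commutatorElement_def]; group
      have e2 : b * x * b⁻¹ = x := by rw [← hxb]; group
      have e3 : b * e * b⁻¹ = e := by rw [← h2]; group
      rw [e2, e3, mul_inv_eq_iff_eq_mul] at e1
      exact e1.symm)
    (le_centralizer_iff.mp (inf_le_left.trans inf_le_right)) hx₀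
  have hX₀le : Nat.card X₀ ≤ Nat.card (X₃ ⊓ centralizer (A₀ : Set G) : Subgroup G) := by
    apply card_le_of_le
    intro x hx
    obtain ⟨hxY, hxb⟩ := mem_inf.mp hx
    exact mem_inf.mpr ⟨mem_inf.mpr ⟨hY₀U₃ hxY, hxb⟩, (mem_inf.mp hxY).2⟩
  set A₃ := A₀ ⊓ centralizer (X₃ : Set G) with hA₃
  have hA₃U₃ : A₃ ≤ centralizer (U₃ : Set G) := by
    intro e he
    obtain ⟨heA, heX⟩ := mem_inf.mp he
    rw [← hsup]
    apply mem_centralizer_sup heX
    rw [mem_centralizer_iff]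
    rintro _ ⟨x, hx, rfl⟩
    have hxU : x ∈ U := hU₃U (mem_inf.mp hx).1
    have h1 := (mem_inf.mp heA).2.2 x hxU
    have h2 : e * x * e⁻¹ = x := by rw [← mem_centralizer_iff.mp heX x hx]; group
    rw [h2, mul_inv_eq_iff_eq_mul] at h1
    exact h1.symm
  have hmea := h.hA.card_mul_le (A' := A₃) (Y := U₃) (inf_le_left.trans hA₀A) (hU₃U.trans h.hUS)
    (Cfsg.Agent.Lib.Helper10.IsEA.mono h.hU hU₃U) hA₃U₃
  have hA₃X₀ : Nat.card (A₃ ⊓ U₃ : Subgroup G) ≤ Nat.card X₀ := by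
    apply card_le_of_le
    intro x hx
    obtain ⟨hxA, hxU⟩ := mem_inf.mp hx
    have hxA' : x ∈ A := hA₀A (mem_inf.mp hxA).1
    refine mem_inf.mpr ⟨mem_inf.mpr ⟨hU₃U hxU, ?_⟩, ?_⟩
    · rw [mem_centralizer_iff]
      intro e he
      exact h.commA e (hA₀A he) x hxA'
    · rw [mem_centralizer_singleton_iff]
      exact h.commA x hxA' b h.hb
  have hcA := h.card_A_le
  have hpos3 : 0 < Nat.card A₃ := Nat.card_pos
  have hposx : 0 < Nat.card X₃ := Nat.card_pos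
  have hx₃ : Nat.card X₃ ≤ 2 := by
    rw [hsq] at hmea
    have h5 : Nat.card A₃ * Nat.card X₃ ^ 2 ≤ Nat.card A₃ * (2 * Nat.card X₃) := by
      calc _ ≤ Nat.card A * Nat.card (A₃ ⊓ U₃ : Subgroup G) := hmea
        _ ≤ (2 * Nat.card A₀) * Nat.card X₀ := Nat.mul_le_mul hcA hA₃X₀
        _ = 2 * (Nat.card A₀ * Nat.card X₀) := by ring
        _ ≤ 2 * (Nat.card A₀ * Nat.card (X₃ ⊓ centralizer (A₀ : Set G) : Subgroup G)) :=
            Nat.mul_le_mul_left _ (Nat.mul_le_mul_left _ hX₀le)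
        _ ≤ 2 * (Nat.card A₃ * Nat.card X₃) := Nat.mul_le_mul_left _ hpair
        _ = _ := by ring
    have h6 := Nat.le_of_mul_le_mul_left h5 hpos3
    rw [pow_two] at h6
    exact Nat.le_of_mul_le_mul_right h6 hposx
  have hlt2 : Y₀ < U₃ := lt_of_le_of_ne hY₀U₃ (fun heq => huY (heq ▸ huU₃))
  have h7 := two_mul_card_le_of_lt hlt2
  have h8 : Nat.card X₃ ^ 2 ≤ 2 ^ 2 := Nat.pow_le_pow_left hx₃ 2
  rw [hsq, hY₀sq] at h7
  have hx₀pos : 0 < Nat.card X₀ := Nat.card_pos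
  have hx₀1 : Nat.card X₀ = 1 := by
    by_contra hne
    have h9 : Nat.card X₀ = 2 := by omega
    rw [h9] at h7
    omega
  apply hY₀ne
  rw [← card_eq_one, hY₀sq, hx₀1]
  norm_num

end W4

end Cfsg.Agent.Lib.Helper48
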