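import Cfsg.Agent.Lib.Helper48.JC14

/-!
General lemmas for the construction of `J(T)`-components.
-/

set_option autoImplicit false

namespace Cfsg.Agent.Lib.Helper48

open Subgroup
open scoped commutatorElement
open Cfsg.Agent.Lib.Helper22 (conjS mem_conjS conjS_mem conjS_mul conjS_one conjS_eq_of_mem_normalizer)
open Cfsg.Agent.Lib.Helper47 (IsSylowIn)
open Cfsg.Agent.Lib.Helper11 (IsMaxIn)

universe u

variable {G : Type u} [Group G]

/-- `O^2(F)` -/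
def O2 (F : Subgroup G) : Subgroup G := closure {g : G | g ∈ F ∧ Odd (orderOf g)}

theorem O2_le (F : Subgroup G) : O2 F ≤ F := by
  unfold O2
  rw [closure_le]
  rintro g ⟨hg, -⟩
  exact hg

theorem mem_O2 {F : Subgroup G} {g : G} (hg : g ∈ F) (hodd : Odd (orderOf g)) : g ∈ O2 F :=
  Subgroup.subset_closure ⟨hg, hodd⟩

theorem O2_gen (F : Subgroup G) : closure {g : G | g ∈ O2 F ∧ Odd (orderOf g)} = O2 F := by
  apply le_antisymm
  · rw [closure_le]
    rintro g ⟨hg, -⟩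
    exact hg
  · conv_lhs => unfold O2
    apply Subgroup.closure_mono
    rintro g ⟨hg, hodd⟩
    exact ⟨mem_O2 hg hodd, hodd⟩

theorem normalizer_le_normalizer_O2 [Finite G] (F : Subgroup G) :
    normalizer (F : Set G) ≤ normalizer (O2 F : Set G) := by
  intro g hg
  apply Cfsg.Agent.Lib.Helper50.mem_normalizer_of_map_conj_le
  unfold O2
  rw [MonoidHom.map_closure, closure_le]
  rintro _ ⟨x, ⟨hx, hodd⟩, rfl⟩
  apply Subgroup.subset_closure
  refine ⟨(mem_normalizer_iff.mp hg x).mp hx, ?_⟩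
  have : orderOf ((MulAut.conj g).toMonoidHom x) = orderOf x :=
    orderOf_injective _ (MulAut.conj g).injective x
  rw [this]
  exact hodd

theorem eq_of_mem_of_card_two {B : Subgroup G} (hB : Nat.card B = 2) {x y : G} (hx : x ∈ B)
    (hy : y ∈ B) (hx1 : x ≠ 1) (hy1 : y ≠ 1) : x = y := by
  haveI : Fact (Nat.Prime 2) := ⟨Nat.prime_two⟩
  have hBz : B = zpowers y := eq_zpowers_of_card_prime hB hy hy1
  have hy2 : y ^ 2 = 1 := pow_eq_one_of_card hB hy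
  rw [hBz, mem_zpowers_iff] at hx
  obtain ⟨k, hk⟩ := hx
  rcases Int.even_or_odd' k with ⟨m, hm | hm⟩
  · exfalso
    rw [hm, zpow_mul, zpow_ofNat, hy2, one_zpow] at hk
    exact hx1 hk.symm
  · rw [hm, zpow_add, zpow_mul, zpow_ofNat, hy2, one_zpow, one_mul, zpow_one] at hk
    exact hk.symm

/-- a computation in a quotient -/
theorem sq_eq_one_of_inverted {Q : Type*} [Group Q] {β E γ : Q} (h1 : β * E * β⁻¹ = E⁻¹)
    (h2 : β * γ = γ * β) (h3 : β * (E * γ) * β⁻¹ = (E * γ)⁻¹) (h4 : E ^ 3 = 1) : γ ^ 2 = 1 := by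
  have e1 : β * (E * γ) * β⁻¹ = E⁻¹ * γ := by
    calc β * (E * γ) * β⁻¹ = (β * E * β⁻¹) * (β * γ) * β⁻¹ := by group
      _ = E⁻¹ * (γ * β) * β⁻¹ := by rw [h1, h2]
      _ = _ := by group
  have e2 : E⁻¹ * γ * E = γ⁻¹ := by
    rw [← e1, h3]
    group
  have e3 : E⁻¹ * γ⁻¹ * E = γ := by
    have : (E⁻¹ * γ * E)⁻¹ = γ⁻¹⁻¹ := by rw [e2]
    rw [inv_inv] at this
    calc E⁻¹ * γ⁻¹ * E = (E⁻¹ * γ * E)⁻¹ := by group
      _ = γ := this
  have hE : E * E * E = 1 := by rwa [pow_succ, pow_succ, pow_one] at h4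
  have hE' : E⁻¹ * E⁻¹ * E⁻¹ = 1 := by
    have : (E * E * E)⁻¹ = 1 := by rw [hE, inv_one]
    rw [← this]
    group
  have e4 : γ = γ⁻¹ := by
    calc γ = (E⁻¹ * E⁻¹ * E⁻¹) * γ * (E * E * E) := by rw [hE, hE', one_mul, mul_one]
      _ = E⁻¹ * (E⁻¹ * (E⁻¹ * γ * E) * E) * E := by group
      _ = E⁻¹ * (E⁻¹ * γ⁻¹ * E) * E := by rw [e2]
      _ = E⁻¹ * γ * E := by rw [e3]
      _ = γ⁻¹ := e2
  rw [pow_two]
  nth_rewrite 1 [e4]
  exact inv_mul_cancel γ

theorem pCoreOf_eq_of_relIndex_three [Finite G] {K P : Subgroup G} (hPK : P ≤ K)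
    (hn : K ≤ normalizer (P : Set G)) (hP2 : IsPGroup 2 P) (h3 : P.relIndex K = 3) :
    Cfsg.pCoreOf 2 K = P := by
  have h1 : P ≤ Cfsg.pCoreOf 2 K := Cfsg.Agent.Lib.Helper49.le_pCoreOf hPK hn hP2
  have hOK := Cfsg.Agent.Lib.Helper49.pCoreOf_le 2 K
  have h2 := relIndex_mul_relIndex P _ K h1 hOK
  rw [h3] at h2
  have h4 : (Cfsg.pCoreOf 2 K).relIndex K ≠ 1 := by
    intro h5
    have hK2 : IsPGroup 2 K :=
      (Cfsg.Agent.Lib.Helper49.pCoreOf_isPGroup 2 K).to_le (relIndex_eq_one.mp h5)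
    obtain ⟨n, hn'⟩ := IsPGroup.iff_card.mp hK2
    have h6 : 3 ∣ Nat.card K := h3 ▸ relIndex_dvd_card P K
    rw [hn'] at h6
    have := Nat.Prime.dvd_of_dvd_pow Nat.prime_three h6
    norm_num at this
  have h5 : (Cfsg.pCoreOf 2 K).relIndex K = 3 :=
    ((Nat.dvd_prime Nat.prime_three).mp (Dvd.intro_left _ h2)).resolve_left h4
  rw [h5] at h2
  have h6 : P.relIndex (Cfsg.pCoreOf 2 K) = 1 := by omega
  exact le_antisymm (relIndex_eq_one.mp h6) h1

/-- `J(S') = J(T)` for a `2`-subgroup `S'` of `L` containing `J(T)`, `T` a Sylow `2`-subgroup of `L` -/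
theorem J_eq_of_le_sylow [Finite G] {T S' L : Subgroup G} (hT : IsSylowIn 2 T L)
    (hS'2 : IsPGroup 2 S') (hS'L : S' ≤ L) (hJ : Cfsg.thompsonSubgroupOf 2 T ≤ S') :
    Cfsg.thompsonSubgroupOf 2 S' = Cfsg.thompsonSubgroupOf 2 T := by
  obtain ⟨g, -, hg⟩ := hT.exists_conj_ge hS'2 hS'L
  change S' ≤ conjS g T at hg
  obtain ⟨A, hA⟩ := exists_mea T
  have h1 : Cfsg.thompsonSubgroupOf 2 T ≤ Cfsg.thompsonSubgroupOf 2 (conjS g T) :=
    J_le_J_of_card hA (hA.conj g) (card_conjS g A).symm (hJ.trans hg)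
  have h2 : Cfsg.thompsonSubgroupOf 2 T = Cfsg.thompsonSubgroupOf 2 (conjS g T) :=
    eq_of_le_of_card_ge h1 (by rw [thompsonSubgroupOf_conjS, card_conjS])
  rw [h2]
  rw [Cfsg.Agent.Lib.Helper51.thompsonSubgroupOf_eq, Cfsg.Agent.Lib.Helper51.thompsonSubgroupOf_eq]
  apply Cfsg.Agent.Lib.Helper11.joinMax_eq_of_le hg
  · change sSup _ ≤ _
    rw [← Cfsg.Agent.Lib.Helper51.thompsonSubgroupOf_eq, ← h2]
    exact hJ
  · exact ⟨_, hA.conj g⟩

theorem isEA_omegaCenterOf (P : Subgroup G) :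
    Cfsg.IsElementaryAbelian 2 (Cfsg.omegaCenterOf P) := by
  have hcomm : ∀ x ∈ Cfsg.omegaCenterOf P, ∀ y ∈ Cfsg.omegaCenterOf P, x * y = y * x := by
    intro x hx y hy
    have hx' := mem_inf.mp (omegaCenterOf_le P hx)
    have hy' := mem_inf.mp (omegaCenterOf_le P hy)
    exact mem_centralizer_iff.mp hy'.2 x hx'.1
  rw [Cfsg.Agent.Lib.Helper10.isEA_iff]
  refine ⟨hcomm, ?_⟩
  intro x hx
  have hx0 := hx
  unfold Cfsg.omegaCenterOf Cfsg.omegaOne at hx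
  induction hx using closure_induction with
  | mem x hx => exact hx.2
  | one => simp
  | mul x y hx hy ihx ihy =>
    have hx' : x ∈ Cfsg.omegaCenterOf P := hx
    have hy' : y ∈ Cfsg.omegaCenterOf P := hy
    rw [(show Commute x y from hcomm x hx' y hy').mul_pow, ihx hx', ihy hy', one_mul]
  | inv x hx ih =>
    rw [inv_pow, ih hx, inv_one]

end Cfsg.Agent.Lib.Helper48
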