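import Cfsg.Agent.Lib.Helper48.JC15

/-!
Construction of `J(S)`-components (type level), part 1: the elements `b` and `d`.
-/

set_option autoImplicit false

namespace Cfsg.Agent.Lib.Helper48

open Subgroup
open scoped commutatorElement
open Cfsg.Agent.Lib.Helper22 (conjS mem_conjS conjS_mem conjS_mul conjS_one conjS_eq_of_mem_normalizer)
open Cfsg.Agent.Lib.Helper47 (IsSylowIn)
open Cfsg.Agent.Lib.Helper11 (IsMaxIn)
open JCX (Vb Hb)

universe u

variable {X : Type u} [Group X]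

/-- `O_2(C_X(V))` -/
abbrev R0 (X : Type u) [Group X] : Subgroup X := Cfsg.pCore 2 X ⊓ centralizer (VV 2 X : Set X)

instance R0_normal (X : Type u) [Group X] : (R0 X).Normal := by
  haveI : (Cfsg.pCore 2 X).Normal := Cfsg.Agent.Lib.Helper10.pCore_normal 2
  infer_instance

theorem isPGroup_R0 (X : Type u) [Group X] : IsPGroup 2 (R0 X) :=
  (Cfsg.Agent.Lib.Helper10.pCore_isPGroup 2).to_le inf_le_left

namespace LX

variable {S : Sylow 2 X}

theorem S_inf_C (h : LX S) : (S : Subgroup X) ⊓ centralizer (VV 2 X : Set X) = R0 X :=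
  le_antisymm (le_inf h.inf_le_pCore inf_le_right) (inf_le_inf_right _ (pCore_le_sylow S))

theorem comm_mem_R0 (h : LX S) {s c : X} (hs : s ∈ S) (hc : c ∈ centralizer (VV 2 X : Set X)) :
    ⁅s, c⁆ ∈ R0 X := by
  rw [← h.S_inf_C]
  refine mem_inf.mpr ⟨?_, ?_⟩
  · have h1 := (mem_normalizer_iff.mp (h.hC hc) s⁻¹).mp (inv_mem hs)
    have e : ⁅s, c⁆ = s * (c * s⁻¹ * c⁻¹) := by rw [commutatorElement_def]; group
    rw [e]
    exact mul_mem hs h1
  · rw [commutatorElement_def]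
    exact mul_mem ((inferInstance : (centralizer (VV 2 X : Set X)).Normal).conj_mem c hc s)
      (inv_mem hc)

theorem mem_R0_of_sq [Finite X] (h : LX S) {c : X} (hc : c ∈ centralizer (VV 2 X : Set X))
    (hc2 : c ^ 2 ∈ R0 X) : c ∈ R0 X := by
  rw [← h.S_inf_C]
  refine mem_inf.mpr ⟨?_, hc⟩
  obtain ⟨m, hm⟩ := isPGroup_R0 X ⟨c ^ 2, hc2⟩
  have hm' : (c ^ 2) ^ 2 ^ m = 1 := congrArg Subtype.val hm
  rw [← pow_mul, ← pow_succ'] at hm'
  have h1 : IsPGroup 2 (zpowers c) := by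
    obtain ⟨j, -, hj⟩ := (Nat.dvd_prime_pow Nat.prime_two).mp (orderOf_dvd_of_pow_eq_one hm')
    exact IsPGroup.of_card (n := j) (by rw [Nat.card_zpowers, hj])
  have h2 : IsPGroup 2 ((S : Subgroup X) ⊔ zpowers c : Subgroup X) :=
    Cfsg.Agent.Lib.Helper22.isPGroup_sup (zpowers_le.mpr (h.hC hc)) S.2 h1
  have h3 := S.3 h2 le_sup_left
  have h4 : c ∈ (S : Subgroup X) ⊔ zpowers c := mem_sup_right (mem_zpowers c)
  rw [h3] at h4
  exact h4

end LX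

/-- the data for the construction of a component -/
structure CD (S : Sylow 2 X) (A : Subgroup X) (B : Subgroup (Equiv.Perm ↥(VV 2 X))) (b d : X) :
    Prop where
  lx : LX S
  hA : MEA (S : Subgroup X) A
  hB : MO 2 (Vb X) (Hb X) B
  hBA : B ≤ A.map (ps (VV 2 X))
  hb : b ∈ A
  hbB : ps (VV 2 X) b ∈ B
  hb1 : ps (VV 2 X) b ≠ 1
  hd3 : orderOf d = 3
  hbd : b * d * b⁻¹ = d⁻¹
  hdR : ps (VV 2 X) d ∈ ⁅ppc 2 (Hb X), B⁆
  hd1 : ps (VV 2 X) d ≠ 1

theorem exists_cd [Finite X] {S : Sylow 2 X} (h : LX S) {A : Subgroup X}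
    (hA : MEA (S : Subgroup X) A) {B : Subgroup (Equiv.Perm ↥(VV 2 X))}
    (hB : MO 2 (Vb X) (Hb X) B) (hBA : B ≤ A.map (ps (VV 2 X))) : ∃ b d, CD S A B b d := by
  set R := ⁅ppc 2 (Hb X), B⁆ with hR
  have hRR : ⁅R, B⁆ = R :=
    Cfsg.Agent.Lib.Helper22.commutator_commutator_eq B _ hB.isPGroup_A (not_dvd_card_ppc 2 _)
      hB.hAQ
  have hcardR : Nat.card R = 3 := by rw [hB.card_R]; norm_num
  have hR1 : R ≠ ⊥ := by
    intro hbot
    rw [hbot, card_bot] at hcardR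
    norm_num at hcardR
  have hex : ∃ r ∈ R, ∃ β ∈ B, ⁅r, β⁆ ≠ 1 := by
    by_contra hcon
    push Not at hcon
    apply hR1
    rw [← hRR, eq_bot_iff, commutator_le]
    intro r hr β hβ
    rw [mem_bot]
    exact hcon r hr β hβ
  obtain ⟨r, hr, β, hβ, hrβ⟩ := hex
  obtain ⟨b, hbA, rfl⟩ := hBA hβ
  obtain ⟨y₀, -, rfl⟩ := (hB.R_le.trans (ppc_le 2 _)) hr
  have hb2 : b * b = 1 := by
    have := hA.2.1.2 b hbA
    rwa [pow_two] at this
  have hbinv : b⁻¹ = b := inv_eq_of_mul_eq_one_left hb2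
  set d₀ := ⁅y₀, b⁆ with hd₀
  have hψd₀ : ps (VV 2 X) d₀ = ⁅ps (VV 2 X) y₀, ps (VV 2 X) b⁆ := map_commutatorElement _ _ _
  have hd₀R : ps (VV 2 X) d₀ ∈ R := by
    rw [hψd₀, ← hRR]
    exact commutator_mem_commutator hr hβ
  have hd₀1 : ps (VV 2 X) d₀ ≠ 1 := by rw [hψd₀]; exact hrβ
  have hbd₀ : b * d₀ * b⁻¹ = d₀⁻¹ := by
    have e1 : b * d₀ * b⁻¹ = b * y₀ * b * y₀⁻¹ * (b⁻¹ * b⁻¹) := by
      rw [hd₀, commutatorElement_def]; group
    have e2 : d₀⁻¹ = b * y₀ * b⁻¹ * y₀⁻¹ := by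
      rw [hd₀, commutatorElement_def]; group
    rw [e1, e2, hbinv, hb2, mul_one]
  obtain ⟨e, n, hn, hen⟩ := Nat.exists_eq_two_pow_mul_odd (orderOf_pos d₀).ne'
  set d := d₀ ^ 2 ^ e with hd
  have hodd : Odd (orderOf d) := by
    rw [hd, orderOf_pow_of_dvd (pow_ne_zero _ (by norm_num)) (hen ▸ Dvd.intro _ rfl), hen,
      Nat.mul_div_cancel_left _ (pow_pos (by norm_num) _)]
    exact hn
  have ho3 : orderOf (ps (VV 2 X) d₀) = 3 := by
    have h1 : orderOf (ps (VV 2 X) d₀) ∣ 3 :=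
      orderOf_dvd_of_pow_eq_one (pow_eq_one_of_card hcardR hd₀R)
    refine ((Nat.dvd_prime Nat.prime_three).mp h1).resolve_left ?_
    rw [orderOf_eq_one_iff]
    exact hd₀1
  have hdR : ps (VV 2 X) d ∈ R := by
    rw [hd, map_pow]
    exact pow_mem hd₀R _
  have hd1 : ps (VV 2 X) d ≠ 1 := by
    rw [hd, map_pow]
    intro h1
    have h2 := orderOf_dvd_of_pow_eq_one h1
    rw [ho3] at h2
    have := Nat.Prime.dvd_of_dvd_pow Nat.prime_three h2
    norm_num at this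
  have hbd : b * d * b⁻¹ = d⁻¹ := by
    rw [hd, ← conj_pow, hbd₀, inv_pow]
  have hbS : b ∈ S := hA.1 hbA
  have hd3C : d ^ 3 ∈ centralizer (VV 2 X : Set X) := by
    rw [← ps_ker, MonoidHom.mem_ker, map_pow]
    exact pow_eq_one_of_card hcardR hdR
  have h6 : (d ^ 6)⁻¹ ∈ R0 X := by
    have h1 := h.comm_mem_R0 hbS hd3C
    have e1 : ⁅b, d ^ 3⁆ = (b * d * b⁻¹) ^ 3 * (d ^ 3)⁻¹ := by
      rw [commutatorElement_def, conj_pow]
    rw [e1, hbd, inv_pow, ← mul_inv_rev, ← pow_add] at h1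
    exact h1
  obtain ⟨m, hm⟩ := isPGroup_R0 X ⟨(d ^ 6)⁻¹, h6⟩
  have hm' : ((d ^ 6)⁻¹) ^ 2 ^ m = 1 := congrArg Subtype.val hm
  rw [inv_pow, inv_eq_one, ← pow_mul] at hm'
  have hd3 : orderOf d = 3 := by
    have h1 : orderOf d ∣ 3 * 2 ^ (m + 1) := by
      have := orderOf_dvd_of_pow_eq_one hm'
      have e : 6 * 2 ^ m = 3 * 2 ^ (m + 1) := by rw [pow_succ]; ring
      rwa [e] at this
    have h2 : orderOf d ∣ 3 := Nat.Coprime.dvd_of_dvd_mul_right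
      (Nat.Coprime.pow_right _ (Nat.coprime_two_right.mpr hodd)) h1
    refine ((Nat.dvd_prime Nat.prime_three).mp h2).resolve_left ?_
    rw [orderOf_eq_one_iff]
    intro h3
    exact hd1 (by rw [h3, map_one])
  refine ⟨b, d, h, hA, hB, hBA, hbA, hβ, ?_, hd3, hbd, hdR, hd1⟩
  intro h1
  apply hrβ
  rw [h1, commutatorElement_one_right]

end Cfsg.Agent.Lib.Helper48
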