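import Cfsg.Agent.Lib.Helper48.JC16

/-!
Construction of `J(S)`-components (type level), part 2: the group `F = O_2(C_X(V)) ⟨d⟩`.
-/

set_option autoImplicit false

namespace Cfsg.Agent.Lib.Helper48

open Subgroup
open scoped commutatorElement
open Cfsg.Agent.Lib.Helper22 (conjS mem_conjS conjS_mem conjS_mul conjS_one conjS_eq_of_mem_normalizer)
open Cfsg.Agent.Lib.Helper47 (IsSylowIn)
open Cfsg.Agent.Lib.Helper11 (IsMaxIn)
open JCX (Vb Hb)

universe u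

variable {X : Type u} [Group X] [Finite X] {S : Sylow 2 X} {A : Subgroup X}
  {B : Subgroup (Equiv.Perm ↥(VV 2 X))} {b d : X}

namespace CD

theorem fg (h : CD S A B b d) : FG 2 (Vb X) (Hb X) :=
  (fg_thompson h.lx.hsep h.lx.hO h.lx.hnf).1

theorem card_R (h : CD S A B b d) : Nat.card ↥⁅ppc 2 (Hb X), B⁆ = 3 := by
  rw [h.hB.card_R]; norm_num

theorem R_eq (h : CD S A B b d) : ⁅ppc 2 (Hb X), B⁆ = zpowers (ps (VV 2 X) d) := by
  haveI : Fact (Nat.Prime 3) := ⟨Nat.prime_three⟩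
  exact eq_zpowers_of_card_prime h.card_R h.hdR h.hd1

theorem A_le_J (h : CD S A B b d) : A ≤ Cfsg.thompsonSubgroupOf 2 (S : Subgroup X) := h.hA.le_J

theorem J_map_le (_h : CD S A B b d) :
    (Cfsg.thompsonSubgroupOf 2 (S : Subgroup X)).map (ps (VV 2 X)) ≤ Hb X :=
  map_mono (thompsonSubgroupOf_le_thompsonSubgroup S)

theorem B_le_J (h : CD S A B b d) :
    B ≤ (Cfsg.thompsonSubgroupOf 2 (S : Subgroup X)).map (ps (VV 2 X)) :=
  h.hBA.trans (map_mono h.A_le_J)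

theorem E_inf_J (h : CD S A B b d) :
    EE 2 (Hb X) B ⊓ (Cfsg.thompsonSubgroupOf 2 (S : Subgroup X)).map (ps (VV 2 X)) = B := by
  symm
  apply eq_of_le_of_card_ge (le_inf le_sup_right h.B_le_J)
  rw [h.hB.hAp]
  have h2 : IsPGroup 2 (EE 2 (Hb X) B ⊓
      (Cfsg.thompsonSubgroupOf 2 (S : Subgroup X)).map (ps (VV 2 X)) : Subgroup _) :=
    ((JCX.isPGroup_J S).map _).to_le inf_le_right
  obtain ⟨n, hn⟩ := IsPGroup.iff_card.mp h2
  have h3 : Nat.card (EE 2 (Hb X) B ⊓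
      (Cfsg.thompsonSubgroupOf 2 (S : Subgroup X)).map (ps (VV 2 X)) : Subgroup _) ∣ 6 := by
    have := card_dvd_of_le (inf_le_left : EE 2 (Hb X) B ⊓
      (Cfsg.thompsonSubgroupOf 2 (S : Subgroup X)).map (ps (VV 2 X)) ≤ EE 2 (Hb X) B)
    rw [h.hB.card_E] at this
    norm_num at this
    exact this
  rw [hn] at h3 ⊢
  rcases n with _ | _ | n
  · norm_num
  · norm_num
  · exfalso
    have h4 : 4 ∣ 6 := (Dvd.intro_left (2 ^ n) (by rw [pow_succ, pow_succ]; ring)).trans h3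
    norm_num at h4

/-- `b^j ≡ b` modulo `O_2(C_X(V))` -/
theorem conj_b (h : CD S A B b d) {j : X} (hj : j ∈ Cfsg.thompsonSubgroupOf 2 (S : Subgroup X)) :
    (j * b * j⁻¹) * b⁻¹ ∈ R0 X := by
  have hjS : j ∈ S := thompsonSubgroupOf_le' 2 _ hj
  have hbS : b ∈ S := h.hA.1 h.hb
  have hbJ := h.A_le_J h.hb
  rw [← h.lx.S_inf_C]
  refine mem_inf.mpr ⟨mul_mem (mul_mem (mul_mem hjS hbS) (inv_mem hjS)) (inv_mem hbS), ?_⟩
  have h1 : ps (VV 2 X) (j * b * j⁻¹) ∈ B := by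
    rw [← h.E_inf_J]
    refine mem_inf.mpr ⟨?_, ⟨_, mul_mem (mul_mem hj hbJ) (inv_mem hj), rfl⟩⟩
    have h2 := h.hB.H_le_normalizer_E h.fg (h.J_map_le ⟨j, hj, rfl⟩)
    have h3 := (mem_normalizer_iff.mp h2 _).mp (mem_sup_right h.hbB : ps (VV 2 X) b ∈ EE 2 (Hb X) B)
    rw [map_mul, map_mul, map_inv]
    exact h3
  have h2 : ps (VV 2 X) (j * b * j⁻¹) ≠ 1 := by
    intro h3
    apply h.hb1
    rw [map_mul, map_mul, map_inv, mul_inv_eq_one] at h3
    exact mul_left_cancel (h3.trans (mul_one _).symm)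
  have h3 := eq_of_mem_of_card_two h.hB.hAp h1 h.hbB h2 h.hb1
  rw [← ps_ker, MonoidHom.mem_ker, map_mul, h3, map_inv, mul_inv_cancel]

/-- `F` -/
abbrev FF' (X : Type u) [Group X] (d : X) : Subgroup X := R0 X ⊔ zpowers d

theorem conj_d_mem (h : CD S A B b d) {j : X}
    (hj : j ∈ Cfsg.thompsonSubgroupOf 2 (S : Subgroup X)) : j * d * j⁻¹ ∈ FF' X d := by
  have hbS : b ∈ S := h.hA.1 h.hb
  have h1 : ps (VV 2 X) (j * d * j⁻¹) ∈ ⁅ppc 2 (Hb X), B⁆ := by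
    have h2 := h.hB.H_le_normalizer_R h.fg (h.J_map_le ⟨j, hj, rfl⟩)
    have h3 := (mem_normalizer_iff.mp h2 _).mp h.hdR
    rw [map_mul, map_mul, map_inv]
    exact h3
  rw [h.R_eq, mem_zpowers_iff] at h1
  obtain ⟨k, hk⟩ := h1
  set c := (d ^ k)⁻¹ * (j * d * j⁻¹) with hc
  have hcC : c ∈ centralizer (VV 2 X : Set X) := by
    rw [← ps_ker, MonoidHom.mem_ker, hc, map_mul, ← hk, map_inv, map_zpow, inv_mul_cancel]
  have hx : j * d * j⁻¹ = d ^ k * c := by rw [hc]; group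
  have hc2 : c ^ 2 ∈ R0 X := by
    rw [← QuotientGroup.eq_one_iff, QuotientGroup.mk_pow]
    have q1 : ((b : X) : X ⧸ R0 X) * ((d ^ k : X) : X ⧸ R0 X) * ((b : X) : X ⧸ R0 X)⁻¹ =
        ((d ^ k : X) : X ⧸ R0 X)⁻¹ := by
      rw [← QuotientGroup.mk_inv, ← QuotientGroup.mk_mul, ← QuotientGroup.mk_mul,
        ← QuotientGroup.mk_inv, ← conj_zpow, h.hbd, inv_zpow]
    have q2 : ((b : X) : X ⧸ R0 X) * ((c : X) : X ⧸ R0 X) =
        ((c : X) : X ⧸ R0 X) * ((b : X) : X ⧸ R0 X) := by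
      have h3 := h.lx.comm_mem_R0 hbS hcC
      rw [← QuotientGroup.eq_one_iff, commutatorElement_def, QuotientGroup.mk_mul,
        QuotientGroup.mk_mul, QuotientGroup.mk_mul, QuotientGroup.mk_inv, QuotientGroup.mk_inv,
        mul_inv_eq_one, mul_inv_eq_iff_eq_mul] at h3
      exact h3
    have q0 : ((j * b * j⁻¹ : X) : X ⧸ R0 X) = ((b : X) : X ⧸ R0 X) := by
      have h3 := h.conj_b hj
      rw [← QuotientGroup.eq_one_iff, QuotientGroup.mk_mul, QuotientGroup.mk_inv,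
        mul_inv_eq_one] at h3
      exact h3
    have q3 : ((b : X) : X ⧸ R0 X) * (((d ^ k : X) : X ⧸ R0 X) * ((c : X) : X ⧸ R0 X)) *
        ((b : X) : X ⧸ R0 X)⁻¹ = (((d ^ k : X) : X ⧸ R0 X) * ((c : X) : X ⧸ R0 X))⁻¹ := by
      rw [← QuotientGroup.mk_mul, ← hx, ← q0, ← QuotientGroup.mk_inv, ← QuotientGroup.mk_mul,
        ← QuotientGroup.mk_mul, ← QuotientGroup.mk_inv]
      congr 1
      calc j * b * j⁻¹ * (j * d * j⁻¹) * (j * b * j⁻¹)⁻¹ = j * (b * d * b⁻¹) * j⁻¹ := by group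
        _ = j * d⁻¹ * j⁻¹ := by rw [h.hbd]
        _ = _ := by group
    have q4 : ((d ^ k : X) : X ⧸ R0 X) ^ 3 = 1 := by
      rw [← QuotientGroup.mk_pow, ← zpow_natCast, ← zpow_mul, mul_comm, zpow_mul, zpow_natCast]
      have : d ^ 3 = 1 := by rw [← h.hd3]; exact pow_orderOf_eq_one d
      norm_num [this]
    exact sq_eq_one_of_inverted q1 q2 q3 q4
  rw [hx]
  exact mul_mem (mem_sup_right (zpow_mem (mem_zpowers d) k))
    (mem_sup_left (h.lx.mem_R0_of_sq hcC hc2))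

theorem J_le_normalizer_F (h : CD S A B b d) :
    Cfsg.thompsonSubgroupOf 2 (S : Subgroup X) ≤ normalizer (FF' X d : Set X) := by
  intro j hj
  apply Cfsg.Agent.Lib.Helper50.mem_normalizer_of_map_conj_le
  rw [Subgroup.map_sup, MonoidHom.map_zpowers]
  apply sup_le
  · rintro _ ⟨x, hx, rfl⟩
    exact mem_sup_left ((R0_normal X).conj_mem x hx j)
  · rw [zpowers_le]
    exact h.conj_d_mem hj

end CD

end Cfsg.Agent.Lib.Helper48
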