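import Cfsg.Agent.Lib.Helper48.JC17

/-!
Construction of `J(S)`-components (type level), part 3: the component.
-/

set_option autoImplicit false

namespace Cfsg.Agent.Lib.Helper48

open Subgroup
open scoped commutatorElement
open Cfsg.Agent.Lib.Helper22 (conjS mem_conjS conjS_mem conjS_mul conjS_one conjS_eq_of_mem_normalizer)
open Cfsg.Agent.Lib.Helper47 (IsSylowIn)
open Cfsg.Agent.Lib.Helper11 (IsMaxIn)
open JCX (Vb Hb)

universe u

variable {X : Type u} [Group X] [Finite X] {S : Sylow 2 X} {A : Subgroup X}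
  {B : Subgroup (Equiv.Perm ↥(VV 2 X))} {b d : X}

theorem mem_zpowers_of_orderOf_three {G : Type*} [Group G] {d y : G} (hd : orderOf d = 3)
    (hy : y ∈ zpowers d) : y = 1 ∨ y = d ∨ y = d⁻¹ := by
  obtain ⟨k, rfl⟩ := mem_zpowers_iff.mp hy
  have hd3 : d ^ 3 = 1 := by rw [← hd]; exact pow_orderOf_eq_one d
  have h1 := zpow_mod_orderOf d k
  rw [hd] at h1
  have h2 : 0 ≤ k % 3 := Int.emod_nonneg _ (by norm_num)
  have h3 : k % 3 < 3 := Int.emod_lt_of_pos _ (by norm_num)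
  rw [← h1]
  push_cast
  interval_cases (k % 3)
  · left; simp
  · right; left; simp
  · right; right
    rw [eq_inv_iff_mul_eq_one]
    have : d ^ (2 : ℤ) * d = d ^ 3 := by
      rw [zpow_ofNat, ← pow_succ]
    rw [this, hd3]

namespace CD

abbrev KK (X : Type u) [Group X] (d : X) : Subgroup X := O2 (FF' X d)

abbrev PP (X : Type u) [Group X] (d : X) : Subgroup X := KK X d ⊓ R0 X

theorem d_mem_K (h : CD S A B b d) : d ∈ KK X d :=
  mem_O2 (mem_sup_right (mem_zpowers d)) (by rw [h.hd3]; decide)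

theorem d_pow (h : CD S A B b d) : d ^ 3 = 1 := by rw [← h.hd3]; exact pow_orderOf_eq_one d

theorem J_le_normalizer_K (h : CD S A B b d) :
    Cfsg.thompsonSubgroupOf 2 (S : Subgroup X) ≤ normalizer (KK X d : Set X) :=
  h.J_le_normalizer_F.trans (normalizer_le_normalizer_O2 _)

theorem le_normalizer_R0 (Y : Subgroup X) : Y ≤ normalizer (R0 X : Set X) := by
  rw [normalizer_eq_top]; exact le_top

theorem isPGroup_P (X : Type u) [Group X] (d : X) : IsPGroup 2 (PP X d) :=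
  (isPGroup_R0 X).to_le inf_le_right

theorem K_le_normalizer_P (X : Type u) [Group X] [Finite X] (d : X) :
    KK X d ≤ normalizer (PP X d : Set X) :=
  Cfsg.Agent.Lib.Helper62.le_normalizer_inf le_normalizer (le_normalizer_R0 _)

theorem K_eq_sup (h : CD S A B b d) : PP X d ⊔ zpowers d = KK X d := by
  apply le_antisymm (sup_le inf_le_left (zpowers_le.mpr h.d_mem_K))
  intro g hg
  obtain ⟨q, hq, y, hy, rfl⟩ := (Cfsg.Agent.Lib.Helper22.mem_sup_of_le_normalizer
    (le_normalizer_R0 (zpowers d))).mp (O2_le _ hg)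
  have hyK : y ∈ KK X d := (zpowers_le.mpr h.d_mem_K) hy
  refine mul_mem (mem_sup_left (mem_inf.mpr ⟨?_, hq⟩)) (mem_sup_right hy)
  have := mul_mem hg (inv_mem hyK)
  rwa [mul_inv_cancel_right] at this

theorem card_D (h : CD S A B b d) : Nat.card (zpowers d) = 3 := by
  rw [Nat.card_zpowers, h.hd3]

theorem P_inf_D (h : CD S A B b d) : PP X d ⊓ zpowers d = ⊥ :=
  eq_bot_of_isPGroup_of_not_dvd (by rw [h.card_D]; norm_num) inf_le_right
    ((isPGroup_P X d).to_le inf_le_left)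

theorem relIndex_P (h : CD S A B b d) : (PP X d).relIndex (KK X d) = 3 := by
  have h1 := Cfsg.Agent.Lib.Helper10.card_sup_mul_card_inf' (PP X d) (zpowers d)
    ((zpowers_le.mpr h.d_mem_K).trans (K_le_normalizer_P X d))
  rw [h.P_inf_D, card_bot, mul_one, h.K_eq_sup, h.card_D] at h1
  have h2 := relIndex_mul_relIndex ⊥ (PP X d) (KK X d) bot_le inf_le_left
  rw [relIndex_bot_left, relIndex_bot_left, h1] at h2
  have hpos : 0 < Nat.card (PP X d) := Nat.card_pos
  exact Nat.eq_of_mul_eq_mul_left hpos h2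

theorem comm_K_J (h : CD S A B b d) :
    ⁅KK X d, Cfsg.thompsonSubgroupOf 2 (S : Subgroup X)⁆ = KK X d := by
  apply le_antisymm (le_normalizer_iff_commutator_le_left.mp h.J_le_normalizer_K)
  set N := ⁅KK X d, Cfsg.thompsonSubgroupOf 2 (S : Subgroup X)⁆ with hN
  have hd2 : d * d ∈ N := by
    have h1 : ⁅d, b⁆ ∈ N := commutator_mem_commutator h.d_mem_K (h.A_le_J h.hb)
    have e : ⁅d, b⁆ = d * (b * d * b⁻¹)⁻¹ := by rw [commutatorElement_def]; group
    rwa [e, h.hbd, inv_inv] at h1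
  have hdN : d ∈ N := by
    have h1 := mul_mem hd2 hd2
    have e : d * d * (d * d) = d ^ 3 * d := by
      simp only [pow_succ, pow_zero, one_mul, mul_assoc]
    rwa [e, h.d_pow, one_mul] at h1
  have hKN : KK X d ≤ normalizer (N : Set X) := le_normalizer_commutator_left _ _
  have hle : KK X d ≤ N ⊔ PP X d := by
    conv_lhs => rw [← h.K_eq_sup]
    exact sup_le le_sup_right ((zpowers_le.mpr hdN).trans le_sup_left)
  apply le_of_odd_gen (O2_gen _)
  intro g hg hodd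
  exact mem_of_odd_of_mem_sup (isPGroup_P X d) (inf_le_left.trans hKN) (hle hg) hodd

theorem jcx (h : CD S A B b d) : JCX S (KK X d) (PP X d) :=
  ⟨O2_gen _, h.comm_K_J, inf_le_left, isPGroup_P X d, h.relIndex_P⟩

theorem pCoreOf_K (h : CD S A B b d) : Cfsg.pCoreOf 2 (KK X d) = PP X d :=
  pCoreOf_eq_of_relIndex_three inf_le_left (K_le_normalizer_P X d) (isPGroup_P X d) h.relIndex_P

theorem jd (h : CD S A B b d) : JD (KK X d) d :=
  ⟨h.d_mem_K, h.hd3, by rw [h.pCoreOf_K]; exact h.K_eq_sup⟩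

theorem map_K (h : CD S A B b d) : (KK X d).map (ps (VV 2 X)) = ⁅ppc 2 (Hb X), B⁆ := by
  rw [h.R_eq]
  apply le_antisymm
  · refine (map_mono (O2_le _)).trans ?_
    rw [Subgroup.map_sup, MonoidHom.map_zpowers]
    apply sup_le _ le_rfl
    have h1 : (R0 X).map (ps (VV 2 X)) = ⊥ := by
      rw [Subgroup.map_eq_bot_iff, ps_ker]
      exact inf_le_right
    rw [h1]
    exact bot_le
  · rw [zpowers_le]
    exact ⟨d, h.d_mem_K, rfl⟩

theorem P_le_S (_h : CD S A B b d) : PP X d ≤ (S : Subgroup X) :=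
  (inf_le_right.trans inf_le_left).trans (pCore_le_sylow S)

theorem w4 (h : CD S A B b d) : W4 (S : Subgroup X) A (Cfsg.wOf (KK X d)) d b := by
  have hAK : A ≤ normalizer (KK X d : Set X) := h.A_le_J.trans h.J_le_normalizer_K
  have hAU := hAK.trans (normalizer_le_normalizer_wOf _)
  have hdU : d ∈ normalizer (Cfsg.wOf (KK X d) : Set X) :=
    normalizer_le_normalizer_wOf _ (le_normalizer h.d_mem_K)
  refine ⟨h.hA, Cfsg.Agent.Lib.Helper10.IsEA.mono (isEA_omegaCenterOf _) (JD.wOf_le _),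
    (JS.W_le_P _).trans (h.pCoreOf_K ▸ h.P_le_S), hdU, h.d_pow, ?_, hAU, h.hb, h.hbd, ?_⟩
  · rw [← centralizer_zpowers_eq']
    exact h.jd.wOf_inf_centralizer
  · intro a ha
    have h1 : a * d * a⁻¹ ∈ PP X d ⊔ zpowers d := by
      rw [h.K_eq_sup]
      exact (mem_normalizer_iff.mp (hAK ha) d).mp h.d_mem_K
    obtain ⟨p, hp, y, hy, hpy⟩ := (Cfsg.Agent.Lib.Helper22.mem_sup_of_le_normalizer
      ((zpowers_le.mpr h.d_mem_K).trans (K_le_normalizer_P X d))).mp h1
    have hpC : p ∈ centralizer (Cfsg.wOf (KK X d) : Set X) :=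
      JS.P_le_cent _ (h.pCoreOf_K.symm ▸ hp)
    have key : ∀ y' : X, y' ∈ normalizer (Cfsg.wOf (KK X d) : Set X) → a * d * a⁻¹ = p * y' →
        ∀ u ∈ Cfsg.wOf (KK X d), a * (d * u * d⁻¹) * a⁻¹ = y' * (a * u * a⁻¹) * y'⁻¹ := by
      intro y' hy' he u hu
      have hau : a * u * a⁻¹ ∈ Cfsg.wOf (KK X d) := (mem_normalizer_iff.mp (hAU ha) u).mp hu
      have hyu : y' * (a * u * a⁻¹) * y'⁻¹ ∈ Cfsg.wOf (KK X d) :=
        (mem_normalizer_iff.mp hy' _).mp hau
      have h3 := mem_centralizer_iff.mp hpC _ hyu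
      calc a * (d * u * d⁻¹) * a⁻¹ = (a * d * a⁻¹) * (a * u * a⁻¹) * (a * d * a⁻¹)⁻¹ := by group
        _ = p * (y' * (a * u * a⁻¹) * y'⁻¹) * p⁻¹ := by rw [he]; group
        _ = _ := by rw [← h3, mul_inv_cancel_right]
    rcases mem_zpowers_of_orderOf_three h.hd3 hy with rfl | rfl | rfl
    · exfalso
      rw [mul_one] at hpy
      obtain ⟨m, hm⟩ := isPGroup_P X d ⟨p, hp⟩
      have hm' : p ^ 2 ^ m = 1 := congrArg Subtype.val hm
      rw [hpy, conj_pow, mul_inv_eq_one] at hm'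
      have h4 : d ^ 2 ^ m = 1 := mul_left_cancel (hm'.trans (mul_one a).symm)
      have h5 := orderOf_dvd_of_pow_eq_one h4
      rw [h.hd3] at h5
      have := Nat.Prime.dvd_of_dvd_pow Nat.prime_three h5
      norm_num at this
    · left
      exact ⟨hAU ha, key y hdU hpy.symm⟩
    · right
      intro u hu
      have := key d⁻¹ (inv_mem hdU) hpy.symm u hu
      rwa [inv_inv] at this

theorem comm_VV_le (h : CD S A B b d) : ⁅VV 2 X, KK X d⁆ ≤ Cfsg.wOf (KK X d) := by
  haveI : Fact (Nat.Prime 3) := ⟨Nat.prime_three⟩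
  obtain ⟨hV, -⟩ := VV_facts h.lx.hsep h.lx.hO
  have hVcomm := (Cfsg.Agent.Lib.Helper10.isEA_iff.mp hV).1
  have hVC : VV 2 X ≤ centralizer (VV 2 X : Set X) := by
    intro v hv
    rw [mem_centralizer_iff]
    intro w hw
    exact hVcomm w hw v hv
  have hPC : PP X d ≤ centralizer (VV 2 X : Set X) := inf_le_right.trans inf_le_right
  have hVK : VV 2 X ≤ normalizer (KK X d : Set X) :=
    hVC.trans (h.jcx.centralizer_le_normalizer h.lx)
  have hW₀K : ⁅VV 2 X, KK X d⁆ ≤ KK X d := by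
    rw [commutator_comm]
    exact le_normalizer_iff_commutator_le_left.mp hVK
  have hW₀V := JCX.commutator_VV_le (KK X d)
  have hW₀P : ⁅VV 2 X, KK X d⁆ ≤ PP X d :=
    (le_inf hW₀K (hW₀V.trans hVC)).trans (h.jcx.inf_centralizer_le h.lx)
  have hW₀U : ⁅VV 2 X, KK X d⁆ ≤ Cfsg.omegaCenterOf (Cfsg.pCoreOf 2 (KK X d)) := by
    rw [h.pCoreOf_K]
    intro x hx
    apply Subgroup.subset_closure
    refine ⟨mem_inf.mpr ⟨hW₀P hx, ?_⟩, hV.2 x (hW₀V hx)⟩
    exact le_centralizer_iff.mp hPC (hW₀V hx)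
  have hn : ∀ Y : Subgroup X, Y ≤ normalizer (VV 2 X : Set X) := by
    intro Y
    rw [normalizer_eq_top]; exact le_top
  have h1 : ⁅VV 2 X, KK X d⁆ = ⁅VV 2 X, zpowers d⁆ := by
    conv_lhs => rw [← h.K_eq_sup]
    rw [commutator_sup_eq (hn _) (hn _)]
    have h2 : ⁅VV 2 X, PP X d⁆ = ⊥ := by
      rw [commutator_eq_bot_iff_le_centralizer]
      exact le_centralizer_iff.mp hPC
    rw [h2, bot_sup_eq]
  have h3 : ¬ 3 ∣ Nat.card (VV 2 X) := by
    obtain ⟨n, hn'⟩ := IsPGroup.iff_card.mp (Cfsg.Agent.Lib.Helper10.IsEA.isPGroup hV)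
    rw [hn']
    intro h3
    have := Nat.Prime.dvd_of_dvd_pow Nat.prime_three h3
    norm_num at this
  have h4 := Cfsg.Agent.Lib.Helper22.commutator_commutator_eq (zpowers d) (VV 2 X) h.jd.isPGroup_D
    h3 (hn _)
  rw [← h1] at h4
  conv_lhs => rw [← h4]
  exact commutator_mono hW₀U h.jd.D_le

theorem isJComponent (h : CD S A B b d) : Cfsg.IsJComponent (S : Subgroup X) (KK X d) := by
  have hw4 := h.w4
  refine ⟨O2_gen _, h.comm_K_J, by rw [h.pCoreOf_K]; exact h.relIndex_P, ?_, ?_, ?_⟩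
  · intro S' hS' hJS'
    exact J_eq_of_le_sylow (Cfsg.Agent.Lib.Helper47.isSylowIn_top S) hS'.2.1 le_top hJS'
  · apply le_antisymm hw4.card_le
    rw [← h.jcx.card_commutator_VV h.lx]
    exact card_le_of_le h.comm_VV_le
  · intro w hw
    rw [← pow_two]
    exact hw4.hU.2 w hw

end CD

end Cfsg.Agent.Lib.Helper48
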