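import Cfsg.Agent.Lib.Helper48.JC18

/-!
Existence of `J(S)`-components (type level) and transport to the ambient group.
-/

set_option autoImplicit false

namespace Cfsg.Agent.Lib.Helper48

open Subgroup
open scoped commutatorElement
open Cfsg.Agent.Lib.Helper22 (conjS mem_conjS conjS_mem conjS_mul conjS_one conjS_eq_of_mem_normalizer)
open Cfsg.Agent.Lib.Helper47 (IsSylowIn)
open Cfsg.Agent.Lib.Helper11 (IsMaxIn)
open JCX (Vb Hb)

universe u

section

variable {X : Type u} [Group X] [Finite X] {S : Sylow 2 X}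

theorem mea_of_maxEA {A : Subgroup X} (hA : A ∈ Cfsg.maxElementaryAbelianSubgroups 2 X)
    {T : Subgroup X} (hAT : A ≤ T) : MEA T A :=
  ⟨hAT, hA.1, fun C _ hC => hA.2 C hC⟩

/-- the image of a largest elementary abelian subgroup is generated by minimal offenders -/
theorem LX.map_le_of_mo (h : LX S) {A : Subgroup X}
    (hA : A ∈ Cfsg.maxElementaryAbelianSubgroups 2 X)
    (M : Subgroup (Equiv.Perm ↥(VV 2 X)))
    (hM : ∀ B, MO 2 (Vb X) (Hb X) B → B ≤ A.map (ps (VV 2 X)) → B ≤ M) :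
    A.map (ps (VV 2 X)) ≤ M := by
  obtain ⟨hV, hD⟩ := VV_facts h.hsep h.hO
  haveI hJXc : (Cfsg.thompsonSubgroup 2 X).Characteristic :=
    (Cfsg.Agent.S0602.result (G := X) (p := 2)).1
  exact best_le_of_char (VV 2 X) hV h.hsep (J := Cfsg.thompsonSubgroup 2 X) inferInstance
      (Cfsg.maxElementaryAbelianSubgroups 2 X) rfl
      (fun A hA => Cfsg.Agent.S0606.result (VV 2 X) hV A hA) hD
      (fun h' => h.hnf (isThompsonFactorizable_of_le h')) hA M hM

theorem LX.exists_A_B (h : LX S) : ∃ A B, MEA (S : Subgroup X) A ∧ MO 2 (Vb X) (Hb X) B ∧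
    B ≤ A.map (ps (VV 2 X)) := by
  by_contra hcon
  push Not at hcon
  apply h.hJ
  refine (le_inf (thompsonSubgroupOf_le' 2 _) ?_).trans h.inf_le_pCore
  apply thompsonSubgroupOf_sylow_le
  intro A hA hAS
  rw [← ps_ker, ← Subgroup.map_eq_bot_iff, eq_bot_iff]
  apply h.map_le_of_mo hA
  intro B hB hBA
  exact absurd hBA (hcon A B (mea_of_maxEA hA hAS) hB)

theorem LX.exists_comp (h : LX S) : ∃ K, Cfsg.IsJComponent (S : Subgroup X) K := by
  obtain ⟨A, B, hA, hB, hBA⟩ := h.exists_A_B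
  obtain ⟨b, d, hcd⟩ := exists_cd h hA hB hBA
  exact ⟨_, hcd.isJComponent⟩

end

section

variable {G : Type u} [Group G] [Finite G] {T L : Subgroup G}

theorem isJComponent_map (hsyl : IsSylowIn 2 T L) {K : Subgroup ↥L}
    (hK : Cfsg.IsJComponent (T.subgroupOf L) K) : Cfsg.IsJComponent T (K.map L.subtype) := by
  have hKL : K.map L.subtype ≤ L := map_subtype_le K
  have hP : Cfsg.pCoreOf 2 (K.map L.subtype) = (Cfsg.pCoreOf 2 K).map L.subtype := by
    apply pCoreOf_eq_of_relIndex_three (map_mono (Cfsg.Agent.Lib.Helper49.pCoreOf_le 2 K))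
      ((map_mono (Cfsg.Agent.Lib.Helper49.le_normalizer_pCoreOf 2 K)).trans (le_normalizer_map _))
      ((Cfsg.Agent.Lib.Helper49.pCoreOf_isPGroup 2 K).map _)
    rw [relIndex_map_map_of_injective _ _ L.subtype_injective]
    exact hK.2.2.1
  have hW : Cfsg.wOf (K.map L.subtype) = (Cfsg.wOf K).map L.subtype := by
    unfold Cfsg.wOf Cfsg.omegaCenterOf
    rw [hP, omegaOne_center_map L.subtype _ (ker_subtype_inf L _), Subgroup.map_commutator]
  refine ⟨?_, ?_, ?_, ?_, ?_, ?_⟩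
  · conv_rhs => rw [← hK.1]
    rw [MonoidHom.map_closure]
    congr 1
    ext g
    constructor
    · rintro ⟨⟨x, hx, rfl⟩, hodd⟩
      refine ⟨x, ⟨hx, ?_⟩, rfl⟩
      rw [← Subgroup.orderOf_coe]
      exact hodd
    · rintro ⟨x, ⟨hx, hodd⟩, rfl⟩
      refine ⟨⟨x, hx, rfl⟩, ?_⟩
      rw [Subgroup.coe_subtype, Subgroup.orderOf_coe]
      exact hodd
  · conv_rhs => rw [← hK.2.1]
    rw [Subgroup.map_commutator, thompsonSubgroupOf_subgroupOf hsyl.le]
  · rw [hP, relIndex_map_map_of_injective _ _ L.subtype_injective]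
    exact hK.2.2.1
  · intro S' hS' hJS'
    exact J_eq_of_le_sylow hsyl hS'.2.1
      (hS'.1.trans (sup_le hKL ((thompsonSubgroupOf_le' 2 T).trans hsyl.le))) hJS'
  · rw [hW, Subgroup.card_map_of_injective L.subtype_injective]
    exact hK.2.2.2.2.1
  · rw [hW]
    rintro _ ⟨w, hw, rfl⟩
    have := hK.2.2.2.2.2 w hw
    rw [← map_mul, this, map_one]

theorem exists_comp_of_mem (zn : ZN G) (hT1 : T ≠ ⊥) (hLT : L ∈ Cfsg.jOvergroups T) :
    ∃ K, Cfsg.IsJComponent T K ∧ K ≤ L := by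
  obtain ⟨K, hK⟩ := (lx_of_mem zn hT1 hLT).exists_comp
  rw [IsSylowIn.coe_toSylow] at hK
  exact ⟨_, isJComponent_map (isSylowIn_of_two hLT.1) hK, map_subtype_le K⟩

end

end Cfsg.Agent.Lib.Helper48
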