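import Cfsg.Agent.Lib.Helper48.JC1

/-!
`J(T)`-components: further facts on FF-pairs.
-/

set_option autoImplicit false

namespace Cfsg.Agent.Lib.Helper48

open Subgroup
open scoped commutatorElement
open Cfsg.Agent.Lib.Helper22 (conjS mem_conjS conjS_mem conjS_mul conjS_one conjS_eq_of_mem_normalizer)

section

variable {G : Type*} [Group G]

theorem MO.card_R [Finite G] {p : ℕ} [hp : Fact p.Prime] {V H A : Subgroup G} (h : MO p V H A) :
    Nat.card ↥⁅ppc p H, A⁆ = p ^ 2 - 1 := by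
  obtain ⟨x, hx, hxA⟩ := h.exists_x
  rw [← h.E_inf_ppc, h.E_eq hx hxA]
  exact (h.tp hx hxA).card_N

theorem MO.H_le_normalizer_R [Finite G] {p : ℕ} [hp : Fact p.Prime] {V H A : Subgroup G}
    (h : MO p V H A) (hg : FG p V H) : H ≤ normalizer ((⁅ppc p H, A⁆ : Subgroup G) : Set G) := by
  rw [← h.E_inf_ppc]
  exact Cfsg.Agent.Lib.Helper62.le_normalizer_inf (h.H_le_normalizer_E hg) (le_normalizer_ppc p H)

theorem FG.le_ppc_sup [Finite G] {p : ℕ} [hp : Fact p.Prime] {V H T : Subgroup G} (hg : FG p V H)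
    (hT : Cfsg.Agent.Lib.Helper22.IsSylowIn p T H) : H ≤ ppc p H ⊔ T := by
  apply hg.gen
  intro B hB
  obtain ⟨T', hT', hBT'⟩ := Cfsg.Agent.Lib.Helper22.exists_isSylowIn_ge hB.isPGroup_A hB.hAH
  obtain ⟨k, hk, hkT⟩ := hT'.exists_conj hT
  have hA := hB.conj hk
  have hAT : conjS k B ≤ T := hkT ▸ conjS_mono k hBT'
  have hEE : EE p H (conjS k B) = EE p H B := by
    rw [hB.EE_conj hk]
    exact conjS_eq_of_mem_normalizer (hB.H_le_normalizer_E hg hk)
  refine (le_sup_right : B ≤ EE p H B).trans ?_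
  change EE p H B ≤ _
  rw [← hEE]
  exact sup_le_sup hA.R_le hAT

theorem FG.mem_ppc_of_odd [Finite G] {V H : Subgroup G} (hg : FG 2 V H) {h : G} (hh : h ∈ H)
    (hodd : Odd (orderOf h)) : h ∈ ppc 2 H := by
  obtain ⟨T, hT, -⟩ := Cfsg.Agent.Lib.Helper22.exists_isSylowIn_ge (q := 2) (U := ⊥) (K := H)
    IsPGroup.of_bot bot_le
  exact mem_of_odd_of_mem_sup hT.isPGroup (hT.le.trans (le_normalizer_ppc 2 H))
    (hg.le_ppc_sup hT hh) hodd

end

section

variable {K : Type*} [Group K] (V : Subgroup K) [V.Characteristic]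

/-- the image of a best offender is generated by the minimal offenders it contains -/
theorem best_le_of_char [Finite K] {p : ℕ} [hp : Fact p.Prime] (hV : Cfsg.IsElementaryAbelian p V)
    (hsol : Cfsg.IsPSolvable p K) {J : Subgroup K} (hJ : J.Normal) (𝒜 : Set (Subgroup K))
    (hJA : J = sSup 𝒜) (h𝒜 : ∀ A ∈ 𝒜, Cfsg.IsBestOffenderOn p V A)
    (hD : ∀ D : Subgroup K, D.Normal → centralizer (V : Set K) ≤ D →
      (∃ k : ℕ, (centralizer (V : Set K)).relIndex D = p ^ k) → D = centralizer (V : Set K))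
    (hne : ¬ J ≤ centralizer (V : Set K)) {A : Subgroup K} (hA : A ∈ 𝒜)
    (M : Subgroup (Equiv.Perm V))
    (hM : ∀ B, MO p (la V).range (J.map (ps V)) B → B ≤ A.map (ps V) → B ≤ M) :
    A.map (ps V) ≤ M := by
  have hH1 : J.map (ps V) ≠ ⊥ := by
    intro h
    apply hne
    rw [← ps_ker]
    exact (Subgroup.map_eq_bot_iff _).mp h
  have h1 := isElementaryAbelian_range_la V hV
  have h2 : J.map (ps V) ≤ normalizer ((la V).range : Set (Equiv.Perm V)) :=
    (map_ps_le_range_Th V J).trans (range_Th_le_normalizer V)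
  have h3 : J.map (ps V) ⊓ centralizer ((la V).range : Set (Equiv.Perm V)) = ⊥ := by
    rw [eq_bot_iff, ← range_Th_inf_centralizer V]
    exact inf_le_inf_right _ (map_ps_le_range_Th V J)
  have h4 : centralizer (Cfsg.pPrimeCore p ↥(J.map (ps V)) : Set ↥(J.map (ps V))) ≤
      Cfsg.pPrimeCore p ↥(J.map (ps V)) := by
    apply centralizer_pPrimeCore_le _ (pCore_map_ps_eq_bot V hJ hD)
    exact Cfsg.Agent.Lib.Helper69.isPSolvable_of_surj ((ps V).subgroupMap J)
      ((ps V).subgroupMap_surjective J) (Cfsg.Agent.Lib.Helper69.isPSolvable_subgroup J hsol)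
  have h5 : J.map (ps V) = ⨆ A' : {A' : Subgroup (Equiv.Perm V) // A' ≤ J.map (ps V) ∧
      Cfsg.IsBestOffenderOn p (la V).range A'}, (A' : Subgroup (Equiv.Perm V)) := by
    apply le_antisymm
    · rw [map_le_iff_le_comap, hJA]
      apply sSup_le
      intro A hA
      rw [← map_le_iff_le_comap, ← hJA]
      exact le_iSup (fun A' : {A' : Subgroup (Equiv.Perm V) // A' ≤ J.map (ps V) ∧
        Cfsg.IsBestOffenderOn p (la V).range A'} => (A' : Subgroup (Equiv.Perm V)))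
        ⟨A.map (ps V), map_mono (hJA ▸ le_sSup hA), isBestOffenderOn_map_ps V (h𝒜 A hA)⟩
    · exact iSup_le (fun A' => A'.2.1)
  have hAJ : A.map (ps V) ≤ J.map (ps V) := map_mono (hJA ▸ le_sSup hA)
  by_cases hA1 : A.map (ps V) = ⊥
  · rw [hA1]; exact bot_le
  obtain ⟨k, B, hB, -, hsup⟩ := Cfsg.Agent.S0612.result _ _ h1 h2 h3 h4 h5 hH1 (A.map (ps V)) hAJ
    (isBestOffenderOn_map_ps V (h𝒜 A hA)) hA1
  rw [← hsup]
  exact iSup_le (fun i => hM (B i) (mo_of_minimal _ _ h1 h2 h3 h4 h5 hH1 (B i)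
    ((hB i).1.trans hAJ) (hB i).2.1 (hB i).2.2.1 (hB i).2.2.2) (hB i).1)

end

end Cfsg.Agent.Lib.Helper48
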