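import Cfsg.Agent.Lib.Helper48.JC19
import Cfsg.Agent.S0652

/-!
Maximal straddling `2`-subgroups relative to a `2`-local `M ≥ N_G(J(S))`.
-/

set_option autoImplicit false

namespace Cfsg.Agent.Lib.Helper48

open Subgroup
open scoped commutatorElement
open Cfsg.Agent.Lib.Helper22 (conjS mem_conjS conjS_mem conjS_mul conjS_one conjS_eq_of_mem_normalizer)
open Cfsg.Agent.Lib.Helper47 (IsSylowIn)
open Cfsg.Agent.Lib.Helper11 (IsMaxIn)

universe u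

variable {G : Type u} [Group G] [Finite G]

theorem maxElemAbelianOrder_eq {T A : Subgroup G} (hA : MEA T A) :
    Cfsg.maxElemAbelianOrder T = Nat.card A := by
  unfold Cfsg.maxElemAbelianOrder
  have : (fun A : Subgroup ↥T => Nat.card ↥A) '' Cfsg.maxElementaryAbelianSubgroups 2 ↥T =
      {Nat.card A} := by
    ext n
    constructor
    · rintro ⟨A', hA', rfl⟩
      have h1 : MEA T (A'.map T.subtype) :=
        (Cfsg.Agent.S0652.mem_family_iff 2 T _).mp ⟨A', hA', rfl⟩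
      rw [Set.mem_singleton_iff, ← h1.card_eq hA, card_map_of_injective T.subtype_injective]
    · rintro rfl
      obtain ⟨A', hA', rfl⟩ := (Cfsg.Agent.S0652.mem_family_iff 2 T A).mpr hA
      exact ⟨A', hA', (card_map_of_injective T.subtype_injective).symm⟩
  rw [this, csSup_singleton]

theorem J_ne_bot {T : Subgroup G} (hT2 : IsPGroup 2 T) (hT1 : T ≠ ⊥) :
    Cfsg.thompsonSubgroupOf 2 T ≠ ⊥ := by
  intro hbot
  obtain ⟨A, hA⟩ := exists_mea T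
  have hA1 : A = ⊥ := le_bot_iff.mp (hbot ▸ hA.le_J)
  obtain ⟨n, hn⟩ := IsPGroup.iff_card.mp hT2
  have hn0 : n ≠ 0 := by
    rintro rfl
    rw [pow_zero] at hn
    exact hT1 (Subgroup.card_eq_one.mp hn)
  have h2 : 2 ∣ Nat.card T := by rw [hn]; exact dvd_pow_self 2 hn0
  obtain ⟨x, hx⟩ := exists_prime_orderOf_dvd_card' 2 h2
  have hx2 : (x : G) ^ 2 = 1 := by
    have := pow_orderOf_eq_one x
    rw [hx] at this
    exact congrArg Subtype.val this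
  have h3 := hA.2.2 (zpowers (x : G)) (zpowers_le.mpr x.2)
    (Cfsg.Agent.Lib.Helper10.isEA_zpowers hx2)
  rw [hA1, card_bot, Nat.card_zpowers, Subgroup.orderOf_coe, hx] at h3
  norm_num at h3

variable {M T : Subgroup G}

theorem max_step (hT : T ∈ Cfsg.maxStraddlingTwoSubgroups M) {T₁ : Subgroup G}
    (hT₁ : T₁ ∈ Cfsg.straddlingTwoSubgroups M) (hJ : Cfsg.thompsonSubgroupOf 2 T ≤ T₁) :
    Cfsg.thompsonSubgroupOf 2 T₁ = Cfsg.thompsonSubgroupOf 2 T ∧ Nat.card T₁ ≤ Nat.card T := by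
  obtain ⟨A, hA⟩ := exists_mea T
  obtain ⟨A₁, hA₁⟩ := exists_mea T₁
  obtain ⟨h1, h2⟩ := hT.2 T₁ hT₁
  rw [maxElemAbelianOrder_eq hA, maxElemAbelianOrder_eq hA₁] at h1 h2
  have hc : Nat.card A = Nat.card A₁ := le_antisymm (hA₁.2.2 A (hA.le_J.trans hJ) hA.2.1) h1
  obtain ⟨h3, h4⟩ := h2 hc.symm
  have h5 := J_le_J_of_card hA hA₁ hc hJ
  have h6 := eq_of_le_of_card_ge h5 h3
  exact ⟨h6.symm, h4 (by rw [h6])⟩

theorem sylow_le_of (S : Sylow 2 G)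
    (hMJ : normalizer (Cfsg.thompsonSubgroupOf 2 (S : Subgroup G) : Set G) ≤ M) :
    (S : Subgroup G) ≤ M :=
  (le_normalizer.trans (normalizer_le_normalizer_thompsonSubgroupOf 2 _)).trans hMJ

/-- `N_G(J(T)) ≤ M` -/
theorem normalizer_J_le (S : Sylow 2 G)
    (hMJ : normalizer (Cfsg.thompsonSubgroupOf 2 (S : Subgroup G) : Set G) ≤ M)
    (hT : T ∈ Cfsg.maxStraddlingTwoSubgroups M) :
    normalizer (Cfsg.thompsonSubgroupOf 2 T : Set G) ≤ M := by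
  by_contra hcon
  obtain ⟨hT2, hT1, hTM, -⟩ := hT.1
  have hSM := sylow_le_of S hMJ
  obtain ⟨m, hm, hTm⟩ := (Cfsg.Agent.Lib.Helper47.isSylowIn_of_sylow S hSM).exists_conj_ge hT2 hTM
  change T ≤ conjS m (S : Subgroup G) at hTm
  have hMm : conjS m M = M := conjS_eq_of_mem_normalizer (le_normalizer hm)
  have hS₁M : conjS m (S : Subgroup G) ≤ M := by
    rw [← hMm]; exact conjS_mono m hSM
  have hS₁2 : IsPGroup 2 (conjS m (S : Subgroup G)) := S.2.map _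
  have hne : T ≠ conjS m (S : Subgroup G) := by
    intro he
    apply hcon
    rw [he, thompsonSubgroupOf_conjS]
    intro x hx
    have h1 := le_normalizer_conjS m⁻¹ (zpowers_le.mpr hx)
    rw [conjS_inv_conjS] at h1
    have h2 : m⁻¹ * x * m⁻¹⁻¹ ∈ M := hMJ (h1 (conjS_mem (mem_zpowers x)))
    have h3 := mul_mem (mul_mem hm h2) (inv_mem hm)
    have e : m * (m⁻¹ * x * m⁻¹⁻¹) * m⁻¹ = x := by group
    rwa [e] at h3
  obtain ⟨x, hxS, hxN, hxT⟩ :=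
    Cfsg.Agent.Lib.Helper22.exists_mem_normalizer_not_mem hS₁2 (lt_of_le_of_ne hTm hne)
  have hle : T ⊔ zpowers x ≤ conjS m (S : Subgroup G) := sup_le hTm (zpowers_le.mpr hxS)
  have hmem : T ⊔ zpowers x ∈ Cfsg.straddlingTwoSubgroups M := by
    refine ⟨hS₁2.to_le hle, ?_, hle.trans hS₁M, _, ⟨_, hT2.to_le (thompsonSubgroupOf_le' 2 T),
      J_ne_bot hT2 hT1, rfl⟩, ?_, hcon⟩
    · intro h
      apply hT1
      rw [eq_bot_iff, ← h]
      exact le_sup_left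
    · exact (sup_le le_normalizer (zpowers_le.mpr hxN)).trans
        (normalizer_le_normalizer_thompsonSubgroupOf 2 T)
  have h1 := (max_step hT hmem ((thompsonSubgroupOf_le' 2 T).trans le_sup_left)).2
  have h2 : T = T ⊔ zpowers x := eq_of_le_of_card_ge le_sup_left h1
  apply hxT
  rw [h2]
  exact le_sup_right (a := T) (mem_zpowers x)

theorem straddling_of_J_le (S : Sylow 2 G)
    (hMJ : normalizer (Cfsg.thompsonSubgroupOf 2 (S : Subgroup G) : Set G) ≤ M)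
    (hT : T ∈ Cfsg.maxStraddlingTwoSubgroups M) {L T₀ : Subgroup G} (hL2 : Cfsg.IsTwoLocal L)
    (hLM : ¬ L ≤ M) (hT₀2 : IsPGroup 2 T₀) (hT₀L : T₀ ≤ L)
    (hJ : Cfsg.thompsonSubgroupOf 2 T ≤ T₀) :
    T₀ ∈ Cfsg.straddlingTwoSubgroups M ∧
      Cfsg.thompsonSubgroupOf 2 T₀ = Cfsg.thompsonSubgroupOf 2 T ∧ Nat.card T₀ ≤ Nat.card T := by
  obtain ⟨hT2, hT1, hTM, -⟩ := hT.1
  have hJ2 : Cfsg.thompsonSubgroupOf 2 T ≤ T₀ ⊓ M := le_inf hJ ((thompsonSubgroupOf_le' 2 T).trans hTM)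
  have hmem : T₀ ⊓ M ∈ Cfsg.straddlingTwoSubgroups M := by
    refine ⟨hT₀2.to_le inf_le_left, ?_, inf_le_right, L, hL2, inf_le_left.trans hT₀L, hLM⟩
    intro h
    apply J_ne_bot hT2 hT1
    rw [eq_bot_iff, ← h]
    exact hJ2
  have h1 := (max_step hT hmem hJ2).1
  have h2 : T₀ ⊓ M = T₀ := by
    by_contra hne
    obtain ⟨x, hxT, hxN, hx⟩ :=
      Cfsg.Agent.Lib.Helper22.exists_mem_normalizer_not_mem hT₀2 (lt_of_le_of_ne inf_le_left hne)
    apply hx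
    refine mem_inf.mpr ⟨hxT, normalizer_J_le S hMJ hT ?_⟩
    rw [← h1]
    exact normalizer_le_normalizer_thompsonSubgroupOf 2 _ hxN
  rw [h2] at hmem
  exact ⟨hmem, max_step hT hmem hJ⟩

theorem mem_jOvergroups_of (zn : ZN G) (S : Sylow 2 G)
    (hMJ : normalizer (Cfsg.thompsonSubgroupOf 2 (S : Subgroup G) : Set G) ≤ M)
    (hT : T ∈ Cfsg.maxStraddlingTwoSubgroups M) {L T₀ : Subgroup G} (hL2 : Cfsg.IsTwoLocal L)
    (hLM : ¬ L ≤ M) (hT₀ : IsSylowIn 2 T₀ L) (hJ : Cfsg.thompsonSubgroupOf 2 T ≤ T₀) :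
    L ∈ Cfsg.jOvergroups T₀ := by
  obtain ⟨-, hJJ, -⟩ := straddling_of_J_le S hMJ hT hL2 hLM hT₀.isPGroup hT₀.le hJ
  refine ⟨isSylowTwoIn_of hT₀, ?_, ?_⟩
  · intro hle
    apply hLM
    have h1 := J_eq_of_le_sylow hT₀ (Cfsg.Agent.Lib.Helper49.pCoreOf_isPGroup 2 L)
      (Cfsg.Agent.Lib.Helper49.pCoreOf_le 2 L) hle
    refine ((Cfsg.Agent.Lib.Helper49.le_normalizer_pCoreOf 2 L).trans
      (normalizer_le_normalizer_thompsonSubgroupOf 2 _)).trans ?_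
    rw [h1, hJJ]
    exact normalizer_J_le S hMJ hT
  · obtain ⟨U, hU2, hU1, rfl⟩ := hL2
    exact centralizer_pCoreOf_le zn hU2 hU1

theorem isSylowIn_of_le (S : Sylow 2 G)
    (hMJ : normalizer (Cfsg.thompsonSubgroupOf 2 (S : Subgroup G) : Set G) ≤ M)
    (hT : T ∈ Cfsg.maxStraddlingTwoSubgroups M) {L : Subgroup G} (hL2 : Cfsg.IsTwoLocal L)
    (hLM : ¬ L ≤ M) (hTL : T ≤ L) : IsSylowIn 2 T L := by
  obtain ⟨T₀, hT₀, hTT₀⟩ := Cfsg.Agent.Lib.Helper47.exists_isSylowIn_ge hT.1.1 hTL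
  obtain ⟨-, -, hc⟩ := straddling_of_J_le S hMJ hT hL2 hLM hT₀.isPGroup hT₀.le
    ((thompsonSubgroupOf_le' 2 T).trans hTT₀)
  rw [eq_of_le_of_card_ge hTT₀ hc]
  exact hT₀

end Cfsg.Agent.Lib.Helper48
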