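import Cfsg.Agent.Lib.Helper48.JC22
import Cfsg.Agent.Lib.Helper47.AxB

/-!
An element of order three acting on an FF-pair with a small commutator (ambient form).
-/

set_option autoImplicit false

namespace Cfsg.Agent.Lib.Helper48

open Subgroup
open scoped commutatorElement
open Cfsg.Agent.Lib.Helper22 (conjS mem_conjS conjS_mem conjS_mul conjS_one conjS_eq_of_mem_normalizer)
open Cfsg.Agent.Lib.Helper62 (SubnIn)

variable {G : Type*} [Group G]

/-- an `H`-invariant subgroup containing the fixed points of a `2`-subgroup of `H` contains all the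
modules `[V, E]` -/
theorem MO.W_le_of [Finite G] {V H B Y A : Subgroup G} (h : MO 2 V H B) (hg : FG 2 V H)
    (hYn : H ≤ normalizer (Y : Set G)) (hAH : A ≤ H) (hA2 : IsPGroup 2 A)
    (hAY : V ⊓ centralizer (A : Set G) ≤ Y) : ⁅V, EE 2 H B⁆ ≤ Y := by
  haveI : Fact (Nat.Prime 2) := ⟨Nat.prime_two⟩
  have hW2 : IsPGroup 2 ↥⁅V, EE 2 H B⁆ := h.ff.isPGroup.to_le h.W_le
  have hW1 : ⁅V, EE 2 H B⁆ ≠ ⊥ := by
    intro h0
    have := h.card_W
    rw [h0, card_bot] at this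
    norm_num at this
  have h1 := Cfsg.Agent.Lib.Helper47.inf_centralizer_ne_bot hW2 hA2 hW1
    (hAH.trans (h.H_le_normalizer_W hg))
  have h2 : ⁅V, EE 2 H B⁆ ⊓ Y ≠ ⊥ := by
    intro h0
    apply h1
    rw [eq_bot_iff, ← h0]
    exact le_inf inf_le_left ((inf_le_inf_right _ h.W_le).trans hAY)
  have hip := h.ip_R (SubnIn.refl _)
  have hRH : ⁅ppc 2 H, B⁆ ≤ H := h.R_le.trans (ppc_le 2 H)
  have hRn : ⁅ppc 2 H, B⁆ ≤ normalizer ((⁅V, EE 2 H B⁆ ⊓ Y : Subgroup G) : Set G) :=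
    Cfsg.Agent.Lib.Helper62.le_normalizer_inf (hRH.trans (h.H_le_normalizer_W hg)) (hRH.trans hYn)
  rcases hip.irr (⁅V, EE 2 H B⁆ ⊓ Y) (by rw [h.comm_R]; exact inf_le_left) hRn with h3 | h3
  · exact absurd h3 h2
  · rw [h.comm_R] at h3
    exact inf_eq_left.mp h3

/-- an element centralizing all the modules `[V, E]` centralizes `H` -/
theorem FG.le_centralizer_of [Finite G] {V H : Subgroup G} {δ : G} (hg : FG 2 V H)
    (hδV : δ ∈ normalizer (V : Set G)) (hδH : δ ∈ normalizer (H : Set G))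
    (hc : ∀ B, MO 2 V H B → δ ∈ centralizer ((⁅V, EE 2 H B⁆ : Subgroup G) : Set G)) :
    H ≤ centralizer ({δ} : Set G) := by
  haveI : Fact (Nat.Prime 2) := ⟨Nat.prime_two⟩
  apply hg.gen
  intro B hB
  have hB' := hB.conj' hδV hδH
  have hWW : ⁅V, EE 2 H (conjS δ B)⁆ = ⁅V, EE 2 H B⁆ := by
    rw [hB.W_conj' hδV hδH]
    exact conjS_eq_of_mem_normalizer (centralizer_le_normalizer _ (hc B hB))
  have hEE := hB.E_eq_of_W_eq hB' hg hWW
  rw [hB.EE_conj' hδH] at hEE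
  intro b hb
  have hbE : b ∈ EE 2 H B := (le_sup_right : B ≤ EE 2 H B) hb
  have h1 : δ * b * δ⁻¹ ∈ EE 2 H B := by
    rw [← hEE]
    exact conjS_mem hbE
  have h2 : δ * b * δ⁻¹ * b⁻¹ ∈
      EE 2 H B ⊓ centralizer ((⁅V, EE 2 H B⁆ : Subgroup G) : Set G) := by
    refine mem_inf.mpr ⟨mul_mem h1 (inv_mem hbE), ?_⟩
    have h3 := Cfsg.Agent.S2909.conj_mem_centralizer (hB.E_le_normalizer_W hbE)
      (inv_mem (hc B hB))
    have e : δ * b * δ⁻¹ * b⁻¹ = δ * (b * δ⁻¹ * b⁻¹) := by group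
    rw [e]
    exact mul_mem (hc B hB) h3
  rw [hB.faithful, mem_bot] at h2
  rw [mem_centralizer_singleton_iff]
  have e : b * δ = (δ * b * δ⁻¹ * b⁻¹)⁻¹ * (δ * b) := by group
  rw [e, h2, inv_one, one_mul]

/-- an element of order three with a commutator of order at most four normalizes all the modules -/
theorem MO.mem_normalizer_W_of [Finite G] {V H B Y W : Subgroup G} {δ : G} (h : MO 2 V H B)
    (hg : FG 2 V H) (hδV : δ ∈ normalizer (V : Set G)) (hδH : δ ∈ normalizer (H : Set G))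
    (hδ3 : δ ^ 3 = 1) (hY : ∀ B', MO 2 V H B' → ⁅V, EE 2 H B'⁆ ≤ Y)
    (hW : ∀ y ∈ Y, ⁅y, δ⁆ ∈ W) (hW4 : Nat.card W ≤ 4) :
    δ ∈ normalizer ((⁅V, EE 2 H B⁆ : Subgroup G) : Set G) := by
  haveI : Fact (Nat.Prime 2) := ⟨Nat.prime_two⟩
  by_contra hn
  set W₀ := ⁅V, EE 2 H B⁆ with hW₀
  have hB1 := h.conj' hδV hδH
  have hB2 := hB1.conj' hδV hδH
  have e1 : ⁅V, EE 2 H (conjS δ B)⁆ = conjS δ W₀ := h.W_conj' hδV hδH
  have e2 : ⁅V, EE 2 H (conjS δ (conjS δ B))⁆ = conjS δ (conjS δ W₀) := by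
    rw [hB1.W_conj' hδV hδH, e1]
  have hne1 : conjS δ W₀ ≠ W₀ := fun he =>
    hn (Cfsg.Agent.Lib.Helper50.mem_normalizer_iff_map_conj.mpr he)
  have hne2 : conjS δ (conjS δ W₀) ≠ W₀ := by
    intro he
    apply hne1
    have e : δ = δ * δ * (δ * δ) := by
      have : δ * δ * (δ * δ) = δ ^ 3 * δ := by simp only [pow_succ, pow_zero, one_mul, mul_assoc]
      rw [this, hδ3, one_mul]
    conv_lhs => rw [e]
    simp only [conjS_mul]
    rw [he, he]
  have hdisj : conjS δ W₀ ⊓ conjS δ (conjS δ W₀) = ⊥ := by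
    have h1 := hB1.W_eq_or_disj hB2
    rw [e1, e2] at h1
    refine h1.resolve_left ?_
    intro he
    exact hne1 (Subgroup.map_injective (MulAut.conj δ).injective he).symm
  have hc1 : EE 2 H B ≤ centralizer ((conjS δ W₀ : Subgroup G) : Set G) := by
    rw [← e1]
    apply hB1.E_le_cent h hg
    intro he
    apply hne1
    rw [← e1, ← he]
  have hc2 : EE 2 H B ≤ centralizer ((conjS δ (conjS δ W₀) : Subgroup G) : Set G) := by
    rw [← e2]
    apply hB2.E_le_cent h hg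
    intro he
    apply hne2
    rw [← e2, ← he]
  have hc1' := le_centralizer_iff.mp hc1
  have hc2' := le_centralizer_iff.mp hc2
  let f : ↥(conjS δ W₀) → ↥W := fun w => ⟨⁅(w : G), δ⁆, hW _ (hY _ hB1 (by rw [e1]; exact w.2))⟩
  have key : ∀ w w' : G, ⁅w, δ⁆ = ⁅w', δ⁆ → δ * (w'⁻¹ * w) * δ⁻¹ = w'⁻¹ * w := by
    intro w w' hww
    rw [commutatorElement_def, commutatorElement_def] at hww
    have h1 : w * δ * w⁻¹ = w' * δ * w'⁻¹ := mul_right_cancel hww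
    have h2 : δ = w'⁻¹ * (w * δ * w⁻¹) * w' := by rw [h1]; group
    calc δ * (w'⁻¹ * w) * δ⁻¹ = (w'⁻¹ * (w * δ * w⁻¹) * w') * (w'⁻¹ * w) * δ⁻¹ := by rw [← h2]
      _ = w'⁻¹ * w := by group
  have hinj : Function.Injective f := by
    intro w w' hww
    have h1 : ⁅(w : G), δ⁆ = ⁅(w' : G), δ⁆ := congrArg Subtype.val hww
    have h2 := key _ _ h1
    have h3 : (w' : G)⁻¹ * w ∈ conjS δ W₀ := mul_mem (inv_mem w'.2) w.2
    have h4 : (w' : G)⁻¹ * w ∈ conjS δ W₀ ⊓ conjS δ (conjS δ W₀) := by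
      refine mem_inf.mpr ⟨h3, ?_⟩
      rw [← h2]
      exact conjS_mem h3
    rw [hdisj, mem_bot] at h4
    apply Subtype.ext
    exact (inv_mul_eq_one.mp h4).symm
  have hcard : Nat.card ↥W ≤ Nat.card ↥(conjS δ W₀) := by
    rw [card_conjS, h.card_W]
    exact hW4
  have hsurj := (hinj.bijective_of_nat_card_le hcard).2
  have hbot : W₀ ≤ ⊥ := by
    rw [← h.W_inf_cent]
    intro w hw
    refine mem_inf.mpr ⟨hw, mem_inf.mpr ⟨h.W_le hw, ?_⟩⟩
    obtain ⟨⟨w', hw'⟩, hfw⟩ := hsurj ⟨⁅w, δ⁆, hW _ (hY _ h hw)⟩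
    have h1 : ⁅w, δ⁆ = ⁅w', δ⁆ := (congrArg Subtype.val hfw).symm
    have h2 := key _ _ h1
    have e : w = w' * (δ * w'⁻¹ * δ⁻¹) * (δ * w * δ⁻¹) := by
      have : w' * (δ * w'⁻¹ * δ⁻¹) * (δ * w * δ⁻¹) = w' * (δ * (w'⁻¹ * w) * δ⁻¹) := by group
      rw [this, h2]
      group
    rw [e]
    exact mul_mem (mul_mem (hc1' hw') (hc2' (conjS_mem (inv_mem hw')))) (hc1' (conjS_mem hw))
  apply hne1
  rw [le_bot_iff.mp hbot]
  exact Subgroup.map_bot _

end Cfsg.Agent.Lib.Helper48
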