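import Cfsg.Agent.Lib.Helper48.JC23

/-!
Type level: an element `d` of order three with `[V ∩ H, d] ≤ W`, `|W| = 4`.
-/

set_option autoImplicit false

namespace Cfsg.Agent.Lib.Helper48

open Subgroup
open scoped commutatorElement
open Cfsg.Agent.Lib.Helper22 (conjS mem_conjS conjS_mem conjS_mul conjS_one conjS_eq_of_mem_normalizer)
open Cfsg.Agent.Lib.Helper47 (IsSylowIn)
open Cfsg.Agent.Lib.Helper11 (IsMaxIn)
open JCX (Vb Hb)

universe u

section

variable {K : Type*} [Group K] (V : Subgroup K) [V.Characteristic]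

theorem ps_mem_normalizer_map_la [Finite K] {Y : Subgroup K} {x : K}
    (hx : x ∈ normalizer (Y : Set K)) :
    ps V x ∈ normalizer (((Y.subgroupOf V).map (la V) : Subgroup (Equiv.Perm V)) :
      Set (Equiv.Perm V)) := by
  apply Cfsg.Agent.Lib.Helper50.mem_normalizer_of_map_conj_le
  rintro _ ⟨_, ⟨v, hv, rfl⟩, rfl⟩
  simp only [MulEquiv.coe_toMonoidHom, MulAut.conj_apply]
  rw [ps_conj_la]
  refine ⟨_, ?_, rfl⟩
  rw [SetLike.mem_coe, mem_subgroupOf]
  exact (mem_normalizer_iff.mp hx _).mp (mem_subgroupOf.mp hv)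

/-- the pullback of a subgroup of the translation group -/
def ub (W' : Subgroup (Equiv.Perm V)) : Subgroup K := (W'.comap (la V)).map V.subtype

theorem mem_ub {W' : Subgroup (Equiv.Perm V)} {v : V} (h : la V v ∈ W') : (v : K) ∈ ub V W' :=
  ⟨v, h, rfl⟩

theorem card_ub {W' : Subgroup (Equiv.Perm V)} (h : W' ≤ (la V).range) :
    Nat.card (ub V W') = Nat.card W' := by
  rw [ub, card_map_of_injective V.subtype_injective, ← card_map_of_injective (la_injective V),
    map_comap_eq_self h]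

theorem mem_normalizer_ub [Finite K] {W' : Subgroup (Equiv.Perm V)} {x : K}
    (hx : ps V x ∈ normalizer (W' : Set (Equiv.Perm V))) : x ∈ normalizer (ub V W' : Set K) := by
  apply Cfsg.Agent.Lib.Helper50.mem_normalizer_of_map_conj_le
  rintro _ ⟨_, ⟨v, hv, rfl⟩, rfl⟩
  simp only [MulEquiv.coe_toMonoidHom, MulAut.conj_apply]
  refine ⟨MulAut.characteristic V (MulAut.conj x) v, ?_, rfl⟩
  rw [SetLike.mem_coe, mem_comap, ← ps_conj_la]
  exact (mem_normalizer_iff.mp hx _).mp hv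

end

variable {X : Type u} [Group X] [Finite X] {S : Sylow 2 X}

theorem pCore_le_centralizer_VV (X : Type u) [Group X] :
    Cfsg.pCore 2 X ≤ centralizer (VV 2 X : Set X) := by
  rw [le_centralizer_iff]
  apply iSup_le
  intro S
  exact ((omegaOne_le' 2 _).trans inf_le_right).trans (centralizer_le (pCore_le_sylow S))

theorem LX.VV_le_pCore (h : LX S) : VV 2 X ≤ Cfsg.pCore 2 X := by
  obtain ⟨hV, -⟩ := VV_facts h.hsep h.hO
  exact le_sSup ⟨inferInstance, Cfsg.Agent.Lib.Helper10.IsEA.isPGroup hV⟩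

theorem LX.J_le_normalizer_of (h : LX S) {H W : Subgroup X} {d : X}
    (hdH : d ∈ H) (hd3 : d ^ 3 = 1) (hJH : Cfsg.thompsonSubgroupOf 2 (S : Subgroup X) ≤ H)
    (hHC : H ⊔ centralizer (VV 2 X : Set X) = ⊤)
    (hgen : ∀ M : Subgroup X, d ∈ M → Cfsg.thompsonSubgroupOf 2 (S : Subgroup X) ≤ M →
      centralizer (VV 2 X : Set X) ≤ M → M = ⊤)
    (hW4 : Nat.card W = 4) (hdW : d ∈ normalizer (W : Set X))
    (hirr : ∀ I : Subgroup X, I ≤ W → d ∈ normalizer (I : Set X) → I = ⊥ ∨ I = W)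
    (hY : ∀ y ∈ VV 2 X ⊓ H, ⁅y, d⁆ ∈ W) :
    Cfsg.thompsonSubgroupOf 2 (S : Subgroup X) ≤ normalizer (W : Set X) := by
  haveI : Fact (Nat.Prime 2) := ⟨Nat.prime_two⟩
  obtain ⟨hV, hD⟩ := VV_facts h.hsep h.hO
  obtain ⟨hg, -⟩ := fg_thompson h.hsep h.hO h.hnf
  set V := VV 2 X with hVdef
  set J := Cfsg.thompsonSubgroupOf 2 (S : Subgroup X) with hJdef
  have hJX : J ≤ Cfsg.thompsonSubgroup 2 X := thompsonSubgroupOf_le_thompsonSubgroup S
  have hδV := ps_mem_normalizer_range_la V d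
  have hδH : ps V d ∈ normalizer (Hb X : Set (Equiv.Perm ↥V)) := JCX.ps_mem_normalizer_Hb d
  have hδ3 : (ps V d) ^ 3 = 1 := by rw [← map_pow, hd3, map_one]
  -- the invariant subgroup
  have hYn : Hb X ≤ normalizer (((H.subgroupOf V).map (la V) : Subgroup (Equiv.Perm V)) :
      Set (Equiv.Perm V)) := by
    rintro _ ⟨j, -, rfl⟩
    have hj : j ∈ H ⊔ centralizer (V : Set X) := hHC ▸ mem_top j
    obtain ⟨c, hc, x, hx, rfl⟩ := (Cfsg.Agent.Lib.Helper22.mem_sup_of_le_normalizer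
      (by rw [normalizer_eq_top]; exact le_top) : _ ↔ _).mp (sup_comm H _ ▸ hj)
    rw [map_mul, (ps_eq_one_iff V c).mpr hc, one_mul]
    exact ps_mem_normalizer_map_la V (le_normalizer hx)
  obtain ⟨A, hA⟩ := exists_mea (S : Subgroup X)
  have hAJ : A ≤ J := hA.le_J
  have hAH : A.map (ps V) ≤ Hb X := map_mono (hAJ.trans hJX)
  have hA2 : IsPGroup 2 ↥(A.map (ps V)) := (S.2.to_le hA.1).map _
  have hAY : Vb X ⊓ centralizer ((A.map (ps V) : Subgroup (Equiv.Perm V)) : Set (Equiv.Perm V)) ≤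
      (H.subgroupOf V).map (la V) := by
    rw [range_la_inf_centralizer]
    apply map_mono
    intro v hv
    rw [mem_subgroupOf] at hv ⊢
    obtain ⟨hv1, hv2⟩ := mem_inf.mp hv
    exact hJH (hAJ (hA.mem_of_commute (pCore_le_sylow S (h.VV_le_pCore hv1)) (hV.2 _ hv1) hv2))
  have hYB : ∀ B', MO 2 (Vb X) (Hb X) B' → ⁅Vb X, EE 2 (Hb X) B'⁆ ≤ (H.subgroupOf V).map (la V) :=
    fun B' hB' => hB'.W_le_of hg hYn hAH hA2 hAY
  have hWt4 : Nat.card ↥((W.subgroupOf V).map (la V)) ≤ 4 := by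
    rw [card_map_of_injective (la_injective V), ← inf_subgroupOf_right,
      Nat.card_congr (subgroupOfEquivOfLe (inf_le_right : W ⊓ V ≤ V)).toEquiv, ← hW4]
    exact card_le_of_le inf_le_left
  have hcomm : ∀ v : V, (v : X) ∈ H → ∃ hx : ⁅(v : X), d⁆ ∈ V, ⁅(v : X), d⁆ ∈ W ∧
      la V ⟨⁅(v : X), d⁆, hx⟩ = ⁅la V v, ps V d⁆ := by
    intro v hv
    exact ⟨commutatorElement_mem_of_char V v d, hY _ (mem_inf.mpr ⟨v.2, hv⟩),
      la_commutatorElement V v d _⟩
  have hWδ : ∀ y ∈ (H.subgroupOf V).map (la V), ⁅y, ps V d⁆ ∈ (W.subgroupOf V).map (la V) := by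
    rintro _ ⟨v, hv, rfl⟩
    obtain ⟨hx, hxW, he⟩ := hcomm v (mem_subgroupOf.mp hv)
    rw [← he]
    exact ⟨_, mem_subgroupOf.mpr hxW, rfl⟩
  by_cases hall : ∀ B, MO 2 (Vb X) (Hb X) B →
      ps V d ∈ centralizer ((⁅Vb X, EE 2 (Hb X) B⁆ : Subgroup (Equiv.Perm V)) : Set (Equiv.Perm V))
  · exfalso
    have hcen := hg.le_centralizer_of hδV hδH hall
    have hCn : (centralizer (V : Set X)).Normal := inferInstance
    have hdN : d ∈ normalizer ((J ⊔ centralizer (V : Set X) : Subgroup X) : Set X) := by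
      apply Cfsg.Agent.Lib.Helper50.mem_normalizer_of_map_conj_le
      rw [Subgroup.map_sup]
      refine sup_le ?_ ?_
      · rintro _ ⟨j, hj, rfl⟩
        simp only [MulEquiv.coe_toMonoidHom, MulAut.conj_apply]
        have h1 : j⁻¹ * (d * j * d⁻¹) ∈ centralizer (V : Set X) := by
          rw [← ps_eq_one_iff]
          have h2 : ps V j * ps V d = ps V d * ps V j :=
            mem_centralizer_singleton_iff.mp (hcen ⟨j, hJX hj, rfl⟩)
          simp only [map_mul, map_inv]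
          rw [← h2]
          group
        have e : d * j * d⁻¹ = j * (j⁻¹ * (d * j * d⁻¹)) := by group
        rw [e]
        exact mul_mem (mem_sup_left hj) (mem_sup_right h1)
      · rintro _ ⟨c, hc, rfl⟩
        simp only [MulEquiv.coe_toMonoidHom, MulAut.conj_apply]
        exact mem_sup_right (hCn.conj_mem c hc d)
    have htop := hgen _ hdN (le_sup_left.trans le_normalizer) (le_sup_right.trans le_normalizer)
    have hDn : (J ⊔ centralizer (V : Set X)).Normal := normalizer_eq_top_iff.mp htop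
    have hJ2 : IsPGroup 2 J := S.2.to_le (thompsonSubgroupOf_le' 2 _)
    obtain ⟨k, hk⟩ := hJ2.index ((centralizer (V : Set X)).subgroupOf J)
    have h1 := hD _ hDn le_sup_right ⟨k, by rw [relIndex_sup_right]; exact hk⟩
    apply h.hJ
    refine (le_inf (thompsonSubgroupOf_le' 2 _) ?_).trans h.inf_le_pCore
    rw [← h1]
    exact le_sup_left
  · push Not at hall
    obtain ⟨B, hB, hδB⟩ := hall
    have hδN := hB.mem_normalizer_W_of hg hδV hδH hδ3 hYB hWδ hWt4
    have hex : ∃ w ∈ ⁅Vb X, EE 2 (Hb X) B⁆, ⁅w, ps V d⁆ ≠ 1 := by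
      by_contra hcon
      push Not at hcon
      apply hδB
      rw [mem_centralizer_iff]
      intro w hw
      exact commutatorElement_eq_one_iff_mul_comm.mp (hcon w hw)
    obtain ⟨w, hw, hw1⟩ := hex
    obtain ⟨v, hv, rfl⟩ := hYB B hB hw
    obtain ⟨hx, hxW, he⟩ := hcomm v (mem_subgroupOf.mp hv)
    have hxB : ⁅la V v, ps V d⁆ ∈ ⁅Vb X, EE 2 (Hb X) B⁆ := by
      have e : ⁅la V v, ps V d⁆ = la V v * (ps V d * (la V v)⁻¹ * (ps V d)⁻¹) := by
        rw [commutatorElement_def]; group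
      rw [e]
      exact mul_mem hw ((mem_normalizer_iff.mp hδN _).mp (inv_mem hw))
    have hxU : ⁅(v : X), d⁆ ∈ ub V ⁅Vb X, EE 2 (Hb X) B⁆ :=
      mem_ub V (v := ⟨⁅(v : X), d⁆, hx⟩) (by rw [he]; exact hxB)
    have hx1 : ⁅(v : X), d⁆ ≠ 1 := by
      intro h1
      apply hw1
      rw [← he]
      have : (⟨⁅(v : X), d⁆, hx⟩ : V) = 1 := Subtype.ext h1
      rw [this, map_one]
    have hdU : d ∈ normalizer (ub V ⁅Vb X, EE 2 (Hb X) B⁆ : Set X) := mem_normalizer_ub V hδN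
    have hI := hirr (W ⊓ ub V ⁅Vb X, EE 2 (Hb X) B⁆) inf_le_left
      (Cfsg.Agent.Lib.Helper62.le_normalizer_inf (A := zpowers d) (zpowers_le.mpr hdW)
        (zpowers_le.mpr hdU) (mem_zpowers d))
    have hI' : W ⊓ ub V ⁅Vb X, EE 2 (Hb X) B⁆ = W := by
      refine hI.resolve_left ?_
      intro h0
      apply hx1
      rw [← mem_bot, ← h0]
      exact mem_inf.mpr ⟨hxW, hxU⟩
    have hWU : W = ub V ⁅Vb X, EE 2 (Hb X) B⁆ :=
      eq_of_le_of_card_ge (inf_eq_left.mp hI') (by rw [card_ub V hB.W_le, hB.card_W, hW4]; norm_num)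
    rw [hWU]
    intro j hj
    exact mem_normalizer_ub V (hB.H_le_normalizer_W hg ⟨j, hJX hj, rfl⟩)

end Cfsg.Agent.Lib.Helper48
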