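import Cfsg.Agent.Lib.Helper48.JC24
import Cfsg.Agent.Lib.Helper62.Subnormal2
import Cfsg.Agent.Lib.Helper30.Subnormal

/-!
A conjugate of a component which is subnormal in `⟨K, J(T)⟩`: `J(T)` normalizes `W_K`.
-/

set_option autoImplicit false

namespace Cfsg.Agent.Lib.Helper48

open Subgroup
open scoped commutatorElement
open Cfsg.Agent.Lib.Helper22 (conjS mem_conjS conjS_mem conjS_mul conjS_one conjS_eq_of_mem_normalizer)
open Cfsg.Agent.Lib.Helper47 (IsSylowIn)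
open Cfsg.Agent.Lib.Helper62 (SubnIn)

universe u

variable {G : Type u} [Group G] [Finite G]

theorem O2_mono {A B : Subgroup G} (h : A ≤ B) : O2 A ≤ O2 B := by
  unfold O2
  apply Subgroup.closure_mono
  rintro g ⟨hg, hodd⟩
  exact ⟨h hg, hodd⟩

theorem O2_eq_of_subnIn {K M R : Subgroup G} (h : SubnIn K M) (hR : IsPGroup 2 R)
    (hMR : M ≤ normalizer (R : Set G)) (hM : M ≤ K ⊔ R) : O2 M = O2 K := by
  induction h with
  | refl N => rfl
  | step S K' N h1 h2 h3 ih =>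
    have ih' := ih hMR (hM.trans (sup_le_sup_right h1 R))
    rw [ih']
    apply le_antisymm _ (O2_mono h1)
    conv_lhs => unfold O2
    rw [closure_le]
    rintro g ⟨hg, hodd⟩
    apply mem_O2 _ hodd
    have hK'N : K' ≤ N := h3.le
    have hg1 : g ∈ R ⊔ S := by rw [sup_comm]; exact hM (hK'N hg)
    obtain ⟨r, hr, s, hs, rfl⟩ :=
      (Cfsg.Agent.Lib.Helper22.mem_sup_of_le_normalizer ((h1.trans hK'N).trans hMR)).mp hg1
    have hrK : r ∈ K' := by
      have := mul_mem hg (inv_mem (h1 hs))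
      simpa using this
    apply mem_of_odd_of_mem_sup (R := K' ⊓ R) (hR.to_le inf_le_right) (inf_le_left.trans h2) _ hodd
    exact mul_mem (mem_sup_right (mem_inf.mpr ⟨hrK, hr⟩)) (mem_sup_left hs)

/-- a normal `2`-subgroup normalizes every subnormal subgroup generated by elements of odd order -/
theorem le_normalizer_of_subnIn {K H R : Subgroup G} (hK : SubnIn K H) (hgen : O2 K = K)
    (hR2 : IsPGroup 2 R) (hRH : R ≤ H) (hn : H ≤ normalizer (R : Set G)) :
    R ≤ normalizer (K : Set G) := by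
  have hle : K ⊔ R ≤ H := sup_le hK.le hRH
  have h1 := O2_eq_of_subnIn (hK.restrict le_sup_left hle) hR2 (hle.trans hn) le_rfl
  rw [hgen] at h1
  have h2 := normalizer_le_normalizer_O2 (K ⊔ R)
  rw [h1] at h2
  exact (le_sup_right.trans le_normalizer).trans h2

theorem le_pCoreOf_of_subnIn {p : ℕ} {P H : Subgroup G} (h : SubnIn P H) (hP : IsPGroup p P) :
    P ≤ Cfsg.pCoreOf p H := by
  have h1 := Cfsg.Agent.Lib.Helper30.subnormal_pGroup_le_pCore p h.isSubnormal_subgroupOf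
    hP.comap_subtype
  have h2 := map_mono (f := H.subtype) h1
  rwa [map_subgroupOf_eq_of_le h.le] at h2

theorem le_normalizer_sup_of {A X Y : Subgroup G} (hX : A ≤ normalizer (X : Set G))
    (hY : A ≤ normalizer (Y : Set G)) : A ≤ normalizer ((X ⊔ Y : Subgroup G) : Set G) := by
  intro g hg
  rw [Cfsg.Agent.Lib.Helper50.mem_normalizer_iff_map_conj, Subgroup.map_sup,
    Cfsg.Agent.Lib.Helper50.mem_normalizer_iff_map_conj.mp (hX hg),
    Cfsg.Agent.Lib.Helper50.mem_normalizer_iff_map_conj.mp (hY hg)]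

theorem J_le_normalizer_wOf_of_subnIn (zn : ZN G) {T L K T₁ : Subgroup G} (hT : IsPGroup 2 T)
    (hT1 : T ≠ ⊥) (hLT : L ∈ Cfsg.jOvergroups T) (hKL : K ≤ L)
    (hsub : SubnIn K (K ⊔ Cfsg.thompsonSubgroupOf 2 T)) (hK : Cfsg.IsJComponent T₁ K) :
    Cfsg.thompsonSubgroupOf 2 T ≤ normalizer (Cfsg.wOf K : Set G) := by
  haveI : Fact (Nat.Prime 2) := ⟨Nat.prime_two⟩
  haveI : Fact (Nat.Prime 3) := ⟨Nat.prime_three⟩
  set J := Cfsg.thompsonSubgroupOf 2 T with hJdef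
  set H := K ⊔ J with hHdef
  set R := Cfsg.pCoreOf 2 H with hRdef
  set Q := Cfsg.pCoreOf 2 L with hQdef
  set P := Cfsg.pCoreOf 2 K with hPdef
  obtain ⟨d, hd⟩ := exists_jd hK
  have hW4 := hK.2.2.2.2.1
  have hsyl : IsSylowIn 2 T L := isSylowIn_of_two hLT.1
  have hJT : J ≤ T := thompsonSubgroupOf_le' 2 T
  have hHL : H ≤ L := sup_le hKL (hJT.trans hsyl.le)
  have hR2 : IsPGroup 2 R := Cfsg.Agent.Lib.Helper49.pCoreOf_isPGroup 2 H
  have hRH : R ≤ H := Cfsg.Agent.Lib.Helper49.pCoreOf_le 2 H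
  have hHR : H ≤ normalizer (R : Set G) := Cfsg.Agent.Lib.Helper49.le_normalizer_pCoreOf 2 H
  have hRK : R ≤ normalizer (K : Set G) := le_normalizer_of_subnIn hsub hK.1 hR2 hRH hHR
  have hKW : normalizer (K : Set G) ≤ normalizer (Cfsg.wOf K : Set G) :=
    normalizer_le_normalizer_wOf K
  have hQT : Q ≤ T := Cfsg.Agent.Lib.Helper47.pCoreOf_le_of_isSylowIn hsyl
  have hQ2 : IsPGroup 2 Q := Cfsg.Agent.Lib.Helper49.pCoreOf_isPGroup 2 L
  have hLQ : L ≤ normalizer (Q : Set G) := Cfsg.Agent.Lib.Helper49.le_normalizer_pCoreOf 2 L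
  have hL'L : H ⊔ Q ≤ L := sup_le hHL (Cfsg.Agent.Lib.Helper49.pCoreOf_le 2 L)
  obtain ⟨T', hT', hJQT'⟩ := Cfsg.Agent.Lib.Helper47.exists_isSylowIn_ge
    (hT.to_le (sup_le hJT hQT : J ⊔ Q ≤ T))
    (sup_le_sup_right (le_sup_right : J ≤ H) Q : J ⊔ Q ≤ H ⊔ Q)
  have hJ' : Cfsg.thompsonSubgroupOf 2 T' = J :=
    J_eq_of_le_sylow hsyl hT'.isPGroup (hT'.le.trans hL'L) (le_sup_left.trans hJQT')
  set L' := H ⊔ Q with hL'def
  set Q' := Cfsg.pCoreOf 2 L' with hQ'def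
  have hQ'2 : IsPGroup 2 Q' := Cfsg.Agent.Lib.Helper49.pCoreOf_isPGroup 2 L'
  have hL'Q' : L' ≤ normalizer (Q' : Set G) := Cfsg.Agent.Lib.Helper49.le_normalizer_pCoreOf 2 L'
  have hQQ' : Q ≤ Q' := Cfsg.Agent.Lib.Helper49.le_pCoreOf le_sup_right (hL'L.trans hLQ) hQ2
  have hC' : centralizer (Q' : Set G) ≤ Q' := (centralizer_le hQQ').trans (hLT.2.2.trans hQQ')
  have hRQ' : R ≤ Q' := by
    refine le_sup_right.trans (Cfsg.Agent.Lib.Helper49.le_pCoreOf (N := Q ⊔ R)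
      (sup_le le_sup_right (hRH.trans le_sup_left)) ?_
      (Cfsg.Agent.Lib.Helper22.isPGroup_sup ((hRH.trans hHL).trans hLQ) hQ2 hR2))
    exact sup_le (le_normalizer_sup_of (hHL.trans hLQ) hHR) (le_sup_left.trans le_normalizer)
  by_cases hJO : J ≤ Q'
  · have h1 : Q' ⊓ H ≤ R := Cfsg.Agent.Lib.Helper49.le_pCoreOf inf_le_right
      (Cfsg.Agent.Lib.Helper62.le_normalizer_inf (le_sup_left.trans hL'Q') le_normalizer)
      (hQ'2.to_le inf_le_left)
    exact (((le_inf hJO le_sup_right).trans h1).trans hRK).trans hKW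
  have hL' : L' ∈ Cfsg.jOvergroups T' := ⟨isSylowTwoIn_of hT', by rw [hJ']; exact hJO, hC'⟩
  have hT'1 : T' ≠ ⊥ := by
    intro h0
    apply J_ne_bot hT hT1
    rw [eq_bot_iff, ← h0]
    exact le_sup_left.trans hJQT'
  have lx := lx_of_mem zn hT'1 hL'
  obtain ⟨hV, -⟩ := VV_facts lx.hsep lx.hO
  have hPK : P ≤ K := Cfsg.Agent.Lib.Helper49.pCoreOf_le 2 K
  have hPR : P ≤ R := le_pCoreOf_of_subnIn
    (SubnIn.step P K H hPK (Cfsg.Agent.Lib.Helper49.le_normalizer_pCoreOf 2 K) hsub)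
    (Cfsg.Agent.Lib.Helper49.pCoreOf_isPGroup 2 K)
  have hKH : K ≤ H := le_sup_left
  have hHL' : H ≤ L' := le_sup_left
  have hdK : d ∈ K := hd.hdK
  have hdL' : d ∈ L' := hHL' (hKH hdK)
  have hWK : Cfsg.wOf K ≤ K := (JS.W_le_P K).trans hPK
  have hWL' : Cfsg.wOf K ≤ L' := (hWK.trans hKH).trans hHL'
  have hdW : d ∈ normalizer (Cfsg.wOf K : Set G) := hKW (le_normalizer hdK)
  -- the module
  have hVQ' : VG L' ≤ Q' := map_mono lx.VV_le_pCore
  have hQ'V : Q' ≤ centralizer (VG L' : Set G) := by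
    rintro _ ⟨q, hq, rfl⟩
    rw [mem_centralizer_iff]
    rintro _ ⟨v, hv, rfl⟩
    exact congrArg Subtype.val (mem_centralizer_iff.mp (pCore_le_centralizer_VV _ hq) v hv)
  have hHY : H ≤ normalizer ((VG L' ⊓ H : Subgroup G) : Set G) :=
    Cfsg.Agent.Lib.Helper62.le_normalizer_inf (hHL'.trans (le_normalizer_VG L')) le_normalizer
  have hY2 : IsPGroup 2 ↥(VG L' ⊓ H) := hQ'2.to_le (inf_le_left.trans hVQ')
  have hYR : VG L' ⊓ H ≤ R := Cfsg.Agent.Lib.Helper49.le_pCoreOf inf_le_right hHY hY2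
  have hYK : ⁅VG L' ⊓ H, K⁆ ≤ K := by
    rw [commutator_comm]
    exact le_normalizer_iff_commutator_le_left.mp (hYR.trans hRK)
  have hYY : ⁅VG L' ⊓ H, K⁆ ≤ VG L' ⊓ H := le_normalizer_iff_commutator_le_left.mp (hKH.trans hHY)
  have hYKP : ⁅VG L' ⊓ H, K⁆ ≤ P := Cfsg.Agent.Lib.Helper49.le_pCoreOf hYK
    (le_normalizer_commutator (hKH.trans hHY) le_normalizer) (hY2.to_le hYY)
  have hYKU : ⁅VG L' ⊓ H, K⁆ ≤ Cfsg.omegaCenterOf P := by
    intro x hx
    apply Subgroup.subset_closure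
    have hxV : x ∈ VG L' := (hYY hx).1
    refine ⟨mem_inf.mpr ⟨hYKP hx, ?_⟩, ?_⟩
    · exact centralizer_le (hPR.trans hRQ') (le_centralizer_iff.mp hQ'V hxV)
    · obtain ⟨v, hv, rfl⟩ := hxV
      have := hV.2 v hv
      rw [← map_pow, this, map_one]
  have h3 : ¬ 3 ∣ Nat.card ↥(VG L' ⊓ H) := by
    obtain ⟨n, hn'⟩ := IsPGroup.iff_card.mp hY2
    rw [hn']
    intro h3
    have := Nat.Prime.dvd_of_dvd_pow Nat.prime_three h3
    norm_num at this
  have hDK : zpowers d ≤ K := hd.D_le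
  have h4 := Cfsg.Agent.Lib.Helper22.commutator_commutator_eq (zpowers d) (VG L' ⊓ H)
    hd.isPGroup_D h3 ((hDK.trans hKH).trans hHY)
  have hYD : ⁅VG L' ⊓ H, zpowers d⁆ ≤ Cfsg.wOf K := by
    rw [← h4]
    exact commutator_mono ((commutator_mono le_rfl hDK).trans hYKU) hDK
  -- transport
  have hJX : (Cfsg.thompsonSubgroupOf 2 (T'.subgroupOf L')).map L'.subtype = J := by
    rw [thompsonSubgroupOf_subgroupOf hT'.le, hJ']
  have hQ'C : ∀ q (hq : q ∈ Q'), ∃ hq' : q ∈ L',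
      (⟨q, hq'⟩ : ↥L') ∈ centralizer (VV 2 ↥L' : Set ↥L') := by
    intro q hq
    obtain ⟨hq1, hq2⟩ := Cfsg.Agent.Lib.Helper49.mem_pCoreOf.mp hq
    exact ⟨hq1, pCore_le_centralizer_VV _ hq2⟩
  have key := lx.J_le_normalizer_of (H := H.subgroupOf L') (W := (Cfsg.wOf K).subgroupOf L')
    (d := ⟨d, hdL'⟩) (mem_subgroupOf.mpr (hKH hdK))
    (by
      apply Subtype.ext
      have := pow_orderOf_eq_one d
      rw [hd.hd3] at this
      exact this)
    (by
      rw [IsSylowIn.coe_toSylow]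
      intro x hx
      rw [mem_subgroupOf]
      have : (x : G) ∈ J := by rw [← hJX]; exact ⟨x, hx, rfl⟩
      exact (le_sup_right : J ≤ H) this)
    (by
      rw [eq_top_iff]
      intro x _
      have hx : (x : G) ∈ Q ⊔ H := by rw [sup_comm]; exact x.2
      obtain ⟨q, hq, y, hy, hqy⟩ :=
        (Cfsg.Agent.Lib.Helper22.mem_sup_of_le_normalizer (hHL.trans hLQ)).mp hx
      obtain ⟨hq1, hq2⟩ := hQ'C q (hQQ' hq)
      have e : x = (⟨q, hq1⟩ : ↥L') * ⟨y, hHL' hy⟩ := Subtype.ext hqy.symm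
      rw [e]
      exact mul_mem (mem_sup_right hq2) (mem_sup_left (mem_subgroupOf.mpr hy)))
    (by
      rw [IsSylowIn.coe_toSylow]
      intro M hdM hJM hCM
      have hQ'M : Q' ≤ M.map L'.subtype := by
        intro q hq
        obtain ⟨hq1, hq2⟩ := hQ'C q hq
        exact ⟨_, hCM hq2, rfl⟩
      have hle : L' ≤ M.map L'.subtype := by
        refine sup_le (sup_le ?_ ?_) (hQQ'.trans hQ'M)
        · rw [← hd.hsup]
          refine sup_le ((hPR.trans hRQ').trans hQ'M) ?_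
          rw [zpowers_le]
          exact ⟨_, hdM, rfl⟩
        · rw [← hJX]
          exact map_mono hJM
      rw [eq_top_iff]
      intro x _
      obtain ⟨y, hy, hyx⟩ := hle x.2
      have : y = x := Subtype.ext hyx
      rw [← this]
      exact hy)
    (by
      rw [Nat.card_congr (subgroupOfEquivOfLe hWL').toEquiv]
      exact hW4)
    (by
      rw [← subgroupOf_normalizer_eq hWL', mem_subgroupOf]
      exact hdW)
    (by
      intro I hI hdI
      by_cases hI0 : I = ⊥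
      · exact Or.inl hI0
      right
      have h5 : I.map L'.subtype ≤ Cfsg.wOf K := by
        rintro _ ⟨x, hx, rfl⟩
        exact mem_subgroupOf.mp (hI hx)
      have h6 : I.map L'.subtype = Cfsg.wOf K := by
        apply hd.eq_wOf_of_le hW4 h5
        · intro h0
          exact hI0 ((map_eq_bot_iff_of_injective _ L'.subtype_injective).mp h0)
        · exact le_normalizer_map _ ⟨_, hdI, rfl⟩
      apply map_injective L'.subtype_injective
      rw [h6, map_subgroupOf_eq_of_le hWL'])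
    (by
      intro y hy
      obtain ⟨hy1, hy2⟩ := mem_inf.mp hy
      rw [mem_subgroupOf]
      apply hYD
      exact commutator_mem_commutator (mem_inf.mpr ⟨⟨y, hy1, rfl⟩, mem_subgroupOf.mp hy2⟩)
        (mem_zpowers d))
  rw [IsSylowIn.coe_toSylow, ← subgroupOf_normalizer_eq hWL'] at key
  rw [← hJX]
  rintro _ ⟨x, hx, rfl⟩
  exact mem_subgroupOf.mp (key hx)

end Cfsg.Agent.Lib.Helper48
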