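import Cfsg.Agent.Lib.Helper48.JC2

/-!
`J(T)`-components: the image of a component in the FF-pair of a non-factorizable solvable group.
-/

set_option autoImplicit false

namespace Cfsg.Agent.Lib.Helper48

open Subgroup
open scoped commutatorElement Pointwise
open Cfsg.Agent.Lib.Helper22 (conjS mem_conjS conjS_mem conjS_mul conjS_one conjS_eq_of_mem_normalizer)

universe u

variable {X : Type u} [Group X]

/-- `J(S)` is generated by the largest elementary abelian subgroups of `X` inside `S` -/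
theorem thompsonSubgroupOf_sylow_le [Finite X] {p : ℕ} [Fact p.Prime] (S : Sylow p X)
    (M : Subgroup X)
    (hM : ∀ A ∈ Cfsg.maxElementaryAbelianSubgroups p X, A ≤ (S : Subgroup X) → A ≤ M) :
    Cfsg.thompsonSubgroupOf p (S : Subgroup X) ≤ M := by
  obtain ⟨A₀, hA₀⟩ := Cfsg.Agent.Lib.Helper10.exists_maxEA (G := X) p
  obtain ⟨S₀, hS₀⟩ := (Cfsg.Agent.Lib.Helper10.IsEA.isPGroup hA₀.1).exists_le_sylow
  obtain ⟨g, hg⟩ := MulAction.exists_smul_eq X S₀ S
  have h1 : MulAut.conj g • A₀ ≤ (S : Subgroup X) := by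
    rw [← hg, Sylow.coe_subgroup_smul]
    exact Subgroup.pointwise_smul_le_pointwise_smul_iff.mpr hS₀
  unfold Cfsg.thompsonSubgroupOf Cfsg.thompsonSubgroup
  rw [Subgroup.map_le_iff_le_comap]
  apply sSup_le
  intro B hB
  rw [← Subgroup.map_le_iff_le_comap]
  exact hM _ (Cfsg.Agent.Lib.Helper10.map_subtype_mem_maxEA
    (Cfsg.Agent.Lib.Helper10.maxEA_conj hA₀ g) h1 hB) (map_subtype_le _)

theorem exists_mo_of_comp [Finite X] (hsep : Cfsg.IsPSolvable 2 X) (hO : Cfsg.pPrimeCore 2 X = ⊥)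
    (hnf : ¬ Cfsg.IsThompsonFactorizable 2 X) (S : Sylow 2 X) (K P : Subgroup X)
    (hgen : closure {g : X | g ∈ K ∧ Odd (orderOf g)} = K)
    (hKJ : ⁅K, Cfsg.thompsonSubgroupOf 2 (S : Subgroup X)⁆ = K) (hPK : P ≤ K)
    (hP2 : IsPGroup 2 P) (hP3 : P.relIndex K = 3)
    (hKC : ¬ K ≤ centralizer (VV 2 X : Set X)) :
    P ≤ centralizer (VV 2 X : Set X) ∧
    ∃ B, MO 2 (la (VV 2 X)).range ((Cfsg.thompsonSubgroup 2 X).map (ps (VV 2 X))) B ∧
      B ≤ (Cfsg.thompsonSubgroupOf 2 (S : Subgroup X)).map (ps (VV 2 X)) ∧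
      K.map (ps (VV 2 X)) = ⁅ppc 2 ((Cfsg.thompsonSubgroup 2 X).map (ps (VV 2 X))), B⁆ := by
  obtain ⟨hg, hH⟩ := fg_thompson hsep hO hnf
  obtain ⟨hV, hD⟩ := VV_facts hsep hO
  haveI hJXc : (Cfsg.thompsonSubgroup 2 X).Characteristic :=
    (Cfsg.Agent.S0602.result (G := X) (p := 2)).1
  have hJS := thompsonSubgroupOf_le_thompsonSubgroup S
  have hKJX : K ≤ Cfsg.thompsonSubgroup 2 X := by
    conv_lhs => rw [← hKJ]
    exact (commutator_mono le_top hJS).trans (commutator_le_right ⊤ _)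
  have hKppc : K.map (ps (VV 2 X)) ≤ ppc 2 ((Cfsg.thompsonSubgroup 2 X).map (ps (VV 2 X))) := by
    rw [Subgroup.map_le_iff_le_comap]
    apply le_of_odd_gen hgen
    intro g hgK hodd
    rw [mem_comap]
    exact hg.mem_ppc_of_odd ⟨g, hKJX hgK, rfl⟩ (Odd.of_dvd_nat hodd (orderOf_map_dvd _ g))
  have hPbot : P.map (ps (VV 2 X)) = ⊥ :=
    eq_bot_of_isPGroup_of_not_dvd (not_dvd_card_ppc 2 _) ((map_mono hPK).trans hKppc) (hP2.map _)
  have hPker : P ≤ (ps (VV 2 X)).ker := (Subgroup.map_eq_bot_iff _).mp hPbot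
  have hKne : K.map (ps (VV 2 X)) ≠ ⊥ := by
    intro h
    apply hKC
    rw [← ps_ker]
    exact (Subgroup.map_eq_bot_iff _).mp h
  have hcard : Nat.card ↥(K.map (ps (VV 2 X))) = 3 := by
    have h1 : Nat.card ↥(K.map (ps (VV 2 X))) ∣ 3 := by
      rw [← relIndex_ker, ← hP3, ← inf_relIndex_right]
      exact relIndex_dvd_of_le_left K (le_inf hPker hPK)
    rcases (Nat.dvd_prime Nat.prime_three).mp h1 with h2 | h2
    · exact absurd ((Subgroup.card_eq_one).mp h2) hKne
    · exact h2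
  have hJK : Cfsg.thompsonSubgroupOf 2 (S : Subgroup X) ≤ normalizer (K : Set X) :=
    le_normalizer_of_commutator_eq hKJ
  have hJKb : (Cfsg.thompsonSubgroupOf 2 (S : Subgroup X)).map (ps (VV 2 X)) ≤
      normalizer ((K.map (ps (VV 2 X)) : Subgroup _) : Set _) :=
    (map_mono hJK).trans (le_normalizer_map _)
  have hKJb : ⁅K.map (ps (VV 2 X)), (Cfsg.thompsonSubgroupOf 2 (S : Subgroup X)).map (ps (VV 2 X))⁆ =
      K.map (ps (VV 2 X)) := by
    rw [← Subgroup.map_commutator, hKJ]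
  refine ⟨by rw [← ps_ker]; exact hPker, ?_⟩
  by_contra hcon
  push Not at hcon
  haveI : Fact (Nat.Prime 3) := ⟨Nat.prime_three⟩
  have key : ∀ B, MO 2 (la (VV 2 X)).range ((Cfsg.thompsonSubgroup 2 X).map (ps (VV 2 X))) B →
      B ≤ (Cfsg.thompsonSubgroupOf 2 (S : Subgroup X)).map (ps (VV 2 X)) →
      B ≤ centralizer ((K.map (ps (VV 2 X)) : Subgroup _) : Set _) := by
    intro B hB hBJ
    by_contra hBc
    apply hcon B hB hBJ
    have h1 : ⁅K.map (ps (VV 2 X)), B⁆ ≤ K.map (ps (VV 2 X)) :=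
      le_normalizer_iff_commutator_le_left.mp (hBJ.trans hJKb)
    have h2 : ⁅K.map (ps (VV 2 X)), B⁆ ≠ ⊥ := by
      intro h
      rw [commutator_comm, commutator_eq_bot_iff_le_centralizer] at h
      exact hBc h
    have h3 := (eq_bot_or_eq_of_le_of_card_prime hcard h1).resolve_left h2
    apply eq_of_le_of_card_ge
    · conv_lhs => rw [← h3]
      exact commutator_mono hKppc le_rfl
    · rw [hcard, hB.card_R]
      norm_num
  have hJc : (Cfsg.thompsonSubgroupOf 2 (S : Subgroup X)).map (ps (VV 2 X)) ≤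
      centralizer ((K.map (ps (VV 2 X)) : Subgroup _) : Set _) := by
    rw [Subgroup.map_le_iff_le_comap]
    apply thompsonSubgroupOf_sylow_le
    intro A hA hAS
    rw [← Subgroup.map_le_iff_le_comap]
    apply best_le_of_char (VV 2 X) hV hsep (J := Cfsg.thompsonSubgroup 2 X) inferInstance
      (Cfsg.maxElementaryAbelianSubgroups 2 X) rfl
      (fun A hA => Cfsg.Agent.S0606.result (VV 2 X) hV A hA) hD
      (fun h => hnf (isThompsonFactorizable_of_le h)) hA
    intro B hB hBA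
    exact key B hB (hBA.trans (map_mono (Cfsg.Agent.Lib.Helper10.le_thompsonSubgroupOf hA hAS)))
  apply hKne
  rw [← hKJb, commutator_comm, commutator_eq_bot_iff_le_centralizer]
  exact hJc

end Cfsg.Agent.Lib.Helper48
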