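import Cfsg.Agent.Lib.Helper48.JC3
import Cfsg.Agent.Lib.Helper30.Subnormal
import Cfsg.Agent.S0608

/-!
`J(T)`-components inside a solvable group `X` of characteristic `2` (type level).
-/

set_option autoImplicit false

namespace Cfsg.Agent.Lib.Helper48

open Subgroup
open scoped commutatorElement
open Cfsg.Agent.Lib.Helper62 (SubnIn)

universe u

variable {X : Type u} [Group X]

theorem normalizer_le_normalizer_thompsonSubgroupOf [Finite X] (p : ℕ) (P : Subgroup X) :
    normalizer (P : Set X) ≤ normalizer (Cfsg.thompsonSubgroupOf p P : Set X) := by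
  have haut : ∀ (φ : MulAut X) (A : Subgroup X), Cfsg.IsElementaryAbelian p A →
      Cfsg.IsElementaryAbelian p (A.map φ.toMonoidHom) := fun φ A hA =>
    Cfsg.Agent.Lib.Helper10.IsEA.map hA _
  have h1 := Cfsg.Agent.Lib.Helper11.normalizer_le_normalizer_joinMax haut P
  rw [Cfsg.Agent.Lib.Helper51.thompsonSubgroupOf_eq]
  exact h1

theorem thompsonSubgroupOf_le' (p : ℕ) (P : Subgroup X) : Cfsg.thompsonSubgroupOf p P ≤ P :=
  map_subtype_le _

/-- the situation of a member of `ℒ(T)`, as a group of its own -/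
structure LX (S : Sylow 2 X) : Prop where
  hsep : Cfsg.IsPSolvable 2 X
  hO : Cfsg.pPrimeCore 2 X = ⊥
  hC : centralizer (VV 2 X : Set X) ≤ normalizer ((S : Subgroup X) : Set X)
  hJ : ¬ Cfsg.thompsonSubgroupOf 2 (S : Subgroup X) ≤ Cfsg.pCore 2 X

/-- the group-theoretic part of the definition of a `J(S)`-component -/
structure JCX (S : Sylow 2 X) (K P : Subgroup X) : Prop where
  gen : closure {g : X | g ∈ K ∧ Odd (orderOf g)} = K
  comm : ⁅K, Cfsg.thompsonSubgroupOf 2 (S : Subgroup X)⁆ = K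
  hPK : P ≤ K
  hP2 : IsPGroup 2 P
  hP3 : P.relIndex K = 3

instance centralizer_VV_normal (p : ℕ) (X : Type*) [Group X] :
    (centralizer (VV p X : Set X)).Normal := by
  rw [← ps_ker]; infer_instance

namespace LX

variable {S : Sylow 2 X}

theorem inf_le_pCore (h : LX S) :
    (S : Subgroup X) ⊓ centralizer (VV 2 X : Set X) ≤ Cfsg.pCore 2 X := by
  apply Cfsg.Agent.Lib.Helper30.subnormal_pGroup_le_pCore 2 _ (S.2.to_le inf_le_left)
  rw [← Cfsg.Agent.Lib.Helper62.subnIn_top_iff]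
  refine SubnIn.step _ (centralizer (VV 2 X : Set X)) _ inf_le_right ?_
    (SubnIn.of_normal le_top ?_)
  · exact Cfsg.Agent.Lib.Helper62.le_normalizer_inf h.hC le_normalizer
  · rw [normalizer_eq_top]

theorem hnf [Finite X] (h : LX S) : ¬ Cfsg.IsThompsonFactorizable 2 X := by
  intro hf
  apply h.hJ
  have h1 := (Cfsg.Agent.S0608.result h.hO).mp hf
  exact (le_inf (thompsonSubgroupOf_le' 2 _)
    ((thompsonSubgroupOf_le_thompsonSubgroup S).trans h1)).trans h.inf_le_pCore

theorem hCJ [Finite X] (h : LX S) : centralizer (VV 2 X : Set X) ≤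
    normalizer (Cfsg.thompsonSubgroupOf 2 (S : Subgroup X) : Set X) :=
  h.hC.trans (normalizer_le_normalizer_thompsonSubgroupOf 2 _)

end LX

namespace JCX

variable {S : Sylow 2 X} {K P : Subgroup X}

theorem isPGroup_J (S : Sylow 2 X) : IsPGroup 2 (Cfsg.thompsonSubgroupOf 2 (S : Subgroup X)) :=
  S.2.to_le (thompsonSubgroupOf_le' 2 _)

theorem not_isPGroup (hK : JCX S K P) : ¬ IsPGroup 2 K := by
  intro h2
  have h1 : K ≤ ⊥ := by
    apply le_of_odd_gen hK.gen
    intro g hg hodd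
    obtain ⟨k, hk⟩ := h2 ⟨g, hg⟩
    have hk' : g ^ 2 ^ k = 1 := congrArg Subtype.val hk
    have h3 : orderOf g ∣ 2 ^ k := orderOf_dvd_of_pow_eq_one hk'
    have h4 : (orderOf g).Coprime (2 ^ k) :=
      Nat.Coprime.pow_right k (Nat.coprime_two_right.mpr hodd)
    rw [mem_bot, ← orderOf_eq_one_iff]
    exact Nat.Coprime.eq_one_of_dvd h4 h3
  have h3 := hK.hP3
  rw [le_bot_iff.mp h1, relIndex_bot_right] at h3
  norm_num at h3

theorem not_le_centralizer [Finite X] (hK : JCX S K P) (h : LX S) :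
    ¬ K ≤ centralizer (VV 2 X : Set X) := by
  intro hle
  apply hK.not_isPGroup
  apply (isPGroup_J S).to_le
  conv_lhs => rw [← hK.comm]
  rw [commutator_comm]
  exact le_normalizer_iff_commutator_le_left.mp (hle.trans h.hCJ)

theorem centralizer_le_normalizer [Finite X] (hK : JCX S K P) (h : LX S) :
    centralizer (VV 2 X : Set X) ≤ normalizer (K : Set X) := by
  apply le_normalizer_of_trick hK.gen hK.comm (isPGroup_J S) _ _ h.hCJ
  · rw [normalizer_eq_top]; exact le_top
  · rw [normalizer_eq_top]; exact le_top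

theorem exists_mo [Finite X] (hK : JCX S K P) (h : LX S) :
    P ≤ centralizer (VV 2 X : Set X) ∧
    ∃ B, MO 2 (la (VV 2 X)).range ((Cfsg.thompsonSubgroup 2 X).map (ps (VV 2 X))) B ∧
      B ≤ (Cfsg.thompsonSubgroupOf 2 (S : Subgroup X)).map (ps (VV 2 X)) ∧
      K.map (ps (VV 2 X)) = ⁅ppc 2 ((Cfsg.thompsonSubgroup 2 X).map (ps (VV 2 X))), B⁆ :=
  exists_mo_of_comp h.hsep h.hO h.hnf S K P hK.gen hK.comm hK.hPK hK.hP2 hK.hP3
    (hK.not_le_centralizer h)

theorem isSubnormal [Finite X] (hK : JCX S K P) (h : LX S) : K.IsSubnormal := by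
  obtain ⟨-, B, hB, -, hKB⟩ := hK.exists_mo h
  obtain ⟨hg, -⟩ := fg_thompson h.hsep h.hO h.hnf
  haveI hJXc : (Cfsg.thompsonSubgroup 2 X).Characteristic :=
    (Cfsg.Agent.S0602.result (G := X) (p := 2)).1
  rw [← Cfsg.Agent.Lib.Helper62.subnIn_top_iff]
  refine SubnIn.step _ ((K.map (ps (VV 2 X))).comap (ps (VV 2 X))) _ (le_comap_map _ _) ?_
    (SubnIn.step _ (((Cfsg.thompsonSubgroup 2 X).map (ps (VV 2 X))).comap (ps (VV 2 X))) _ ?_ ?_
      (SubnIn.of_normal le_top ?_))
  · rw [comap_map_eq, ps_ker]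
    exact sup_le le_normalizer (hK.centralizer_le_normalizer h)
  · apply comap_mono
    rw [hKB]
    exact hB.R_le.trans (ppc_le _ _)
  · apply le_normalizer_comap
    rw [hKB]
    exact (map_comap_le _ _).trans (hB.H_le_normalizer_R hg)
  · apply le_normalizer_comap
    rw [← MonoidHom.range_eq_map]
    exact map_ps_le_normalizer _ inferInstance

end JCX

end Cfsg.Agent.Lib.Helper48
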