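import Cfsg.Agent.Lib.Helper48.JC4
import Cfsg.Agent.Lib.Helper47.Syl

/-!
`J(T)`-components: from the ambient group to the members of `ℒ(T)`.
-/

set_option autoImplicit false

namespace Cfsg.Agent.Lib.Helper48

open Subgroup
open scoped commutatorElement
open Cfsg.Agent.Lib.Helper62 (SubnIn)
open Cfsg.Agent.Lib.Helper47 (IsSylowIn)

universe u

variable {G : Type u} [Group G]

/-- the standing hypotheses: a ZN-group of characteristic `2` type -/
structure ZN (G : Type u) [Group G] : Prop where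
  hL : Cfsg.IsCharacteristicTwoType G
  hN : ∀ N : Subgroup G, Cfsg.IsTwoLocal N → Group.IsSolvable ↥N
  hZ : ∀ S : Sylow 2 G, centralizer (Cfsg.omegaCenterOf (S : Subgroup G) : Set G) ≤
    normalizer ((S : Subgroup G) : Set G)

theorem isSylowIn_of_two [Finite G] {T L : Subgroup G} (h : Cfsg.IsSylowTwoIn T L) :
    IsSylowIn 2 T L :=
  Cfsg.Agent.Lib.Helper47.isSylowIn_of_not_dvd_relIndex h.1 h.2.1
    (fun hd => (Nat.not_even_iff_odd.mpr h.2.2) (even_iff_two_dvd.mpr hd))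

theorem isSylowTwoIn_of [Finite G] {T L : Subgroup G} (h : IsSylowIn 2 T L) :
    Cfsg.IsSylowTwoIn T L :=
  ⟨h.le, h.isPGroup, Nat.not_even_iff_odd.mp (fun he => h.not_dvd_relIndex (even_iff_two_dvd.mp he))⟩

theorem ker_subtype_inf (L : Subgroup G) (P : Subgroup ↥L) : P ⊓ L.subtype.ker = ⊥ := by
  rw [L.ker_subtype, inf_bot_eq]

theorem thompsonSubgroupOf_subgroupOf {p : ℕ} {T L : Subgroup G} (hTL : T ≤ L) :
    (Cfsg.thompsonSubgroupOf p (T.subgroupOf L)).map L.subtype = Cfsg.thompsonSubgroupOf p T := by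
  rw [← thompsonSubgroupOf_map L.subtype (T.subgroupOf L) (ker_subtype_inf L _),
    map_subgroupOf_eq_of_le hTL]

theorem omegaOne_center_subgroupOf {p : ℕ} {T L : Subgroup G} (hTL : T ≤ L) :
    (Cfsg.omegaOne p (T.subgroupOf L ⊓ centralizer ((T.subgroupOf L : Subgroup ↥L) : Set ↥L))).map
      L.subtype = Cfsg.omegaOne p (T ⊓ centralizer (T : Set G)) := by
  rw [← omegaOne_center_map L.subtype (T.subgroupOf L) (ker_subtype_inf L _),
    map_subgroupOf_eq_of_le hTL]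

theorem omegaOne_mono {p : ℕ} {A B : Subgroup G} (h : A ≤ B) :
    Cfsg.omegaOne p A ≤ Cfsg.omegaOne p B := by
  unfold Cfsg.omegaOne
  apply Subgroup.closure_mono
  rintro x ⟨hx, hxp⟩
  exact ⟨h hx, hxp⟩

section

variable [Finite G] {T L : Subgroup G}

theorem pCoreOf_ne_bot_of_mem (hT1 : T ≠ ⊥) (hLT : L ∈ Cfsg.jOvergroups T) :
    Cfsg.pCoreOf 2 L ≠ ⊥ := by
  intro h
  have h1 := hLT.2.2
  rw [h] at h1
  apply hT1
  rw [eq_bot_iff]
  intro t _
  apply h1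
  rw [mem_centralizer_iff]
  intro x hx
  have : x = 1 := hx
  rw [this, one_mul, mul_one]

theorem isSolvable_of_mem (zn : ZN G) (hT1 : T ≠ ⊥) (hLT : L ∈ Cfsg.jOvergroups T) :
    Group.IsSolvable ↥L := by
  haveI := zn.hN (normalizer (Cfsg.pCoreOf 2 L : Set G))
    ⟨_, Cfsg.Agent.Lib.Helper49.pCoreOf_isPGroup 2 L, pCoreOf_ne_bot_of_mem hT1 hLT, rfl⟩
  exact Group.isSolvable_of_isSolvable_injective
    (inclusion_injective (Cfsg.Agent.Lib.Helper49.le_normalizer_pCoreOf 2 L))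

theorem pPrimeCore_eq_bot_of_charTwo
    (hC : L ⊓ centralizer (Cfsg.pCoreOf 2 L : Set G) ≤ Cfsg.pCoreOf 2 L) :
    Cfsg.pPrimeCore 2 ↥L = ⊥ := by
  have hdisj : ppc 2 L ⊓ Cfsg.pCoreOf 2 L = ⊥ :=
    eq_bot_of_isPGroup_of_not_dvd (not_dvd_card_ppc 2 L) inf_le_left
      ((Cfsg.Agent.Lib.Helper49.pCoreOf_isPGroup 2 L).to_le inf_le_right)
  have h1 : ppc 2 L ≤ centralizer (Cfsg.pCoreOf 2 L : Set G) :=
    Cfsg.Agent.Lib.Helper62.le_centralizer_of_inf_eq_bot
      ((ppc_le 2 L).trans (Cfsg.Agent.Lib.Helper49.le_normalizer_pCoreOf 2 L))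
      ((Cfsg.Agent.Lib.Helper49.pCoreOf_le 2 L).trans (le_normalizer_ppc 2 L)) hdisj
  have h2 : ppc 2 L ≤ ⊥ := by
    rw [← hdisj]
    exact le_inf le_rfl ((le_inf (ppc_le 2 L) h1).trans hC)
  exact (map_eq_bot_iff_of_injective _ L.subtype_injective).mp (le_bot_iff.mp h2)

/-- `C_L(V)` normalizes `T` -/
theorem centralizer_VV_le_normalizer (zn : ZN G) (hsyl : IsSylowIn 2 T L)
    (hC : centralizer (Cfsg.pCoreOf 2 L : Set G) ≤ Cfsg.pCoreOf 2 L) :
    centralizer (VV 2 ↥L : Set ↥L) ≤ normalizer ((hsyl.toSylow : Subgroup ↥L) : Set ↥L) := by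
  intro c hc
  have h1 := centralizer_le (omegaOne_le_VV hsyl.toSylow) hc
  rw [hsyl.coe_toSylow] at h1 ⊢
  rw [← subgroupOf_normalizer_eq hsyl.le, mem_subgroupOf]
  have h2 : (c : G) ∈ centralizer (Cfsg.omegaOne 2 (T ⊓ centralizer (T : Set G)) : Set G) := by
    rw [← omegaOne_center_subgroupOf hsyl.le, mem_centralizer_iff]
    rintro _ ⟨z, hz, rfl⟩
    exact congrArg Subtype.val (mem_centralizer_iff.mp h1 z hz)
  obtain ⟨S, hTS⟩ := hsyl.isPGroup.exists_le_sylow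
  have hQT : Cfsg.pCoreOf 2 L ≤ T := Cfsg.Agent.Lib.Helper47.pCoreOf_le_of_isSylowIn hsyl
  have h3 : Cfsg.omegaCenterOf (S : Subgroup G) ≤ Cfsg.omegaOne 2 (T ⊓ centralizer (T : Set G)) := by
    apply omegaOne_mono
    intro x hx
    obtain ⟨-, hx2⟩ := mem_inf.mp hx
    exact mem_inf.mpr ⟨hQT (hC (centralizer_le (hQT.trans hTS) hx2)), centralizer_le hTS hx2⟩
  have h4 : (c : G) ∈ normalizer ((S : Subgroup G) : Set G) := zn.hZ S (centralizer_le h3 h2)
  have h5 : (S : Subgroup G) ⊓ L = T :=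
    hsyl.eq_of_le (S.2.to_le inf_le_left) (le_inf hTS hsyl.le) inf_le_right
  rw [← h5]
  exact Cfsg.Agent.Lib.Helper62.le_normalizer_inf (A := zpowers (c : G)) (zpowers_le.mpr h4)
    (zpowers_le.mpr (le_normalizer c.2)) (mem_zpowers _)

theorem lx_of_mem (zn : ZN G) (hT1 : T ≠ ⊥) (hLT : L ∈ Cfsg.jOvergroups T) :
    LX (isSylowIn_of_two hLT.1).toSylow := by
  refine ⟨Cfsg.Agent.Lib.Helper11.isPSolvable_of_isSolvable 2 (isSolvable_of_mem zn hT1 hLT),
    pPrimeCore_eq_bot_of_charTwo (inf_le_right.trans hLT.2.2),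
    centralizer_VV_le_normalizer zn _ hLT.2.2, ?_⟩
  intro h
  apply hLT.2.1
  have h1 := map_mono (f := L.subtype) h
  rw [IsSylowIn.coe_toSylow, thompsonSubgroupOf_subgroupOf hLT.1.1] at h1
  exact h1

end

/-- transport of the group-theoretic part of the definition -/
theorem jcx_of_isJComponent [Finite G] {T L K : Subgroup G} (hsyl : IsSylowIn 2 T L)
    (hK : Cfsg.IsJComponent T K) (hKL : K ≤ L) :
    JCX hsyl.toSylow (K.subgroupOf L) ((Cfsg.pCoreOf 2 K).subgroupOf L) := by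
  have hinj : Function.Injective (Subgroup.map L.subtype) := map_injective L.subtype_injective
  refine ⟨?_, ?_, ?_, ?_, ?_⟩
  · apply hinj
    rw [MonoidHom.map_closure, map_subgroupOf_eq_of_le hKL]
    conv_rhs => rw [← hK.1]
    congr 1
    ext g
    constructor
    · rintro ⟨x, ⟨hx, hodd⟩, rfl⟩
      refine ⟨mem_subgroupOf.mp hx, ?_⟩
      rw [Subgroup.coe_subtype, Subgroup.orderOf_coe]
      exact hodd
    · rintro ⟨hg, hodd⟩
      refine ⟨⟨g, hKL hg⟩, ⟨mem_subgroupOf.mpr hg, ?_⟩, rfl⟩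
      rw [← Subgroup.orderOf_coe]
      exact hodd
  · apply hinj
    rw [Subgroup.map_commutator, map_subgroupOf_eq_of_le hKL, IsSylowIn.coe_toSylow,
      thompsonSubgroupOf_subgroupOf hsyl.le]
    exact hK.2.1
  · intro x hx
    exact mem_subgroupOf.mpr (Cfsg.Agent.Lib.Helper49.pCoreOf_le 2 K (mem_subgroupOf.mp hx))
  · exact (Cfsg.Agent.Lib.Helper49.pCoreOf_isPGroup 2 K).comap_subtype
  · rw [relIndex_subgroupOf hKL]
    exact hK.2.2.1

end Cfsg.Agent.Lib.Helper48
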