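import Cfsg.Agent.Lib.Helper48.JC5
import Cfsg.Agent.Lib.Helper10.PCore

/-!
`J(T)`-components: the normalizer of a component (type level).
-/

set_option autoImplicit false

namespace Cfsg.Agent.Lib.Helper48

open Subgroup
open scoped commutatorElement
open Cfsg.Agent.Lib.Helper22 (conjS mem_conjS conjS_mem conjS_mul conjS_one conjS_eq_of_mem_normalizer)

section

variable {K : Type*} [Group K] (V : Subgroup K) [V.Characteristic]

theorem la_commutatorElement (v : V) (k : K) (h : ⁅(v : K), k⁆ ∈ V) :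
    la V ⟨⁅(v : K), k⁆, h⟩ = ⁅la V v, ps V k⁆ := by
  have e : ⁅la V v, ps V k⁆ = la V v * (ps V k * la V v⁻¹ * (ps V k)⁻¹) := by
    rw [commutatorElement_def, map_inv]
    group
  rw [e, ps_conj_la, ← map_mul]
  congr 1
  apply Subtype.ext
  change ⁅(v : K), k⁆ = (v : K) * (k * ((v⁻¹ : V) : K) * k⁻¹)
  rw [commutatorElement_def, InvMemClass.coe_inv]
  group

theorem commutatorElement_mem_of_char (v : V) (k : K) : ⁅(v : K), k⁆ ∈ V := by
  haveI : V.Normal := inferInstance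
  rw [commutatorElement_def, mul_assoc, mul_assoc]
  refine mul_mem v.2 ?_
  rw [← mul_assoc]
  exact ‹V.Normal›.conj_mem _ (inv_mem v.2) k

theorem map_la_commutator (A : Subgroup K) :
    (⁅V, A⁆.subgroupOf V).map (la V) = ⁅(la V).range, A.map (ps V)⁆ := by
  apply le_antisymm
  · have h1 : ⁅V, A⁆ ≤ ((⁅(la V).range, A.map (ps V)⁆).comap (la V)).map V.subtype := by
      rw [commutator_le]
      intro v hv a ha
      refine ⟨⟨⁅v, a⁆, commutatorElement_mem_of_char V ⟨v, hv⟩ a⟩, ?_, rfl⟩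
      rw [SetLike.mem_coe, mem_comap, la_commutatorElement V ⟨v, hv⟩ a]
      exact commutator_mem_commutator ⟨_, rfl⟩ ⟨a, ha, rfl⟩
    rintro _ ⟨x, hx, rfl⟩
    obtain ⟨y, hy, hyx⟩ := h1 (mem_subgroupOf.mp hx)
    have : y = x := Subtype.ext hyx
    rw [← this]
    exact hy
  · rw [commutator_le]
    rintro _ ⟨v, rfl⟩ _ ⟨a, ha, rfl⟩
    rw [← la_commutatorElement V v a (commutatorElement_mem_of_char V v a)]
    exact ⟨_, mem_subgroupOf.mpr (commutator_mem_commutator v.2 ha), rfl⟩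

theorem ps_mem_normalizer_range_la (g : K) :
    ps V g ∈ normalizer ((la V).range : Set (Equiv.Perm V)) :=
  range_Th_le_normalizer V ⟨MulAut.conj g, rfl⟩

theorem map_ps_conjS (g : K) (A : Subgroup K) :
    (conjS g A).map (ps V) = conjS (ps V g) (A.map (ps V)) := by
  ext x
  constructor
  · rintro ⟨_, ⟨a, ha, rfl⟩, rfl⟩
    refine ⟨ps V a, ⟨a, ha, rfl⟩, ?_⟩
    simp
  · rintro ⟨_, ⟨a, ha, rfl⟩, rfl⟩
    refine ⟨g * a * g⁻¹, ⟨a, ha, by simp⟩, ?_⟩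
    simp

end

section

variable {G : Type*} [Group G]

theorem commutator_sup_le_of {K C J : Subgroup G} (hCK : C ≤ normalizer (K : Set G))
    (hJK : J ≤ normalizer (K : Set G)) (hCJ : ⁅C, J⁆ ≤ J ⊓ C) : ⁅K ⊔ C, J⁆ ≤ K ⊔ (J ⊓ C) := by
  rw [commutator_le]
  intro g hg j hj
  obtain ⟨k, hk, m, hm, rfl⟩ := (Cfsg.Agent.Lib.Helper22.mem_sup_of_le_normalizer hCK).mp hg
  have e : ⁅k * m, j⁆ = ⁅m, j⁆ * (⁅m, j⁆⁻¹ * k * ⁅m, j⁆⁻¹⁻¹) * k⁻¹ * ⁅k, j⁆ := by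
    simp only [commutatorElement_def]
    group
  have hx : ⁅m, j⁆ ∈ J ⊓ C := hCJ (commutator_mem_commutator hm hj)
  rw [e]
  refine mul_mem (mul_mem (mul_mem (mem_sup_right hx) (mem_sup_left ?_))
    (mem_sup_left (inv_mem hk))) (mem_sup_left ?_)
  · exact (mem_normalizer_iff.mp (hJK (inv_mem (mem_inf.mp hx).1)) k).mp hk
  · exact le_normalizer_iff_commutator_le_left.mp hJK (commutator_mem_commutator hk hj)

end

universe u

variable {X : Type u} [Group X]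

namespace JCX

variable {S : Sylow 2 X} {K P : Subgroup X}

theorem inf_centralizer_le [Finite X] (hK : JCX S K P) (h : LX S) :
    K ⊓ centralizer (VV 2 X : Set X) ≤ P := by
  have hPC := (hK.exists_mo h).1
  have h1 : P ≤ K ⊓ centralizer (VV 2 X : Set X) := le_inf hK.hPK hPC
  have h2 := relIndex_mul_relIndex P _ K h1 inf_le_left
  rw [hK.hP3] at h2
  have h3 : (K ⊓ centralizer (VV 2 X : Set X)).relIndex K ≠ 1 := by
    intro h4
    rw [relIndex_eq_one] at h4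
    exact hK.not_le_centralizer h (h4.trans inf_le_right)
  have h4 : (K ⊓ centralizer (VV 2 X : Set X)).relIndex K = 3 :=
    ((Nat.dvd_prime Nat.prime_three).mp (Dvd.intro_left _ h2)).resolve_left h3
  rw [h4] at h2
  have h5 : P.relIndex (K ⊓ centralizer (VV 2 X : Set X)) = 1 := by omega
  exact relIndex_eq_one.mp h5

theorem P_le [Finite X] (hK : JCX S K P) (h : LX S) :
    P ≤ Cfsg.pCore 2 X ⊓ centralizer (VV 2 X : Set X) := by
  have hPC := (hK.exists_mo h).1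
  refine le_inf ?_ hPC
  refine (le_inf ?_ hPC).trans h.inf_le_pCore
  have h1 : IsPGroup 2 ((S : Subgroup X) ⊔ P : Subgroup X) :=
    Cfsg.Agent.Lib.Helper22.isPGroup_sup (hPC.trans h.hC) S.2 hK.hP2
  have h2 := S.3 h1 le_sup_left
  rw [← h2]
  exact le_sup_right

/-- abbreviations for the image situation -/
abbrev Vb (X : Type u) [Group X] : Subgroup (Equiv.Perm ↥(VV 2 X)) := (la (VV 2 X)).range

abbrev Hb (X : Type u) [Group X] : Subgroup (Equiv.Perm ↥(VV 2 X)) :=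
  (Cfsg.thompsonSubgroup 2 X).map (ps (VV 2 X))

theorem ps_mem_normalizer_Hb [Finite X] (g : X) :
    ps (VV 2 X) g ∈ normalizer (Hb X : Set (Equiv.Perm ↥(VV 2 X))) := by
  haveI hJXc : (Cfsg.thompsonSubgroup 2 X).Characteristic :=
    (Cfsg.Agent.S0602.result (G := X) (p := 2)).1
  exact map_ps_le_normalizer _ inferInstance ⟨g, rfl⟩

theorem conj_E_eq [Finite X] (h : LX S) {B : Subgroup (Equiv.Perm ↥(VV 2 X))}
    (hB : MO 2 (Vb X) (Hb X) B) {g : X}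
    (hg : conjS (ps (VV 2 X) g) ⁅Vb X, EE 2 (Hb X) B⁆ = ⁅Vb X, EE 2 (Hb X) B⁆) :
    EE 2 (Hb X) (conjS (ps (VV 2 X) g) B) = EE 2 (Hb X) B := by
  obtain ⟨hfg, -⟩ := fg_thompson h.hsep h.hO h.hnf
  have hgV := ps_mem_normalizer_range_la (VV 2 X) g
  have hgH := ps_mem_normalizer_Hb g
  apply hB.E_eq_of_W_eq (hB.conj' hgV hgH) hfg
  rw [hB.W_conj' hgV hgH, hg]

theorem conj_mem_normalizer [Finite X] (hK : JCX S K P) (h : LX S)
    {B : Subgroup (Equiv.Perm ↥(VV 2 X))} (hB : MO 2 (Vb X) (Hb X) B)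
    (hBJ : B ≤ (Cfsg.thompsonSubgroupOf 2 (S : Subgroup X)).map (ps (VV 2 X)))
    (hKB : K.map (ps (VV 2 X)) = ⁅ppc 2 (Hb X), B⁆) {g : X}
    (hg : conjS (ps (VV 2 X) g) ⁅Vb X, EE 2 (Hb X) B⁆ = ⁅Vb X, EE 2 (Hb X) B⁆)
    {b : X} (hb : ps (VV 2 X) b ∈ B) : g * b * g⁻¹ ∈ normalizer (K : Set X) := by
  have hE := conj_E_eq h hB hg
  have hgH := ps_mem_normalizer_Hb g
  rw [hB.EE_conj' hgH] at hE
  have h1 : ps (VV 2 X) (g * b * g⁻¹) ∈ EE 2 (Hb X) B := by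
    rw [← hE]
    refine ⟨ps (VV 2 X) b, mem_sup_right hb, ?_⟩
    simp
  obtain ⟨r, hr, β, hβ, hrβ⟩ :=
    (Cfsg.Agent.Lib.Helper22.mem_sup_of_le_normalizer hB.A_le_normalizer_R).mp h1
  rw [← hKB] at hr
  obtain ⟨k, hk, rfl⟩ := hr
  obtain ⟨b', hb', rfl⟩ := hBJ hβ
  have h2 : (k * b')⁻¹ * (g * b * g⁻¹) ∈ centralizer (VV 2 X : Set X) := by
    rw [← ps_ker, MonoidHom.mem_ker, map_mul, map_inv, ← hrβ, map_mul]
    group
  have h3 := mul_mem (mul_mem (le_normalizer hk : k ∈ normalizer (K : Set X))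
    (le_normalizer_of_commutator_eq hK.comm hb')) (hK.centralizer_le_normalizer h h2)
  have e : k * b' * ((k * b')⁻¹ * (g * b * g⁻¹)) = g * b * g⁻¹ := by group
  rwa [e] at h3

theorem conj_R_eq [Finite X] (h : LX S) {B : Subgroup (Equiv.Perm ↥(VV 2 X))}
    (hB : MO 2 (Vb X) (Hb X) B) {g : X}
    (hg : conjS (ps (VV 2 X) g) ⁅Vb X, EE 2 (Hb X) B⁆ = ⁅Vb X, EE 2 (Hb X) B⁆) :
    conjS (ps (VV 2 X) g) ⁅ppc 2 (Hb X), B⁆ = ⁅ppc 2 (Hb X), B⁆ := by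
  have hE := conj_E_eq h hB hg
  have hgV := ps_mem_normalizer_range_la (VV 2 X) g
  have hgH := ps_mem_normalizer_Hb g
  rw [← commutator_conjS (normalizer_le_normalizer_ppc 2 _ hgH), ← (hB.conj' hgV hgH).E_inf_ppc,
    ← hB.E_inf_ppc]
  change EE 2 (Hb X) (conjS (ps (VV 2 X) g) B) ⊓ _ = EE 2 (Hb X) B ⊓ _
  rw [hE]

/-- an element of `X` which stabilizes `[V, K]` normalizes `K` -/
theorem mem_normalizer_of_conj_W [Finite X] (hK : JCX S K P) (h : LX S)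
    {B : Subgroup (Equiv.Perm ↥(VV 2 X))} (hB : MO 2 (Vb X) (Hb X) B)
    (hBJ : B ≤ (Cfsg.thompsonSubgroupOf 2 (S : Subgroup X)).map (ps (VV 2 X)))
    (hKB : K.map (ps (VV 2 X)) = ⁅ppc 2 (Hb X), B⁆) {g : X}
    (hg : conjS (ps (VV 2 X) g) ⁅Vb X, EE 2 (Hb X) B⁆ = ⁅Vb X, EE 2 (Hb X) B⁆) :
    g ∈ normalizer (K : Set X) := by
  set C := centralizer (VV 2 X : Set X) with hC
  set J := Cfsg.thompsonSubgroupOf 2 (S : Subgroup X) with hJ
  have hg' : conjS (ps (VV 2 X) g⁻¹) ⁅Vb X, EE 2 (Hb X) B⁆ = ⁅Vb X, EE 2 (Hb X) B⁆ := by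
    conv_lhs => rw [← hg]
    rw [← conjS_mul, ← map_mul, inv_mul_cancel, map_one, conjS_one]
  have hCK := hK.centralizer_le_normalizer h
  have hJK : J ≤ normalizer (K : Set X) := le_normalizer_of_commutator_eq hK.comm
  -- the part of `J` over `B`
  set JB : Subgroup X := J ⊓ B.comap (ps (VV 2 X)) with hJB
  have hJBmap : JB.map (ps (VV 2 X)) = B := by
    apply le_antisymm
    · rintro _ ⟨x, hx, rfl⟩
      exact (mem_inf.mp hx).2
    · intro β hβ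
      obtain ⟨b, hb, rfl⟩ := hBJ hβ
      exact ⟨b, mem_inf.mpr ⟨hb, hβ⟩, rfl⟩
  set K₂ := conjS g K with hK₂
  have hJBK₂ : JB ≤ normalizer (K₂ : Set X) := by
    intro b hb
    have h1 := hK.conj_mem_normalizer h hB hBJ hKB hg' (mem_inf.mp hb).2
    have h2 := le_normalizer_conjS g (zpowers_le.mpr h1 : zpowers (g⁻¹ * b * g⁻¹⁻¹) ≤ _)
    apply h2
    refine ⟨g⁻¹ * b * g⁻¹⁻¹, mem_zpowers _, ?_⟩
    simp only [MulEquiv.coe_toMonoidHom, MulAut.conj_apply]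
    group
  have hK₂map : K₂.map (ps (VV 2 X)) = ⁅ppc 2 (Hb X), B⁆ := by
    rw [hK₂, map_ps_conjS, hKB, conj_R_eq h hB hg]
  have hK₂le : K₂ ≤ K ⊔ C := by
    have h1 : K₂ ≤ (K.map (ps (VV 2 X))).comap (ps (VV 2 X)) := by
      rw [hKB, ← hK₂map]
      exact le_comap_map _ _
    rwa [comap_map_eq, ps_ker] at h1
  have hRR : ⁅⁅ppc 2 (Hb X), B⁆, B⁆ = ⁅ppc 2 (Hb X), B⁆ :=
    Cfsg.Agent.Lib.Helper22.commutator_commutator_eq B _ hB.isPGroup_A (not_dvd_card_ppc 2 _)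
      hB.hAQ
  have hCJ : ⁅C, J⁆ ≤ J ⊓ C := by
    refine le_inf ?_ ?_
    · rw [commutator_comm]
      exact le_normalizer_iff_commutator_le_left.mp h.hCJ
    · apply le_normalizer_iff_commutator_le_left.mp
      rw [normalizer_eq_top]
      exact le_top
  set R₀ := Cfsg.pCore 2 X ⊓ C with hR₀
  have hR₀n : R₀.Normal := by
    haveI : (Cfsg.pCore 2 X).Normal := Cfsg.Agent.Lib.Helper10.pCore_normal 2
    infer_instance
  have hle : K₂ ≤ K ⊔ R₀ := by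
    intro x hx
    have h1 : ps (VV 2 X) x ∈ (⁅K₂, JB⁆).map (ps (VV 2 X)) := by
      rw [Subgroup.map_commutator, hK₂map, hJBmap, hRR, ← hK₂map]
      exact ⟨x, hx, rfl⟩
    obtain ⟨y, hy, hyx⟩ := h1
    have hyK₂ : y ∈ K₂ := le_normalizer_iff_commutator_le_left.mp hJBK₂ hy
    have hy2 : y ∈ K ⊔ (J ⊓ C) :=
      commutator_sup_le_of hCK hJK hCJ (commutator_mono hK₂le inf_le_left hy)
    have hz : y⁻¹ * x ∈ K₂ ⊓ C := by
      refine mem_inf.mpr ⟨mul_mem (inv_mem hyK₂) hx, ?_⟩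
      rw [hC, ← ps_ker, MonoidHom.mem_ker, map_mul, map_inv, hyx, inv_mul_cancel]
    have hz2 : y⁻¹ * x ∈ R₀ := by
      obtain ⟨hz1, hzC⟩ := mem_inf.mp hz
      obtain ⟨k, hk, hkz⟩ := hz1
      have hkC : k ∈ C := by
        have h3 : g⁻¹ * (y⁻¹ * x) * g⁻¹⁻¹ ∈ C :=
          (inferInstance : C.Normal).conj_mem _ hzC g⁻¹
        rw [← hkz] at h3
        simpa [mul_assoc] using h3
      have h4 : k ∈ R₀ := hK.P_le h (hK.inf_centralizer_le h (mem_inf.mpr ⟨hk, hkC⟩))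
      rw [← hkz]
      exact hR₀n.conj_mem _ h4 g
    have hJC : J ⊓ C ≤ R₀ :=
      le_inf ((inf_le_inf_right _ (thompsonSubgroupOf_le' 2 _)).trans h.inf_le_pCore) inf_le_right
    have e : x = y * (y⁻¹ * x) := by group
    rw [e]
    exact mul_mem (sup_le_sup_left hJC _ hy2) (mem_sup_right hz2)
  apply Cfsg.Agent.Lib.Helper50.mem_normalizer_of_map_conj_le
  change K₂ ≤ K
  apply le_of_odd_gen (odd_gen_conjS hK.gen g)
  intro x hx hodd
  exact mem_of_odd_of_mem_sup ((Cfsg.Agent.Lib.Helper10.pCore_isPGroup 2).to_le inf_le_left)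
    (inf_le_right.trans hCK) (hle hx) hodd

theorem map_la_comm_eq [Finite X] {B : Subgroup (Equiv.Perm ↥(VV 2 X))}
    (hB : MO 2 (Vb X) (Hb X) B) (hKB : K.map (ps (VV 2 X)) = ⁅ppc 2 (Hb X), B⁆) :
    (⁅VV 2 X, K⁆.subgroupOf (VV 2 X)).map (la (VV 2 X)) = ⁅Vb X, EE 2 (Hb X) B⁆ := by
  rw [map_la_commutator, hKB, hB.comm_R]

theorem commutator_VV_le (K : Subgroup X) : ⁅VV 2 X, K⁆ ≤ VV 2 X := by
  apply le_normalizer_iff_commutator_le_left.mp
  rw [normalizer_eq_top]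
  exact le_top

theorem card_commutator_VV [Finite X] (hK : JCX S K P) (h : LX S) :
    Nat.card ↥⁅VV 2 X, K⁆ = 4 := by
  obtain ⟨-, B, hB, -, hKB⟩ := hK.exists_mo h
  have h1 := hB.card_W
  rw [← map_la_comm_eq hB hKB, Subgroup.card_map_of_injective (la_injective _)] at h1
  have h2 : Nat.card ↥(⁅VV 2 X, K⁆.subgroupOf (VV 2 X)) = Nat.card ↥⁅VV 2 X, K⁆ :=
    Nat.card_congr (subgroupOfEquivOfLe (commutator_VV_le K)).toEquiv
  rw [← h2, h1]
  norm_num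

/-- an element `g` of `X` with `[V, K]^g ∩ [V, K] ≠ 1` normalizes `K` -/
theorem mem_normalizer_of_inf_ne_bot [Finite X] (hK : JCX S K P) (h : LX S) {g : X}
    (hne : conjS g ⁅VV 2 X, K⁆ ⊓ ⁅VV 2 X, K⁆ ≠ ⊥) : g ∈ normalizer (K : Set X) := by
  obtain ⟨-, B, hB, hBJ, hKB⟩ := hK.exists_mo h
  apply hK.mem_normalizer_of_conj_W h hB hBJ hKB
  have hgV := ps_mem_normalizer_range_la (VV 2 X) g
  have hgH := ps_mem_normalizer_Hb g
  rw [← hB.W_conj' hgV hgH]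
  refine ((hB.W_eq_or_disj (hB.conj' hgV hgH)).resolve_right ?_).symm
  intro hdisj
  apply hne
  rw [eq_bot_iff]
  intro z hz
  obtain ⟨⟨y, hy, hyz⟩, hz2⟩ := mem_inf.mp hz
  have hzV := commutator_VV_le K hz2
  have hyV := commutator_VV_le K hy
  have h1 : la (VV 2 X) ⟨z, hzV⟩ ∈ ⁅Vb X, EE 2 (Hb X) B⁆ := by
    rw [← map_la_comm_eq hB hKB]
    exact ⟨⟨z, hzV⟩, mem_subgroupOf.mpr hz2, rfl⟩
  have h2 : la (VV 2 X) ⟨y, hyV⟩ ∈ ⁅Vb X, EE 2 (Hb X) B⁆ := by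
    rw [← map_la_comm_eq hB hKB]
    exact ⟨⟨y, hyV⟩, mem_subgroupOf.mpr hy, rfl⟩
  have h3 : la (VV 2 X) ⟨z, hzV⟩ ∈ ⁅Vb X, EE 2 (Hb X) (conjS (ps (VV 2 X) g) B)⁆ := by
    rw [hB.W_conj' hgV hgH]
    refine ⟨_, h2, ?_⟩
    rw [MulEquiv.coe_toMonoidHom, MulAut.conj_apply, ps_conj_la]
    congr 1
    exact Subtype.ext hyz
  have h4 : la (VV 2 X) ⟨z, hzV⟩ ∈ (⊥ : Subgroup _) := by
    rw [← hdisj]
    exact mem_inf.mpr ⟨h1, h3⟩
  rw [mem_bot] at h4 ⊢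
  have h5 := la_injective (VV 2 X) (h4.trans (map_one _).symm)
  exact congrArg Subtype.val h5

end JCX

end Cfsg.Agent.Lib.Helper48
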