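import Cfsg.Agent.Lib.Helper48.JC6
import Cfsg.Agent.Lib.Helper46.Ambient

/-!
`J(T)`-components: facts in the ambient group.
-/

set_option autoImplicit false

namespace Cfsg.Agent.Lib.Helper48

open Subgroup
open scoped commutatorElement
open Cfsg.Agent.Lib.Helper22 (conjS mem_conjS conjS_mem conjS_mul conjS_one conjS_eq_of_mem_normalizer)
open Cfsg.Agent.Lib.Helper47 (IsSylowIn)

universe u

variable {G : Type u} [Group G]

theorem inf_ker_conj (g : G) (P : Subgroup G) : P ⊓ (MulAut.conj g).toMonoidHom.ker = ⊥ := by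
  rw [(MonoidHom.ker_eq_bot_iff _).mpr (MulAut.conj g).injective, inf_bot_eq]

theorem omegaCenterOf_conjS (g : G) (P : Subgroup G) :
    Cfsg.omegaCenterOf (conjS g P) = conjS g (Cfsg.omegaCenterOf P) :=
  omegaOne_center_map (MulAut.conj g).toMonoidHom P (inf_ker_conj g P)

theorem pCoreOf_conjS (p : ℕ) (g : G) (K : Subgroup G) :
    Cfsg.pCoreOf p (conjS g K) = conjS g (Cfsg.pCoreOf p K) :=
  Cfsg.Agent.Lib.Helper46.pCoreOf_map (MulAut.conj g) K

theorem wOf_conjS (g : G) (K : Subgroup G) : Cfsg.wOf (conjS g K) = conjS g (Cfsg.wOf K) := by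
  unfold Cfsg.wOf
  rw [pCoreOf_conjS, omegaCenterOf_conjS]
  exact (Subgroup.map_commutator _ _ _).symm

theorem thompsonSubgroupOf_conjS (p : ℕ) (g : G) (T : Subgroup G) :
    Cfsg.thompsonSubgroupOf p (conjS g T) = conjS g (Cfsg.thompsonSubgroupOf p T) :=
  thompsonSubgroupOf_map (MulAut.conj g).toMonoidHom T (inf_ker_conj g T)

theorem normalizer_le_normalizer_omegaCenterOf (P : Subgroup G) :
    normalizer (P : Set G) ≤ normalizer (Cfsg.omegaCenterOf P : Set G) := by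
  intro g hg
  rw [Cfsg.Agent.Lib.Helper50.mem_normalizer_iff_map_conj]
  change conjS g _ = _
  rw [← omegaCenterOf_conjS, conjS_eq_of_mem_normalizer hg]

theorem normalizer_le_normalizer_wOf (K : Subgroup G) :
    normalizer (K : Set G) ≤ normalizer (Cfsg.wOf K : Set G) := by
  intro g hg
  rw [Cfsg.Agent.Lib.Helper50.mem_normalizer_iff_map_conj]
  change conjS g _ = _
  rw [← wOf_conjS, conjS_eq_of_mem_normalizer hg]

theorem omegaOne_le' (p : ℕ) (A : Subgroup G) : Cfsg.omegaOne p A ≤ A := by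
  unfold Cfsg.omegaOne
  rw [closure_le]
  rintro x ⟨hx, -⟩
  exact hx

theorem omegaCenterOf_le (P : Subgroup G) : Cfsg.omegaCenterOf P ≤ P ⊓ centralizer (P : Set G) :=
  omegaOne_le' 2 _

theorem relIndex_conjS (g : G) (A B : Subgroup G) :
    (conjS g A).relIndex (conjS g B) = A.relIndex B := by
  have := relIndex_map_map_of_injective A B (f := (MulAut.conj g).toMonoidHom)
    (MulAut.conj g).injective
  exact this

theorem isSylowTwoIn_conjS {S H : Subgroup G} (h : Cfsg.IsSylowTwoIn S H) (g : G) :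
    Cfsg.IsSylowTwoIn (conjS g S) (conjS g H) :=
  ⟨map_mono h.1, h.2.1.map _, by rw [relIndex_conjS]; exact h.2.2⟩

theorem isJComponent_conjS {T K : Subgroup G} (hK : Cfsg.IsJComponent T K) (g : G) :
    Cfsg.IsJComponent (conjS g T) (conjS g K) := by
  obtain ⟨h1, h2, h3, h4, h5, h6⟩ := hK
  refine ⟨odd_gen_conjS h1 g, ?_, ?_, ?_, ?_, ?_⟩
  · rw [thompsonSubgroupOf_conjS]
    conv_rhs => rw [← h2]
    exact (Subgroup.map_commutator _ _ _).symm
  · rw [pCoreOf_conjS, relIndex_conjS, h3]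
  · intro S hS hJS
    rw [thompsonSubgroupOf_conjS] at hS hJS ⊢
    have hS' := isSylowTwoIn_conjS hS g⁻¹
    have e : conjS g⁻¹ (conjS g K ⊔ conjS g (Cfsg.thompsonSubgroupOf 2 T)) =
        K ⊔ Cfsg.thompsonSubgroupOf 2 T := by
      change map _ _ = _
      rw [Subgroup.map_sup]
      change conjS g⁻¹ (conjS g K) ⊔ conjS g⁻¹ (conjS g _) = _
      rw [conjS_inv_conjS, conjS_inv_conjS]
    rw [e] at hS'
    have hJ' : Cfsg.thompsonSubgroupOf 2 T ≤ conjS g⁻¹ S := by
      have := map_mono (f := (MulAut.conj g⁻¹).toMonoidHom) hJS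
      change conjS g⁻¹ (conjS g _) ≤ _ at this
      rwa [conjS_inv_conjS] at this
    have h7 := h4 _ hS' hJ'
    rw [thompsonSubgroupOf_conjS] at h7
    rw [← h7, conjS_conjS_inv]
  · rw [wOf_conjS, ← h5]
    exact Subgroup.card_map_of_injective (MulAut.conj g).injective
  · rw [wOf_conjS]
    rintro _ ⟨w, hw, rfl⟩
    rw [← map_mul, h6 w hw, map_one]

theorem isJComponent_congr {T T' K : Subgroup G} (hK : Cfsg.IsJComponent T K)
    (h : Cfsg.thompsonSubgroupOf 2 T = Cfsg.thompsonSubgroupOf 2 T') : Cfsg.IsJComponent T' K := by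
  unfold Cfsg.IsJComponent at hK ⊢
  rw [← h]
  exact hK

/-- the internal structure of a component -/
structure JD (K : Subgroup G) (d : G) : Prop where
  hdK : d ∈ K
  hd3 : orderOf d = 3
  hsup : Cfsg.pCoreOf 2 K ⊔ zpowers d = K

theorem exists_jd [Finite G] {T K : Subgroup G} (hK : Cfsg.IsJComponent T K) : ∃ d, JD K d := by
  obtain ⟨h1, -, h3, -⟩ := hK
  set P := Cfsg.pCoreOf 2 K with hP
  have hPK : P ≤ K := Cfsg.Agent.Lib.Helper49.pCoreOf_le 2 K
  have hne : ¬ K ≤ P := by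
    intro hle
    rw [relIndex_eq_one.mpr hle] at h3
    norm_num at h3
  have hex : ∃ g ∈ K, Odd (orderOf g) ∧ g ∉ P := by
    by_contra hcon
    push Not at hcon
    exact hne (le_of_odd_gen h1 hcon)
  obtain ⟨g, hgK, hodd, hgP⟩ := hex
  have hg3 : g ^ 3 ∈ P := by
    haveI : (P.subgroupOf K).Normal :=
      (normal_subgroupOf_iff_le_normalizer hPK).mpr (Cfsg.Agent.Lib.Helper49.le_normalizer_pCoreOf 2 K)
    have := Subgroup.pow_index_mem (P.subgroupOf K) ⟨g, hgK⟩
    change _ ^ P.relIndex K ∈ _ at this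
    rw [h3] at this
    exact mem_subgroupOf.mp this
  obtain ⟨k, hk⟩ := (Cfsg.Agent.Lib.Helper49.pCoreOf_isPGroup 2 K) ⟨g ^ 3, hg3⟩
  have hk' : (g ^ 3) ^ 2 ^ k = 1 := congrArg Subtype.val hk
  rw [← pow_mul] at hk'
  have hd : orderOf g ∣ 3 := by
    have h4 : orderOf g ∣ 3 * 2 ^ k := orderOf_dvd_of_pow_eq_one hk'
    exact Nat.Coprime.dvd_of_dvd_mul_right
      (Nat.Coprime.pow_right k (Nat.coprime_two_right.mpr hodd)) h4
  have ho : orderOf g = 3 := by
    refine ((Nat.dvd_prime Nat.prime_three).mp hd).resolve_left ?_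
    intro h5
    rw [orderOf_eq_one_iff] at h5
    exact hgP (h5 ▸ one_mem _)
  refine ⟨g, hgK, ho, ?_⟩
  have hle : P ⊔ zpowers g ≤ K := sup_le hPK (zpowers_le.mpr hgK)
  have h2 := relIndex_mul_relIndex P _ K le_sup_left hle
  rw [h3] at h2
  have h5 : P.relIndex (P ⊔ zpowers g) ≠ 1 := by
    intro h6
    exact hgP (relIndex_eq_one.mp h6 (mem_sup_right (mem_zpowers g)))
  have h6 : P.relIndex (P ⊔ zpowers g) = 3 :=
    ((Nat.dvd_prime Nat.prime_three).mp (Dvd.intro _ h2)).resolve_left h5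
  rw [h6] at h2
  have h7 : (P ⊔ zpowers g).relIndex K = 1 := by omega
  exact le_antisymm hle (relIndex_eq_one.mp h7)

namespace JD

variable {K : Subgroup G} {d : G}

theorem K_le_normalizer_U (K : Subgroup G) :
    K ≤ normalizer (Cfsg.omegaCenterOf (Cfsg.pCoreOf 2 K) : Set G) :=
  (Cfsg.Agent.Lib.Helper49.le_normalizer_pCoreOf 2 K).trans
    (normalizer_le_normalizer_omegaCenterOf _)

theorem card_D (h : JD K d) : Nat.card (zpowers d) = 3 := by
  rw [Nat.card_zpowers, h.hd3]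

theorem D_le (h : JD K d) : zpowers d ≤ K := zpowers_le.mpr h.hdK

theorem isPGroup_D (h : JD K d) : IsPGroup 3 (zpowers d) :=
  IsPGroup.of_card (n := 1) (by rw [h.card_D, pow_one])

theorem isPGroup_U (K : Subgroup G) : IsPGroup 2 (Cfsg.omegaCenterOf (Cfsg.pCoreOf 2 K)) :=
  (Cfsg.Agent.Lib.Helper49.pCoreOf_isPGroup 2 K).to_le ((omegaCenterOf_le _).trans inf_le_left)

theorem wOf_eq (h : JD K d) :
    Cfsg.wOf K = ⁅Cfsg.omegaCenterOf (Cfsg.pCoreOf 2 K), zpowers d⁆ := by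
  have hN := K_le_normalizer_U K
  unfold Cfsg.wOf
  conv_lhs => rhs; rw [← h.hsup]
  rw [commutator_sup_eq ((Cfsg.Agent.Lib.Helper49.pCoreOf_le 2 K).trans hN) (h.D_le.trans hN)]
  have h1 : ⁅Cfsg.omegaCenterOf (Cfsg.pCoreOf 2 K), Cfsg.pCoreOf 2 K⁆ = ⊥ := by
    rw [commutator_eq_bot_iff_le_centralizer]
    exact (omegaCenterOf_le _).trans inf_le_right
  rw [h1, bot_sup_eq]

theorem wOf_le (K : Subgroup G) : Cfsg.wOf K ≤ Cfsg.omegaCenterOf (Cfsg.pCoreOf 2 K) :=
  le_normalizer_iff_commutator_le_left.mp (K_le_normalizer_U K)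

theorem not_three_dvd_card_U [Finite G] (K : Subgroup G) :
    ¬ 3 ∣ Nat.card (Cfsg.omegaCenterOf (Cfsg.pCoreOf 2 K)) := by
  obtain ⟨n, hn⟩ := IsPGroup.iff_card.mp (isPGroup_U K)
  rw [hn]
  intro h3
  have := Nat.Prime.dvd_of_dvd_pow Nat.prime_three h3
  norm_num at this

theorem comm_wOf [Finite G] (h : JD K d) : ⁅Cfsg.wOf K, zpowers d⁆ = Cfsg.wOf K := by
  haveI : Fact (Nat.Prime 3) := ⟨Nat.prime_three⟩
  rw [h.wOf_eq]
  exact Cfsg.Agent.Lib.Helper22.commutator_commutator_eq _ _ h.isPGroup_D (not_three_dvd_card_U K)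
    (h.D_le.trans (K_le_normalizer_U K))

theorem wOf_inf_centralizer [Finite G] (h : JD K d) :
    Cfsg.wOf K ⊓ centralizer (zpowers d : Set G) = ⊥ := by
  rw [h.wOf_eq]
  apply commutator_inf_centralizer_eq_bot
  · constructor
    constructor
    rintro ⟨a, ha⟩ ⟨b, hb⟩
    apply Subtype.ext
    have ha' := mem_inf.mp (omegaCenterOf_le _ ha)
    have hb' := mem_inf.mp (omegaCenterOf_le _ hb)
    exact (mem_centralizer_iff.mp hb'.2 a ha'.1)
  · exact h.D_le.trans (K_le_normalizer_U K)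
  · intro v hv hv3
    rw [h.card_D] at hv3
    obtain ⟨k, hk⟩ := (isPGroup_U K) ⟨v, hv⟩
    have hk' : v ^ 2 ^ k = 1 := congrArg Subtype.val hk
    have h1 : orderOf v ∣ 3 := orderOf_dvd_of_pow_eq_one hv3
    have h2 : orderOf v ∣ 2 ^ k := orderOf_dvd_of_pow_eq_one hk'
    have h3 : Nat.Coprime 3 (2 ^ k) := Nat.Coprime.pow_right k (by norm_num)
    rw [← orderOf_eq_one_iff]
    exact Nat.eq_one_of_dvd_coprimes h3 h1 h2

/-- `W_K` is irreducible under `d` -/
theorem eq_wOf_of_le [Finite G] (h : JD K d) (hW : Nat.card (Cfsg.wOf K) = 4) {Y : Subgroup G}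
    (hY : Y ≤ Cfsg.wOf K) (hY1 : Y ≠ ⊥) (hdY : d ∈ normalizer (Y : Set G)) : Y = Cfsg.wOf K := by
  have hdvd : Nat.card Y ∣ 4 := hW ▸ card_dvd_of_le hY
  have hcases : Nat.card Y = 1 ∨ Nat.card Y = 2 ∨ Nat.card Y = 4 := by
    have hle : Nat.card Y ≤ 4 := Nat.le_of_dvd (by norm_num) hdvd
    interval_cases hc : Nat.card Y <;> simp_all
  rcases hcases with h1 | h2 | h4
  · exact absurd (card_eq_one.mp h1) hY1
  · exfalso
    haveI : Fact (Nat.Prime 2) := ⟨Nat.prime_two⟩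
    obtain ⟨⟨y, hyY⟩, hy1'⟩ := (Y.ne_bot_iff_exists_ne_one).mp hY1
    have hy1 : y ≠ 1 := fun h => hy1' (Subtype.ext h)
    have hYz : Y = zpowers y := eq_zpowers_of_card_prime h2 hyY hy1
    have hy2 : y ^ 2 = 1 := pow_eq_one_of_card h2 hyY
    have hc : d * y * d⁻¹ ∈ Y := (mem_normalizer_iff.mp hdY y).mp hyY
    rw [hYz, mem_zpowers_iff] at hc
    obtain ⟨k, hk⟩ := hc
    have hdy : d * y * d⁻¹ = y := by
      rcases Int.even_or_odd' k with ⟨m, hm | hm⟩
      · exfalso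
        rw [hm, zpow_mul, zpow_ofNat, hy2, one_zpow] at hk
        apply hy1
        have : d * y * d⁻¹ = 1 := hk.symm
        rw [mul_inv_eq_one] at this
        exact mul_left_cancel (this.trans (mul_one d).symm)
      · rw [hm, zpow_add, zpow_mul, zpow_ofNat, hy2, one_zpow, one_mul, zpow_one] at hk
        exact hk.symm
    have hyc : y ∈ Cfsg.wOf K ⊓ centralizer (zpowers d : Set G) := by
      refine mem_inf.mpr ⟨hY hyY, ?_⟩
      rw [Cfsg.Agent.Lib.Helper22.centralizer_zpowers, mem_centralizer_iff]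
      intro x hx
      rw [Set.mem_singleton_iff.mp hx]
      rw [mul_inv_eq_iff_eq_mul] at hdy
      exact hdy
    rw [h.wOf_inf_centralizer, mem_bot] at hyc
    exact hy1 hyc
  · exact eq_of_le_of_card_ge hY (by rw [hW, h4])

end JD

end Cfsg.Agent.Lib.Helper48
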