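import Cfsg.Agent.Lib.Helper48.JC8

/-!
Elementary abelian subgroups of largest order, in the ambient group; `2`-local subgroups.
-/

set_option autoImplicit false

namespace Cfsg.Agent.Lib.Helper48

open Subgroup
open scoped commutatorElement
open Cfsg.Agent.Lib.Helper22 (conjS mem_conjS conjS_mem conjS_mul conjS_one conjS_eq_of_mem_normalizer)
open Cfsg.Agent.Lib.Helper47 (IsSylowIn)
open Cfsg.Agent.Lib.Helper11 (IsMaxIn)

universe u

variable {G : Type u} [Group G]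

/-- `A` is an elementary abelian `2`-subgroup of `T` of largest order -/
abbrev MEA (T A : Subgroup G) : Prop :=
  IsMaxIn (fun A : Subgroup G => Cfsg.IsElementaryAbelian 2 A) T A

theorem exists_mea [Finite G] (T : Subgroup G) : ∃ A, MEA T A :=
  Cfsg.Agent.Lib.Helper11.exists_isMaxIn _ Cfsg.Agent.Lib.Helper10.isEA_bot T

theorem MEA.le_J [Finite G] {T A : Subgroup G} (h : MEA T A) : A ≤ Cfsg.thompsonSubgroupOf 2 T := by
  rw [Cfsg.Agent.Lib.Helper51.thompsonSubgroupOf_eq]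
  exact le_sSup h

theorem J_le_iff [Finite G] {T X : Subgroup G} :
    Cfsg.thompsonSubgroupOf 2 T ≤ X ↔ ∀ A, MEA T A → A ≤ X := by
  rw [Cfsg.Agent.Lib.Helper51.thompsonSubgroupOf_eq, sSup_le_iff]
  rfl

theorem MEA.card_eq {T A A' : Subgroup G} (h : MEA T A) (h' : MEA T A') :
    Nat.card A = Nat.card A' :=
  le_antisymm (h'.2.2 A h.1 h.2.1) (h.2.2 A' h'.1 h'.2.1)

theorem MEA.conj {T A : Subgroup G} (h : MEA T A) (g : G) : MEA (conjS g T) (conjS g A) :=
  IsMaxIn.map (Q := fun A : Subgroup G => Cfsg.IsElementaryAbelian 2 A)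
    (fun φ _ hA => Cfsg.Agent.Lib.Helper10.IsEA.map hA φ.toMonoidHom) (MulAut.conj g) h

theorem card_conjS (g : G) (A : Subgroup G) : Nat.card (conjS g A) = Nat.card A :=
  Subgroup.card_map_of_injective (MulAut.conj g).injective

/-- groups with the same Thompson subgroup have the same largest elementary abelian subgroups -/
theorem MEA.of_J_eq [Finite G] {S T A : Subgroup G} (h : MEA S A)
    (hJ : Cfsg.thompsonSubgroupOf 2 S = Cfsg.thompsonSubgroupOf 2 T) : MEA T A := by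
  refine ⟨(hJ ▸ h.le_J).trans (thompsonSubgroupOf_le' 2 T), h.2.1, ?_⟩
  intro C hC hC'
  obtain ⟨A₀, hA₀⟩ := exists_mea T
  refine (hA₀.2.2 C hC hC').trans (h.2.2 A₀ ?_ hA₀.2.1)
  exact (hJ ▸ hA₀.le_J).trans (thompsonSubgroupOf_le' 2 S)

/-- if `J(T) ≤ S` and `a(T) = a(S)` then `J(T) ≤ J(S)` -/
theorem J_le_J_of_card [Finite G] {S T A A' : Subgroup G} (hA : MEA T A) (hA' : MEA S A')
    (hc : Nat.card A = Nat.card A') (hJ : Cfsg.thompsonSubgroupOf 2 T ≤ S) :
    Cfsg.thompsonSubgroupOf 2 T ≤ Cfsg.thompsonSubgroupOf 2 S := by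
  rw [J_le_iff]
  intro B hB
  apply MEA.le_J
  refine ⟨hB.le_J.trans hJ, hB.2.1, ?_⟩
  intro C hC hC'
  rw [hB.card_eq hA, hc]
  exact hA'.2.2 C hC hC'

theorem not_isPGroup_of_isJComponent {T K : Subgroup G} (hK : Cfsg.IsJComponent T K) :
    ¬ IsPGroup 2 K := by
  intro h2
  have h1 : K ≤ ⊥ := by
    apply le_of_odd_gen hK.1
    intro g hg hodd
    obtain ⟨k, hk⟩ := h2 ⟨g, hg⟩
    have hk' : g ^ 2 ^ k = 1 := congrArg Subtype.val hk
    have h3 : orderOf g ∣ 2 ^ k := orderOf_dvd_of_pow_eq_one hk'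
    have h4 : (orderOf g).Coprime (2 ^ k) :=
      Nat.Coprime.pow_right k (Nat.coprime_two_right.mpr hodd)
    rw [mem_bot, ← orderOf_eq_one_iff]
    exact Nat.Coprime.eq_one_of_dvd h4 h3
  have h3 := hK.2.2.1
  rw [le_bot_iff.mp h1, relIndex_bot_right] at h3
  norm_num at h3

theorem isPGroup_wOf {T K : Subgroup G} (hK : Cfsg.IsJComponent T K) : IsPGroup 2 (Cfsg.wOf K) :=
  IsPGroup.of_card (n := 2) (by rw [hK.2.2.2.2.1]; norm_num)

theorem wOf_ne_bot {T K : Subgroup G} (hK : Cfsg.IsJComponent T K) : Cfsg.wOf K ≠ ⊥ := by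
  intro h
  have := hK.2.2.2.2.1
  rw [h, card_bot] at this
  norm_num at this

theorem centralizer_pCoreOf_le (zn : ZN G) {U : Subgroup G} (hU2 : IsPGroup 2 U) (hU1 : U ≠ ⊥) :
    centralizer (Cfsg.pCoreOf 2 (normalizer (U : Set G)) : Set G) ≤
      Cfsg.pCoreOf 2 (normalizer (U : Set G)) := by
  have h1 : U ≤ Cfsg.pCoreOf 2 (normalizer (U : Set G)) :=
    Cfsg.Agent.Lib.Helper49.le_pCoreOf le_normalizer le_rfl hU2
  have h2 := Cfsg.Agent.Lib.Helper49.charP_iff.mp (zn.hL.2 U hU2 hU1)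
  refine (le_inf ?_ le_rfl).trans h2
  exact (centralizer_le h1).trans (centralizer_le_normalizer _)

section

variable [Finite G] {T K S : Subgroup G}

theorem J_le_normalizer (hK : Cfsg.IsJComponent T K) :
    Cfsg.thompsonSubgroupOf 2 T ≤ normalizer (K : Set G) :=
  le_normalizer_of_commutator_eq hK.2.1

/-- `N_G(W_K) ∈ ℒ(S)` -/
theorem normalizer_wOf_mem (zn : ZN G) (hK : Cfsg.IsJComponent S K)
    (hS : IsSylowIn 2 S (normalizer (Cfsg.wOf K : Set G))) :
    normalizer (Cfsg.wOf K : Set G) ∈ Cfsg.jOvergroups S := by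
  refine ⟨isSylowTwoIn_of hS, ?_, centralizer_pCoreOf_le zn (isPGroup_wOf hK) (wOf_ne_bot hK)⟩
  intro hle
  apply not_isPGroup_of_isJComponent hK
  apply (Cfsg.Agent.Lib.Helper49.pCoreOf_isPGroup 2 (normalizer (Cfsg.wOf K : Set G))).to_le
  conv_lhs => rw [← hK.2.1]
  rw [commutator_comm]
  refine (commutator_mono hle (le_normalizer.trans (normalizer_le_normalizer_wOf K))).trans ?_
  exact le_normalizer_iff_commutator_le_left.mp (Cfsg.Agent.Lib.Helper49.le_normalizer_pCoreOf 2 _)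

theorem wOf_inf_VG_ne_bot (hK : Cfsg.IsJComponent S K)
    (hS : IsSylowIn 2 S (normalizer (Cfsg.wOf K : Set G))) :
    Cfsg.wOf K ⊓ VG (normalizer (Cfsg.wOf K : Set G)) ≠ ⊥ := by
  have h1 := Cfsg.Agent.Lib.Helper10.card_modEq_card_centralizer S (Cfsg.wOf K) hS.isPGroup hS.le
  rw [hK.2.2.2.2.1] at h1
  have hne : Cfsg.wOf K ⊓ centralizer (S : Set G) ≠ ⊥ := by
    intro h
    rw [h, card_bot] at h1
    exact absurd h1 (by decide)
  obtain ⟨⟨z, hz⟩, hz1'⟩ := Subgroup.ne_bot_iff_exists_ne_one.mp hne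
  have hz1 : z ≠ 1 := fun h => hz1' (Subtype.ext h)
  obtain ⟨hzW, hzC⟩ := mem_inf.mp hz
  have hWS : Cfsg.wOf K ≤ S :=
    (Cfsg.Agent.Lib.Helper49.le_pCoreOf le_normalizer le_rfl (isPGroup_wOf hK)).trans
      (Cfsg.Agent.Lib.Helper47.pCoreOf_le_of_isSylowIn hS)
  intro h
  apply hz1
  have : z ∈ Cfsg.wOf K ⊓ VG (normalizer (Cfsg.wOf K : Set G)) := by
    refine mem_inf.mpr ⟨hzW, omegaOne_center_le_VG hS ?_⟩
    apply Subgroup.subset_closure
    exact ⟨mem_inf.mpr ⟨hWS hzW, hzC⟩, by rw [pow_two]; exact hK.2.2.2.2.2 z hzW⟩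
  rwa [h, mem_bot] at this

theorem ne_bot_of_isJComponent (hK : Cfsg.IsJComponent S K) : S ≠ ⊥ := by
  intro h
  apply not_isPGroup_of_isJComponent hK
  have h1 : Cfsg.thompsonSubgroupOf 2 S = ⊥ := by
    rw [eq_bot_iff, ← h]
    exact thompsonSubgroupOf_le' 2 S
  have h2 := hK.2.1
  rw [h1, commutator_bot_right] at h2
  rw [← h2]
  exact IsPGroup.of_bot

/-- `N_G(W_K) ≤ N_G(K)` if `J(S)`, `S` a Sylow `2`-subgroup of `N_G(W_K)`, has `K` as a component -/
theorem normalizer_wOf_le (zn : ZN G) (hK : Cfsg.IsJComponent S K)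
    (hS : IsSylowIn 2 S (normalizer (Cfsg.wOf K : Set G))) :
    normalizer (Cfsg.wOf K : Set G) ≤ normalizer (K : Set G) := by
  intro g hg
  apply mem_normalizer_of_wOf zn (ne_bot_of_isJComponent hK) (normalizer_wOf_mem zn hK hS) hK
    (le_normalizer.trans (normalizer_le_normalizer_wOf K)) (wOf_inf_VG_ne_bot hK hS) hg
  rw [conjS_eq_of_mem_normalizer hg, inf_idem]
  exact wOf_ne_bot hK

end

end Cfsg.Agent.Lib.Helper48
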