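import Mathlib
import Cfsg.Agent.Lib.Helper31.ThompsonTransfer
import Cfsg.Agent.Lib.Helper24.PGroup

set_option autoImplicit false

namespace Cfsg.Agent.Lib.Helper48

variable {G : Type*} [Group G]

open Classical in
/-- The homomorphism onto `{±1}` with kernel a given subgroup of index two. -/
noncomputable def homOfIndexTwo (M : Subgroup G) (h : M.index = 2) : G →* ℤˣ where
  toFun a := if a ∈ M then 1 else -1
  map_one' := by simp [M.one_mem]
  map_mul' a b := by
    have := Subgroup.mul_mem_iff_of_index_two h (a := a) (b := b)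
    by_cases ha : a ∈ M <;> by_cases hb : b ∈ M <;> simp [ha, hb, this]

theorem homOfIndexTwo_eq_one_iff (M : Subgroup G) (h : M.index = 2) (a : G) :
    homOfIndexTwo M h a = 1 ↔ a ∈ M := by
  classical
  by_cases ha : a ∈ M <;> simp [homOfIndexTwo, ha]

/-- A maximal subgroup of a finite `p`-group has index `p`. -/
theorem index_of_isCoatom_of_isPGroup [Finite G] {p : ℕ} [Fact p.Prime] (hG : IsPGroup p G)
    {M : Subgroup G} (hM : IsCoatom M) : M.index = p := by
  have htop : IsPGroup p (⊤ : Subgroup G) := hG.to_subgroup _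
  obtain ⟨M', h1, h2, -, h4, -, -⟩ :=
    Lib.Helper24.exists_maximal_normal p htop (lt_top_iff_ne_top.mpr hM.1)
  have hMM' : M' = M := by
    by_contra hne
    exact h2.ne (hM.2 M' (lt_of_le_of_ne h1 (Ne.symm hne)))
  subst hMM'
  have h5 := M'.card_mul_index
  rw [Subgroup.card_top] at h4
  rw [h4, mul_comm] at h5
  exact Nat.eq_of_mul_eq_mul_right Nat.card_pos h5

/-- Transfer of a central involution of a Sylow 2-subgroup. -/
theorem exists_index_two_of_central_involution [Finite G] (S : Sylow 2 G) (φ : (S : Subgroup G) →* ℤˣ)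
    (z : G) (hz : orderOf z = 2) (hzc : (S : Subgroup G) ≤ Subgroup.centralizer {z})
    (hN : ∀ n ∈ Subgroup.normalizer ((S : Subgroup G) : Set G),
      ∀ h : n⁻¹ * z * n ∈ (S : Subgroup G), φ ⟨_, h⟩ ≠ 1) :
    ∃ K : Subgroup G, K.Normal ∧ K.index = 2 ∧ z ∉ K := by
  have : Fact (Nat.Prime 2) := ⟨Nat.prime_two⟩
  have hne : MonoidHom.transfer φ z ≠ 1 := by
    intro hV
    obtain ⟨k, hk, hk1, hk2⟩ := Lib.Helper31.exists_conj_of_transfer_eq_one (S : Subgroup G)
      S.not_dvd_index φ z ⟨1, by simpa using hz⟩
      (by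
        intro k n hn1 hn2 hk
        rw [hz] at hn2
        have hn : n = 2 := by
          rcases (Nat.dvd_prime Nat.prime_two).mp hn2 with h | h
          · omega
          · exact h
        subst hn
        have h1 : z ^ 2 = 1 := by rw [← hz]; exact pow_orderOf_eq_one z
        have : (⟨k⁻¹ * z ^ 2 * k, hk⟩ : (S : Subgroup G)) = 1 := by
          apply Subtype.ext; simp [h1]
        rw [this, map_one])
      (-1) (by decide) (by decide)
      (fun k hk => Int.units_eq_one_or _) hV (S : Subgroup G) S.2 hzc
    have hkn : k⁻¹ ∈ Subgroup.normalizer ((S : Subgroup G) : Set G) := by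
      have hle : (k⁻¹ • S : Sylow 2 G) = S := by
        have hle' : ((k⁻¹ • S : Sylow 2 G) : Subgroup G) ≤ (S : Subgroup G) := by
          intro x hx
          rw [Sylow.coe_subgroup_smul, Subgroup.mem_pointwise_smul_iff_inv_smul_mem] at hx
          have h1 : k * x * k⁻¹ ∈ (S : Subgroup G) := by
            simpa [MulAut.smul_def, mul_assoc] using hx
          have h2 := hk2 _ h1
          simpa [mul_assoc] using h2
        exact Sylow.ext ((k⁻¹ • S : Sylow 2 G).3 S.2 hle').symm
      exact Sylow.smul_eq_iff_mem_normalizer.mp hle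
    have hkn' : k ∈ Subgroup.normalizer ((S : Subgroup G) : Set G) := by
      simpa using Subgroup.inv_mem _ hkn
    exact hN k hkn' hk hk1
  refine ⟨(MonoidHom.transfer φ).ker, inferInstance, ?_, hne⟩
  rw [Subgroup.index_ker]
  have hr : (MonoidHom.transfer φ).range = ⊤ := by
    rw [eq_top_iff]
    intro u _
    rcases Int.units_eq_one_or u with rfl | rfl
    · exact Subgroup.one_mem _
    · refine ⟨z, ?_⟩
      rcases Int.units_eq_one_or (MonoidHom.transfer φ z) with h | h
      · exact absurd h hne
      · exact h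
  rw [hr, Subgroup.card_top]
  simp

end Cfsg.Agent.Lib.Helper48
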